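import Mathlib
import Cfsg.Agent.Loc.MssSyl

/-!
# Čech complexes of coefficient systems on families of subgroups (definitions)

`G` acts on a set `X` all of whose stabilizers are `p`-groups.  A cochain assigns to a tuple `σ`
of points an element of the coefficient group of the stabilizer of `σ` in `H`, equivariantly.
-/

set_option autoImplicit false

namespace Cfsg.Agent.Chk

open Cfsg.Agent.Loc.Mss Subgroup

variable {G : Type*} [Group G]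

/-- All point stabilizers are `p`-groups and every `p`-subgroup fixes a point. -/
structure Good (p : ℕ) (G X : Type*) [Group G] [MulAction G X] : Prop where
  pg : ∀ x : X, IsPGroup p (MulAction.stabilizer G x)
  fix : ∀ P : Subgroup G, IsPGroup p P → ∃ x : X, ∀ g ∈ P, g • x = x

/-- The stabilizer in `H` of a tuple. -/
def st {X : Type*} [MulAction G X] (H : Subgroup G) {n : ℕ} (σ : Fin n → X) : Subgroup G :=
  H ⊓ MulAction.stabilizer G σ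

theorem mem_st {X : Type*} [MulAction G X] {H : Subgroup G} {n : ℕ} {σ : Fin n → X} {g : G} :
    g ∈ st H σ ↔ g ∈ H ∧ ∀ i, g • σ i = σ i := by
  simp [st, MulAction.mem_stabilizer_iff, funext_iff]

/-- A coefficient system inside one ambient module. -/
structure Sys (G 𝕄 : Type*) [Group G] [AddCommGroup 𝕄] where
  ρ : Subgroup G → 𝕄 →+ 𝕄
  M : Subgroup G → AddSubgroup 𝕄

/-- An `H`-invariant convex family of subgroups. -/
structure Fam (H : Subgroup G) (R : Set (Subgroup G)) : Prop where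
  inv : ∀ h ∈ H, ∀ P ∈ R, cj(h, P) ∈ R
  conv : ∀ P ∈ R, ∀ T ∈ R, ∀ Q, P ≤ Q → Q ≤ T → Q ∈ R

/-- The `i`-th face of a tuple. -/
def face {X : Type*} {n : ℕ} (i : Fin (n + 1)) (σ : Fin (n + 1) → X) : Fin n → X :=
  fun j => σ (i.succAbove j)

/-- The raw alternating sum. -/
def bd {X 𝕄 : Type*} [AddCommGroup 𝕄] {n : ℕ} (f : (Fin n → X) → 𝕄) (σ : Fin (n + 1) → X) : 𝕄 :=
  ∑ i : Fin (n + 1), ((-1 : ℤ) ^ (i : ℕ)) • f (face i σ)

section
variable {𝕄 : Type*} [AddCommGroup 𝕄] [DistribMulAction G 𝕄]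

/-- The laws of a coefficient system, for the acting subgroup `H`. -/
structure Sys.Ok (Θ : Sys G 𝕄) (p : ℕ) (H : Subgroup G) : Prop where
  ρ_smul : ∀ h ∈ H, ∀ P m, Θ.ρ cj(h, P) (h • m) = h • Θ.ρ P m
  M_smul : ∀ h ∈ H, ∀ P, ∀ m ∈ Θ.M P, h • m ∈ Θ.M cj(h, P)
  ρ_ρ : ∀ P Q, P ≤ Q → ∀ m, Θ.ρ P (Θ.ρ Q m) = Θ.ρ P m
  ρ_self : ∀ P, ∀ m ∈ Θ.M P, Θ.ρ P m = m
  ρ_mem : ∀ P Q, P ≤ Q → ∀ m ∈ Θ.M Q, Θ.ρ P m ∈ Θ.M P
  fix : ∀ P, ∀ g ∈ P, ∀ m ∈ Θ.M P, g • m = m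
  exp : ∃ k : ℕ, ∀ P, ∀ m ∈ Θ.M P, p ^ k • m = 0

theorem Sys.Ok.mono {Θ : Sys G 𝕄} {p : ℕ} {H K : Subgroup G} (h : Θ.Ok p H) (hK : K ≤ H) :
    Θ.Ok p K :=
  ⟨fun g hg => h.ρ_smul g (hK hg), fun g hg => h.M_smul g (hK hg), h.ρ_ρ, h.ρ_self, h.ρ_mem,
    h.fix, h.exp⟩

/-- Cochains. -/
structure IsCo {X : Type*} [MulAction G X] (Θ : Sys G 𝕄) (H : Subgroup G)
    (R : Set (Subgroup G)) {n : ℕ} (f : (Fin n → X) → 𝕄) : Prop where
  mem : ∀ σ, st H σ ∈ R → f σ ∈ Θ.M (st H σ)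
  zero : ∀ σ, st H σ ∉ R → f σ = 0
  smul : ∀ h ∈ H, ∀ σ, f (h • σ) = h • f σ

open Classical in
/-- The differential. -/
noncomputable def dd {X : Type*} [MulAction G X] (Θ : Sys G 𝕄) (H : Subgroup G)
    (R : Set (Subgroup G)) {n : ℕ} (f : (Fin n → X) → 𝕄) (σ : Fin (n + 1) → X) : 𝕄 :=
  if st H σ ∈ R then Θ.ρ (st H σ) (bd f σ) else 0

/-- Every cocycle on tuples of length `n + 1` is a coboundary. -/
def Ac (X : Type*) [MulAction G X] (Θ : Sys G 𝕄) (H : Subgroup G) (R : Set (Subgroup G))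
    (n : ℕ) : Prop :=
  ∀ f : (Fin (n + 1) → X) → 𝕄, IsCo Θ H R f → (∀ σ, dd Θ H R f σ = 0) →
    ∃ g : (Fin n → X) → 𝕄, IsCo Θ H R g ∧ ∀ σ, dd Θ H R g σ = f σ

/-- The points of the module fixed by `P`. -/
def fixS (𝕄 : Type*) [AddCommGroup 𝕄] [DistribMulAction G 𝕄] (P : Subgroup G) :
    AddSubgroup 𝕄 where
  carrier := {m | ∀ g ∈ P, g • m = m}
  add_mem' := fun ha hb g hg => by rw [smul_add, ha g hg, hb g hg]
  zero_mem' := fun g _ => smul_zero g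
  neg_mem' := fun ha g hg => by rw [smul_neg, ha g hg]

theorem mem_fixS {P : Subgroup G} {m : 𝕄} : m ∈ fixS 𝕄 P ↔ ∀ g ∈ P, g • m = m := Iff.rfl

/-- The elements of `G` fixing `D` pointwise. -/
def cenS (G : Type*) [Group G] [DistribMulAction G 𝕄] (D : AddSubgroup 𝕄) : Subgroup G where
  carrier := {g | ∀ m ∈ D, g • m = m}
  mul_mem' := fun ha hb m hm => by rw [mul_smul, hb m hm, ha m hm]
  one_mem' := fun m _ => one_smul G m
  inv_mem' := fun ha m hm => by rw [inv_smul_eq_iff, ha m hm]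

theorem mem_cenS {D : AddSubgroup 𝕄} {g : G} : g ∈ cenS G D ↔ ∀ m ∈ D, g • m = m := Iff.rfl

/-- The system of fixed points of a submodule `D`. -/
def modS (G : Type*) [Group G] [DistribMulAction G 𝕄] (D : AddSubgroup 𝕄) : Sys G 𝕄 :=
  ⟨fun _ => AddMonoidHom.id 𝕄, fun P => D ⊓ fixS 𝕄 P⟩

@[simp] theorem modS_ρ (D : AddSubgroup 𝕄) (P : Subgroup G) (m : 𝕄) : (modS G D).ρ P m = m := rfl

theorem mem_modS {D : AddSubgroup 𝕄} {P : Subgroup G} {m : 𝕄} :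
    m ∈ (modS G D).M P ↔ m ∈ D ∧ ∀ g ∈ P, g • m = m := Iff.rfl

/-- `D` is an `H`-invariant submodule of `p`-power exponent. -/
structure Mod (p : ℕ) (H : Subgroup G) (D : AddSubgroup 𝕄) : Prop where
  inv : ∀ h ∈ H, ∀ m ∈ D, h • m ∈ D
  exp : ∃ k : ℕ, ∀ m ∈ D, p ^ k • m = 0

theorem Mod.mono {p : ℕ} {H K : Subgroup G} {D : AddSubgroup 𝕄} (h : Mod p H D) (hK : K ≤ H) :
    Mod p K D := ⟨fun g hg => h.inv g (hK hg), h.exp⟩

theorem smul_mem_fixS {P : Subgroup G} {m : 𝕄} (h : G) (hm : m ∈ fixS 𝕄 P) :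
    h • m ∈ fixS 𝕄 cj(h, P) := fun g hg => by
  have := hm _ (mem_cj.1 hg)
  rw [mul_smul, mul_smul, inv_smul_eq_iff] at this
  exact this

theorem Mod.ok {p : ℕ} {H : Subgroup G} {D : AddSubgroup 𝕄} (h : Mod p H D) :
    (modS G D).Ok p H where
  ρ_smul _ _ _ _ := rfl
  M_smul g hg _ m hm := ⟨h.inv g hg m hm.1, smul_mem_fixS g hm.2⟩
  ρ_ρ _ _ _ _ := rfl
  ρ_self _ _ _ := rfl
  ρ_mem _ _ hPQ _ hm := ⟨hm.1, fun g hg => hm.2 g (hPQ hg)⟩
  fix _ g hg _ hm := hm.2 g hg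
  exp := let ⟨k, hk⟩ := h.exp; ⟨k, fun _ m hm => hk m hm.1⟩

/-- `C` acts on `D` as a `p`-group. -/
def PAct (p : ℕ) (C : Subgroup G) (D : AddSubgroup 𝕄) : Prop :=
  ∀ c ∈ C, ∃ k : ℕ, ∀ m ∈ D, c ^ p ^ k • m = m

/-- A morphism of coefficient systems on the family `R`. -/
structure Hom {𝕄₂ : Type*} [AddCommGroup 𝕄₂] [DistribMulAction G 𝕄₂] (H : Subgroup G)
    (R : Set (Subgroup G)) (Θ₁ : Sys G 𝕄) (Θ₂ : Sys G 𝕄₂) (κ : Subgroup G → 𝕄 →+ 𝕄₂) : Prop where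
  mem : ∀ P ∈ R, P ≤ H → ∀ m ∈ Θ₁.M P, κ P m ∈ Θ₂.M P
  smul : ∀ h ∈ H, ∀ P ∈ R, P ≤ H → ∀ m ∈ Θ₁.M P, κ cj(h, P) (h • m) = h • κ P m
  rho : ∀ P ∈ R, ∀ Q ∈ R, P ≤ Q → Q ≤ H → ∀ m ∈ Θ₁.M Q, κ P (Θ₁.ρ P m) = Θ₂.ρ P (κ Q m)

/-- The cochain map of a morphism. -/
def push {X : Type*} [MulAction G X] {𝕄₁ 𝕄₂ : Type*} [AddCommGroup 𝕄₁] [AddCommGroup 𝕄₂]
    (H : Subgroup G) (κ : Subgroup G → 𝕄₁ →+ 𝕄₂) {n : ℕ} (f : (Fin n → X) → 𝕄₁)
    (σ : Fin n → X) : 𝕄₂ := κ (st H σ) (f σ)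

/-- The pull-back of a system along a homomorphism. -/
def pull {Γ 𝕄₁ : Type*} [Group Γ] [AddCommGroup 𝕄₁] (π : G →* Γ) (Θ : Sys Γ 𝕄₁) : Sys G 𝕄₁ :=
  ⟨fun P => Θ.ρ (P.map π), fun P => Θ.M (P.map π)⟩

/-! ### Offenders -/

/-- `|A| |C_D(A)|`. -/
noncomputable def cw (D : AddSubgroup 𝕄) (A : Subgroup G) : ℕ :=
  Nat.card A * Nat.card ↥(D ⊓ fixS 𝕄 A)

/-- `A` is a (best) offender on `D`; not necessarily abelian, nontrivial or faithful. -/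
def Off (D : AddSubgroup 𝕄) (A : Subgroup G) : Prop := ∀ B ≤ A, cw D B ≤ cw D A

/-- The subgroup generated by all offenders in `P`. -/
def Jall (D : AddSubgroup 𝕄) (P : Subgroup G) : Subgroup G := sSup {A | A ≤ P ∧ Off D A}

end

section
variable (D : Type*) [AddCommGroup D] [DistribMulAction G D]

/-- `P` contains a nontrivial offender. -/
def Large (P : Subgroup G) : Prop := ∃ A ≤ P, A ≠ ⊥ ∧ Off (⊤ : AddSubgroup D) A

/-- Minimal nontrivial offenders. -/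
def MinOff (A : Subgroup G) : Prop :=
  A ≠ ⊥ ∧ Off (⊤ : AddSubgroup D) A ∧ ∀ B < A, B ≠ ⊥ → ¬ Off (⊤ : AddSubgroup D) B

/-- The subgroup generated by the minimal nontrivial offenders in `P`. -/
def Jm (P : Subgroup G) : Subgroup G := sSup {A | A ≤ P ∧ MinOff D A}

variable {D}

/-- `t` is a cocycle along chains through a large subgroup of `S`. -/
def Coc (S : Subgroup G) (t : G → D) : Prop :=
  ∀ P ≤ S, Large D P → ∀ g h : G, P ≤ cj(g, S) → P ≤ cj(g * h, S) → t (g * h) = t g + g • t h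

/-- `b` is an involution acting as a transvection with centre `v`. -/
structure Tv (b : G) (v : D) : Prop where
  sq : b * b = 1
  ne : v ≠ 0
  fix : b • v = v
  two : v + v = 0
  alt : ∀ w : D, b • w = w ∨ b • w = w + v
  ex : ∃ w : D, b • w = w + v

/-- Critical subgroups `Y` of `J`, with centre `v`. -/
structure Crit (J Y : Subgroup G) (v : D) : Prop where
  le : Y ≤ J
  cl : Jm D Y = Y
  ne : Y ≠ ⊥
  ex : ∃ A, MinOff D A ∧ A ≤ J ∧ ¬ A ≤ Y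
  tv : ∀ A, MinOff D A → A ≤ J → ¬ A ≤ Y → ∃ b, A = zpowers b ∧ Tv b v
  ax : ∃ w : D, (∀ y ∈ Y, y • w = w) ∧
    ∀ b, MinOff D (zpowers b) → b ∈ J → b ∉ Y → b • w ≠ w

/-- Admissible transvections for a critical pair. -/
def Adm (Y : Subgroup G) (v : D) (c : G) : Prop :=
  c ∈ 𝐍[Y] ∧ c • v ≠ v ∧ ∃ u : D, Tv c u ∧ ∀ y ∈ Y, y • u = u

end

/-! ### Centric families -/

/-- The `p`-subgroups containing every `p`-element centralizing them. -/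
def Cen (p : ℕ) (G : Type*) [Group G] : Set (Subgroup G) :=
  {P | IsPGroup p P ∧ ∀ x : G, (∃ k : ℕ, x ^ p ^ k = 1) → x ∈ 𝐂[P] → x ∈ P}

/-- The subgroups containing `ker π` whose image is centric. -/
def CC (p : ℕ) {Γ : Type*} [Group Γ] (π : G →* Γ) : Set (Subgroup G) :=
  {P | π.ker ≤ P ∧ P.map π ∈ Cen p Γ}

/-- A central extension with `p`-group kernel, the kernel being written additively as `𝔸`. -/
structure CExt (p : ℕ) {Γ 𝔸 : Type*} [Group Γ] [AddCommGroup 𝔸] (π : G →* Γ) (ι : 𝔸 → G) :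
    Prop where
  surj : Function.Surjective π
  cen : π.ker ≤ center G
  pg : IsPGroup p π.ker
  add : ∀ a b, ι (a + b) = ι a * ι b
  inj : Function.Injective ι
  mem : ∀ a, ι a ∈ π.ker
  ex : ∀ g ∈ π.ker, ∃ a, ι a = g

end Cfsg.Agent.Chk
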