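import Mathlib
import Cfsg.Agent.Chk.Defs
import Cfsg.Agent.Fus.Alperin
import Cfsg.Agent.Fus.FactorSat
import Cfsg.Agent.Fus.Group

/-! A saturated fusion system lying over the fusion system of a central quotient of a group. -/

set_option autoImplicit false

namespace Cfsg.Agent.Chk

open Cfsg.Agent.Loc.Mss Subgroup

/-- `F` is a saturated system on a Sylow subgroup `S` of `G` which agrees with the fusion system
of `G` modulo the central subgroup `ker π`, which it fixes. -/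
structure Over (p : ℕ) {G Γ : Type*} [Group G] [Group Γ] {S : Subgroup G} (F : FusionSystem S)
    (π : G →* Γ) : Prop where
  surj : Function.Surjective π
  cen : π.ker ≤ center G
  syl : Syl p S ⊤
  ker : π.ker ≤ S
  sat : F.IsSaturated p
  fix : ∀ P f, F.Mor P f → ∀ a ∈ π.ker, a ∈ P → f a = a
  down : ∀ P f, F.Mor P f → ∃ g : G, ∀ x ∈ P, π (f x) = π (g * x * g⁻¹)
  up : ∀ (g : G) (P : Subgroup G), π.ker ≤ P → P ≤ S → (∀ x ∈ P, g * x * g⁻¹ ∈ S) →
    ∃ f, F.Mor P f ∧ ∀ x ∈ P, π (f x) = π (g * x * g⁻¹)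

/-- `R₂` is an invariant subfamily of `R` closed under passing to overgroups in `R`. -/
structure Up {G : Type*} [Group G] (H : Subgroup G) (R R₂ : Set (Subgroup G)) : Prop where
  sub : R₂ ⊆ R
  inv : ∀ h ∈ H, ∀ P ∈ R₂, cj(h, P) ∈ R₂
  up : ∀ P ∈ R₂, ∀ Q ∈ R, P ≤ Q → Q ∈ R₂

end Cfsg.Agent.Chk
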