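import Mathlib
import Cfsg.Agent.Chk.Over

/-! Two fusion lemmas for a system lying over a central quotient. -/

set_option autoImplicit false

namespace Cfsg.Agent.Chk

open Cfsg.Agent.Loc.Mss Subgroup

variable {G Γ : Type*} [Group G] [Finite G] [Group Γ] {p : ℕ} [Fact p.Prime] {π : G →* Γ}
  {S : Subgroup G} {F : FusionSystem S}

namespace FusA

open Cfsg.Agent.Fus Cfsg.FusionSystem

omit [Finite G] in
theorem ker_of_eq {x y : G} (e : π x = π y) : x⁻¹ * y ∈ π.ker := by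
  rw [MonoidHom.mem_ker, map_mul, map_inv, e, inv_mul_cancel]

omit [Finite G] in
theorem mem_of_eq {P : Subgroup G} (hP : π.ker ≤ P) {x y : G} (hx : x ∈ P) (e : π x = π y) : y ∈ P := by
  have := mul_mem hx (hP (ker_of_eq e))
  rwa [mul_inv_cancel_left] at this

omit [Finite G] [Fact p.Prime] in
theorem ker_le (h : Over p F π) {P Q : Subgroup G} {f : G → G} (hP : π.ker ≤ P) (hf : F.Iso P Q f) :
    π.ker ≤ Q := fun a ha => h.fix P f hf.mor a ha (hP ha) ▸ hf.maps a (hP ha)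

/-- An automorphism that is trivial modulo the kernel lies in the `p`-core. -/
theorem mem_core (h : Over p F π) {P : Subgroup G} (hP : π.ker ≤ P) (hS : P ≤ S) {α : MulAut P}
    (hα : α ∈ F.autGroup P) (e : ∀ x ∈ P, π (totA α x) = π x) :
    α ∈ pCoreOf p (F.autGroup P) := by
  have hK : F.StronglyClosed π.ker := stronglyClosed_iff.2
    ⟨h.ker, fun Q f hf x hx hk => (h.fix Q f hf x hk hx).symm ▸ hk⟩
  refine GT.le_pCoreOf (autModK_le hK hS) (autGroup_le_normalizer_autModK hK hS) (pg_iff.2 fun β hβ => ?_)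
    (mem_autModK.2 ⟨hα, fun x hx => ker_of_eq (e x hx).symm⟩)
  obtain ⟨k, hk⟩ := IsPGroup.iff_card.1 (h.syl.pg.to_le h.ker)
  obtain ⟨b1, b2⟩ := mem_autModK.1 hβ
  have hm := (F.iso_totA hS b1).mor
  have key : ∀ x ∈ P, ∀ n : ℕ, totA (β ^ n) x = x * (x⁻¹ * totA β x) ^ n := fun x hx n => by
    induction n with
    | zero => rw [pow_zero, totA_one hx, pow_zero, mul_one]
    | succ n ih =>
      have ha := pow_mem (b2 x hx) n
      rw [pow_succ', totA_mul _ _ hx, ih, hm.map_mul hx (hP ha), h.fix P _ hm _ ha (hP ha), pow_succ',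
        ← mul_assoc, mul_inv_cancel_left]
  refine ⟨k, mulAut_ext_totA fun x hx => ?_⟩
  have := congrArg Subtype.val (pow_card_eq_one' (x := (⟨_, b2 x hx⟩ : π.ker)))
  rw [hk] at this
  rw [key x hx, totA_one hx, show (x⁻¹ * totA β x) ^ p ^ k = 1 from this, mul_one]

end FusA

open FusA Cfsg.Agent.Fus Cfsg.FusionSystem

theorem Over.mem_cc (h : Over p F π) {R : Subgroup G} (hR : R = S ∨ F.IsEssential p R) :
    R ∈ CC p π := by
  have hc := centric_of_top_or_essential hR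
  have hr := h.sat.radical_of_top_or_essential h.syl.pg hR
  have hk : π.ker ≤ R := fun a ha => hc.mem (h.ker ha) (center_le_centralizer _ (h.cen ha))
  have hp : IsPGroup p (R.map π) := (h.syl.pg.to_le hc.le).map π
  refine ⟨hk, hp, fun y ⟨k, hy⟩ hc' => ?_⟩
  obtain ⟨x, rfl⟩ := h.surj y
  have hz : IsPGroup p (zpowers (π x)) := pg_iff.2 (by
    rintro _ ⟨n, rfl⟩
    refine ⟨k, ?_⟩
    show (π x ^ n) ^ p ^ k = 1
    rw [← zpow_natCast, ← zpow_mul, mul_comm, zpow_mul, zpow_natCast, hy, one_zpow])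
  have hQ : IsPGroup p ((R.map π ⊔ zpowers (π x)).comap π) :=
    (pg_sup' hp hz (norm_of_cent (zpowers_le.2 hc'))).comap_of_ker_isPGroup π
      (h.syl.pg.to_le h.ker)
  obtain ⟨g, -, hg⟩ := h.syl.conj_le hQ le_top
  obtain ⟨f, hf, ef⟩ := h.up g R hk hc.le fun y hy =>
    cj_le_iff.1 hg y (mem_sup_left (mem_map_of_mem π hy))
  have hx : g * x * g⁻¹ ∈ S := cj_le_iff.1 hg x (mem_sup_right (mem_zpowers _))
  have hi := hf.iso_img
  have hk' := ker_le h hk hi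
  have e : ∀ y ∈ img f R, π (g * x * g⁻¹ * y * (g * x * g⁻¹)⁻¹) = π y := fun y hy => by
    obtain ⟨z, hz, rfl⟩ := hi.surj y hy
    have := mem_cent.1 hc' _ (mem_map_of_mem π hz)
    simp only [map_mul, map_inv, ef z hz]
    calc _ = π g * (π x * π z) * (π x)⁻¹ * (π g)⁻¹ := by group
      _ = _ := by rw [← this]; group
  have hn : g * x * g⁻¹ ∈ 𝐍[img f R] :=
    mem_norm_of_cj_le (cj_le_iff.2 fun y hy => mem_of_eq hk' hy (e y hy).symm)
  have h1 := mem_core h hk' hi.le_right (F.cAut_mem_autGroup hi.le_right ⟨hx, hn⟩) fun y hy => by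
    rw [totA_cAut hn hy, e y hy]
  rw [(hr.of_isConj hi.isConj).pCoreOf_eq,
    (hc.of_isConj hi.isConj).cAut_mem_inn_iff ⟨hx, hn⟩] at h1
  obtain ⟨z, hz, ez⟩ := hi.surj _ h1
  have := ef z hz
  rw [ez] at this
  simp only [map_mul, mul_left_inj, mul_right_inj] at this
  exact ⟨z, hz, this.symm⟩

theorem Over.uniq (h : Over p F π) {P : Subgroup G} (hP : P ∈ CC p π) {f f' : G → G}
    (hf : F.Mor P f) (hf' : F.Mor P f') (e : ∀ x ∈ P, π (f x) = π (f' x)) :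
    ∃ z ∈ P, ∀ x ∈ P, f' x = f (z * x * z⁻¹) := by
  obtain ⟨hk, hc⟩ := hP
  obtain ⟨P', hP', hA, -⟩ := h.sat P hf.le
  obtain ⟨χ, hχ⟩ := hP'.exists_iso
  obtain ⟨g, hg, g1, -⟩ := hf.inv
  have e1 : ∀ x ∈ P, f' x = f (x * ((f x)⁻¹ * f' x)) := fun x hx => by
    have ha := ker_of_eq (e x hx)
    rw [hf.map_mul hx (hk ha), h.fix P f hf _ ha (hk ha), mul_inv_cancel_left]
  have e2 : ∀ x ∈ P, x * ((f x)⁻¹ * f' x) ∈ P := fun x hx => mul_mem hx (hk (ker_of_eq (e x hx)))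
  have hψ : F.Iso P P fun x => x * ((f x)⁻¹ * f' x) :=
    ((hg.mor.comp hf' fun x hx => by rw [e1 x hx]; exact mem_img_of_mem (e2 x hx)).congr
      fun x hx => by rw [e1 x hx, g1 _ (e2 x hx), ← e1 x hx]).iso_self e2
  have e3 : ∀ x ∈ P, totA (hχ.autCongr hψ.aut) (χ x) = χ (x * ((f x)⁻¹ * f' x)) := fun x hx => by
    rw [hχ.totA_autCongr _ hx, hψ.totA_aut hx]
  have e4 : ∀ x ∈ P, π (χ (x * ((f x)⁻¹ * f' x))) = π (χ x) := fun x hx => by
    have ha := ker_of_eq (e x hx)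
    rw [hχ.mor.map_mul hx (hk ha), h.fix P χ hχ.mor _ ha (hk ha), map_mul, MonoidHom.mem_ker.1 ha,
      mul_one]
  have h1 := mem_core h (ker_le h hk hχ) hχ.le_right (hχ.autCongr_mem_iff.2 hψ.aut_mem)
    fun y hy => by
      obtain ⟨x, hx, rfl⟩ := hχ.surj y hy
      rw [e3 x hx, e4 x hx]
  obtain ⟨s, hs, es⟩ := mem_autInducedBy.1 (hA.pCoreOf_le h.syl.pg h1)
  have e5 : ∀ x ∈ P, χ (x * ((f x)⁻¹ * f' x)) = s * χ x * s⁻¹ := fun x hx => by
    rw [← e3 x hx, totA_apply _ (hχ.maps x hx), es]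
  obtain ⟨u, hu⟩ := h.down P χ hχ.mor
  obtain ⟨k, ek⟩ := pg_iff.1 h.syl.pg s hs
  obtain ⟨z, hz, ez⟩ := hc.2 (π (u⁻¹ * s * u⁻¹⁻¹)) ⟨k, by rw [← map_pow, conj_pow, ek]; simp⟩
    (mem_cent.2 (by
      rintro _ ⟨x, hx, rfl⟩
      have := e4 x hx
      rw [e5 x hx] at this
      simp only [map_mul, map_inv, hu x hx, inv_inv] at this ⊢
      calc _ = (π u)⁻¹ * (π u * π x * (π u)⁻¹) * π s * π u := by group
        _ = _ := by rw [← this]; group))
  have h2 : s ∈ P' := mem_of_eq (ker_le h hk hχ) (hχ.maps z hz) (by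
    rw [hu z hz, map_mul, map_mul, ez]; simp [mul_assoc])
  obtain ⟨w, hw, rfl⟩ := hχ.surj s h2
  refine ⟨w, hw, fun x hx => ?_⟩
  rw [e1 x hx, hχ.mor.inj (e2 x hx) (mul_mem (mul_mem hw hx) (inv_mem hw))
    ((e5 x hx).trans (hχ.mor.map_conj hw hx).symm)]

end Cfsg.Agent.Chk
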