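import Mathlib
import Cfsg.Agent.Chk.Over

set_option autoImplicit false

namespace Cfsg.Agent.Chk

open Cfsg.Agent.Loc.Mss Subgroup

variable {G : Type*} [Group G] {X : Type*} [MulAction G X] {𝕄 : Type*} [AddCommGroup 𝕄]
  [DistribMulAction G 𝕄] {Θ : Sys G 𝕄} {p : ℕ} {H : Subgroup G} {R R' R₂ : Set (Subgroup G)}
  {n : ℕ}

theorem st_le (H : Subgroup G) (σ : Fin n → X) : st H σ ≤ H := inf_le_left

theorem st_smul {h : G} (hh : h ∈ H) (σ : Fin n → X) : st H (h • σ) = cj(h, st H σ) := by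
  ext g
  rw [mem_cj, mem_st, mem_st]
  constructor
  · rintro ⟨h1, h2⟩
    refine ⟨mul_mem (mul_mem (inv_mem hh) h1) hh, fun i => ?_⟩
    have := h2 i
    rw [Pi.smul_apply] at this
    rw [mul_smul, mul_smul, this, inv_smul_smul]
  · rintro ⟨h1, h2⟩
    refine ⟨?_, fun i => ?_⟩
    · have := mul_mem (mul_mem hh h1) (inv_mem hh)
      simpa [mul_assoc] using this
    · have := h2 i
      rw [mul_smul, mul_smul, inv_smul_eq_iff] at this
      exact this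

theorem st_le_face (H : Subgroup G) (i : Fin (n + 1)) (σ : Fin (n + 1) → X) :
    st H σ ≤ st H (face i σ) := fun _ hg =>
  mem_st.2 ⟨(mem_st.1 hg).1, fun _ => (mem_st.1 hg).2 _⟩

theorem st_pg (hX : Good p G X) (H : Subgroup G) (σ : Fin (n + 1) → X) :
    IsPGroup p (st H σ) :=
  (hX.pg (σ 0)).to_le fun _ hg => MulAction.mem_stabilizer_iff.2 ((mem_st.1 hg).2 0)

theorem mem_st_one {x : X} {g : G} : g ∈ st H ![x] ↔ g ∈ H ∧ g • x = x := by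
  simp [mem_st]

theorem mem_st_two {x y : X} {g : G} : g ∈ st H ![x, y] ↔ g ∈ H ∧ g • x = x ∧ g • y = y := by
  simp [mem_st, Fin.forall_fin_succ]

theorem mem_st_three {x y z : X} {g : G} :
    g ∈ st H ![x, y, z] ↔ g ∈ H ∧ g • x = x ∧ g • y = y ∧ g • z = z := by
  simp [mem_st, Fin.forall_fin_succ]

theorem mem_st_cons {x : X} {σ : Fin n → X} {g : G} :
    g ∈ st H (Fin.cons x σ : Fin (n + 1) → X) ↔ g • x = x ∧ g ∈ st H σ := by
  simp only [mem_st, Fin.forall_fin_succ, Fin.cons_zero, Fin.cons_succ]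
  tauto

theorem st_zero (H : Subgroup G) (σ : Fin 0 → X) : st H σ = H := by
  ext g; simp [mem_st]

theorem Good.of_syl [Finite G] [Fact p.Prime] (hX : Good p G X) {T : Subgroup G}
    (hT : Syl p T H) : ∃ y : X, st H ![y] = T := by
  obtain ⟨y, hy⟩ := hX.fix T hT.pg
  exact ⟨y, hT.eq_of_le (st_pg hX H _) (fun g hg => mem_st_one.2 ⟨hT.le hg, hy g hg⟩) (st_le _ _)⟩

theorem Good.exists_syl [Finite G] [Fact p.Prime] (hX : Good p G X) {P : Subgroup G}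
    (hP : IsPGroup p P) (hle : P ≤ H) : ∃ y : X, P ≤ st H ![y] ∧ Syl p (st H ![y]) H := by
  obtain ⟨T, hPT, hT⟩ := Syl.exists_ge hP hle
  obtain ⟨y, hy⟩ := hX.of_syl hT
  exact ⟨y, hy ▸ hPT, hy ▸ hT⟩

theorem good_quotient [Finite G] [Fact p.Prime] {S : Subgroup G} (hS : Syl p S ⊤) :
    Good p G (G ⧸ S) := by
  constructor
  · intro x
    obtain ⟨g, rfl⟩ := QuotientGroup.mk_surjective x
    refine (pg_cj hS.pg g).to_le fun h hh => mem_cj.2 ?_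
    rw [MulAction.mem_stabilizer_iff, MulAction.Quotient.smul_mk, QuotientGroup.eq] at hh
    have := inv_mem hh
    simpa [mul_assoc] using this
  · intro P hP
    obtain ⟨g, -, hg⟩ := hS.le_conj hP le_top
    refine ⟨(g : G ⧸ S), fun h hh => ?_⟩
    rw [MulAction.Quotient.smul_mk, QuotientGroup.eq]
    have := inv_mem (mem_cj.1 (hg hh))
    simpa [mul_assoc] using this

omit [MulAction G X] [DistribMulAction G 𝕄] in
theorem bd_cons (f : (Fin (n + 1) → X) → 𝕄) (x : X) (σ : Fin (n + 1) → X) :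
    bd f (Fin.cons x σ : Fin (n + 2) → X) =
      f σ - bd (fun τ : Fin n → X => f (Fin.cons x τ : Fin (n + 1) → X)) σ := by
  unfold bd
  rw [Fin.sum_univ_succ, sub_eq_add_neg, ← Finset.sum_neg_distrib]
  congr 1
  · simp only [Fin.val_zero, pow_zero, one_smul]
    congr 1
  · refine Finset.sum_congr rfl fun i _ => ?_
    rw [Fin.val_succ, pow_succ, mul_neg_one, neg_smul]
    congr 3
    funext j
    refine Fin.cases ?_ (fun j => ?_) j
    · simp [face]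
    · simp [face]

omit [MulAction G X] [DistribMulAction G 𝕄] in
theorem bd_zero (f : (Fin 0 → X) → 𝕄) (σ : Fin 1 → X) : bd f σ = f ![] := by
  unfold bd
  rw [Fin.sum_univ_one]
  simp only [Fin.val_zero, pow_zero, one_smul]
  congr 1
  exact Subsingleton.elim _ _

omit [MulAction G X] [DistribMulAction G 𝕄] in
theorem bd_one (f : (Fin 1 → X) → 𝕄) (x y : X) : bd f ![x, y] = f ![y] - f ![x] := by
  have := bd_cons f x ![y]
  rw [bd_zero] at this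
  exact this

omit [MulAction G X] [DistribMulAction G 𝕄] in
theorem bd_two (f : (Fin 2 → X) → 𝕄) (x y z : X) :
    bd f ![x, y, z] = f ![y, z] - f ![x, z] + f ![x, y] := by
  have := bd_cons f x ![y, z]
  rw [bd_one] at this
  refine this.trans ?_
  show f ![y, z] - (f ![x, z] - f ![x, y]) = _
  abel

omit [MulAction G X] [DistribMulAction G 𝕄] in
theorem bd_add (f g : (Fin n → X) → 𝕄) (σ : Fin (n + 1) → X) :
    bd (f + g) σ = bd f σ + bd g σ := by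
  simp [bd, Finset.sum_add_distrib]

omit [MulAction G X] [DistribMulAction G 𝕄] in
theorem bd_sub (f g : (Fin n → X) → 𝕄) (σ : Fin (n + 1) → X) :
    bd (f - g) σ = bd f σ - bd g σ := by
  simp [bd, Finset.sum_sub_distrib, smul_sub]

omit [MulAction G X] [DistribMulAction G 𝕄] in
theorem bd_bd (f : (Fin n → X) → 𝕄) (σ : Fin (n + 2) → X) : bd (bd f) σ = 0 := by
  induction n with
  | zero =>
    rw [← Fin.cons_self_tail σ, bd_cons, bd_zero, bd_zero, bd_zero, sub_self]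
  | succ n ih =>
    rw [← Fin.cons_self_tail σ, bd_cons]
    have : (fun τ : Fin (n + 1) → X => bd f (Fin.cons (σ 0) τ : Fin (n + 2) → X)) =
        f - bd (fun τ : Fin n → X => f (Fin.cons (σ 0) τ : Fin (n + 1) → X)) :=
      funext fun τ => bd_cons f _ τ
    rw [this, bd_sub, ih, sub_zero, sub_self]

theorem bd_smul {h : G} {f : (Fin n → X) → 𝕄} (hf : ∀ σ, f (h • σ) = h • f σ)
    (σ : Fin (n + 1) → X) : bd f (h • σ) = h • bd f σ := by
  unfold bd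
  rw [Finset.smul_sum]
  refine Finset.sum_congr rfl fun i _ => ?_
  rw [smul_comm, ← hf]; rfl

omit [MulAction G X] [DistribMulAction G 𝕄] in
theorem map_bd {𝕄₂ : Type*} [AddCommGroup 𝕄₂] (φ : 𝕄 →+ 𝕄₂) (f : (Fin n → X) → 𝕄)
    (σ : Fin (n + 1) → X) : φ (bd f σ) = bd (fun τ => φ (f τ)) σ := by
  simp [bd, map_sum]

omit [MulAction G X] [DistribMulAction G 𝕄] in
theorem bd_congr {f g : (Fin n → X) → 𝕄} {σ : Fin (n + 1) → X}
    (h : ∀ i, f (face i σ) = g (face i σ)) : bd f σ = bd g σ :=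
  Finset.sum_congr rfl fun i _ => by rw [h i]

omit [MulAction G X] [DistribMulAction G 𝕄] in
theorem bd_eq_zero {f : (Fin n → X) → 𝕄} {σ : Fin (n + 1) → X}
    (h : ∀ i, f (face i σ) = 0) : bd f σ = 0 :=
  Finset.sum_eq_zero fun i _ => by rw [h i, smul_zero]

omit [DistribMulAction G 𝕄] in
theorem dd_pos {f : (Fin n → X) → 𝕄} {σ : Fin (n + 1) → X} (h : st H σ ∈ R) :
    dd Θ H R f σ = Θ.ρ (st H σ) (bd f σ) := if_pos h

omit [DistribMulAction G 𝕄] in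
theorem dd_neg {f : (Fin n → X) → 𝕄} {σ : Fin (n + 1) → X} (h : st H σ ∉ R) :
    dd Θ H R f σ = 0 := if_neg h

omit [DistribMulAction G 𝕄] in
theorem dd_add (f g : (Fin n → X) → 𝕄) (σ : Fin (n + 1) → X) :
    dd Θ H R (f + g) σ = dd Θ H R f σ + dd Θ H R g σ := by
  by_cases h : st H σ ∈ R
  · simp only [dd_pos h, bd_add, map_add]
  · simp only [dd_neg h, add_zero]

omit [DistribMulAction G 𝕄] in
theorem dd_sub (f g : (Fin n → X) → 𝕄) (σ : Fin (n + 1) → X) :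
    dd Θ H R (f - g) σ = dd Θ H R f σ - dd Θ H R g σ := by
  by_cases h : st H σ ∈ R
  · simp only [dd_pos h, bd_sub, map_sub]
  · simp only [dd_neg h, sub_zero]

omit [DistribMulAction G 𝕄] in
theorem dd_zero (σ : Fin (n + 1) → X) : dd Θ H R (0 : (Fin n → X) → 𝕄) σ = 0 := by
  by_cases h : st H σ ∈ R
  · rw [dd_pos h, bd_eq_zero fun _ => rfl, map_zero]
  · exact dd_neg h

theorem IsCo.zero' : IsCo Θ H R (0 : (Fin n → X) → 𝕄) :=
  ⟨fun _ _ => zero_mem _, fun _ _ => rfl, fun h _ _ => (smul_zero h).symm⟩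

theorem IsCo.add {f g : (Fin n → X) → 𝕄} (hf : IsCo Θ H R f) (hg : IsCo Θ H R g) :
    IsCo Θ H R (f + g) :=
  ⟨fun σ h => add_mem (hf.mem σ h) (hg.mem σ h),
    fun σ h => by rw [Pi.add_apply, hf.zero σ h, hg.zero σ h, add_zero],
    fun h hh σ => by rw [Pi.add_apply, Pi.add_apply, hf.smul h hh, hg.smul h hh, smul_add]⟩

theorem IsCo.sub {f g : (Fin n → X) → 𝕄} (hf : IsCo Θ H R f) (hg : IsCo Θ H R g) :
    IsCo Θ H R (f - g) :=
  ⟨fun σ h => sub_mem (hf.mem σ h) (hg.mem σ h),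
    fun σ h => by rw [Pi.sub_apply, hf.zero σ h, hg.zero σ h, sub_zero],
    fun h hh σ => by rw [Pi.sub_apply, Pi.sub_apply, hf.smul h hh, hg.smul h hh, smul_sub]⟩

theorem IsCo.mem' {f : (Fin n → X) → 𝕄} (hf : IsCo Θ H R f) (σ : Fin n → X) :
    f σ ∈ Θ.M (st H σ) := by
  by_cases h : st H σ ∈ R
  · exact hf.mem σ h
  · rw [hf.zero σ h]; exact zero_mem _

theorem st_smul_mem_iff (hR : ∀ h ∈ H, ∀ P ∈ R, cj(h, P) ∈ R) {h : G} (hh : h ∈ H)
    (σ : Fin n → X) : st H (h • σ) ∈ R ↔ st H σ ∈ R := by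
  rw [st_smul hh]
  exact ⟨fun h' => by simpa only [cj_inv_cj] using hR _ (inv_mem hh) _ h', hR h hh _⟩

theorem IsCo.dd (hΘ : Θ.Ok p H) (hR : ∀ h ∈ H, ∀ P ∈ R, cj(h, P) ∈ R) {f : (Fin n → X) → 𝕄}
    (hf : IsCo Θ H R f) : IsCo Θ H R (dd Θ H R f) := by
  refine ⟨fun σ h => ?_, fun σ h => dd_neg h, fun h hh σ => ?_⟩
  · rw [dd_pos h, map_bd]
    exact sum_mem fun i _ => zsmul_mem (hΘ.ρ_mem _ _ (st_le_face H i σ) _ (hf.mem' _)) _
  · by_cases hσ : st H σ ∈ R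
    · rw [dd_pos hσ, dd_pos ((st_smul_mem_iff hR hh σ).2 hσ), bd_smul (hf.smul h hh), st_smul hh,
        hΘ.ρ_smul h hh]
    · rw [dd_neg hσ, dd_neg (fun h' => hσ ((st_smul_mem_iff hR hh σ).1 h')), smul_zero]

theorem dd_dd (hΘ : Θ.Ok p H) (hR : Fam H R) {f : (Fin n → X) → 𝕄} (hf : IsCo Θ H R f)
    (σ : Fin (n + 2) → X) : dd Θ H R (dd Θ H R f) σ = 0 := by
  by_cases h : st H σ ∈ R
  · rw [dd_pos h, map_bd, ← map_zero (Θ.ρ (st H σ)), ← bd_bd f σ, map_bd]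
    refine bd_congr fun i => ?_
    by_cases hi : st H (face i σ) ∈ R
    · rw [dd_pos hi, hΘ.ρ_ρ _ _ (st_le_face H i σ)]
    · rw [dd_neg hi, bd_eq_zero fun j => hf.zero _ fun hj => hi ?_]
      exact hR.conv _ h _ hj _ (st_le_face H i σ) (st_le_face H j _)
  · exact dd_neg h

theorem Up.fam (hR : Fam H R) (h2 : Up H R R₂) : Fam H R₂ :=
  ⟨h2.inv, fun P hP T hT Q h1 h3 =>
    h2.up P hP Q (hR.conv P (h2.sub hP) T (h2.sub hT) Q h1 h3) h1⟩

theorem Up.fam_diff (hR : Fam H R) (h2 : Up H R R₂) : Fam H (R \ R₂) :=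
  ⟨fun h hh P hP => ⟨hR.inv h hh P hP.1, fun h' => hP.2 (by
      simpa only [cj_inv_cj] using h2.inv _ (inv_mem hh) _ h')⟩,
    fun P hP T hT Q h1 h3 => ⟨hR.conv P hP.1 T hT.1 Q h1 h3, fun h' =>
      hT.2 (h2.up Q h' T hT.1 h3)⟩⟩

open Classical in
/-- Truncation of a cochain to a subfamily. -/
noncomputable def tr (H : Subgroup G) (R₂ : Set (Subgroup G)) (f : (Fin n → X) → 𝕄)
    (σ : Fin n → X) : 𝕄 := if st H σ ∈ R₂ then f σ else 0

omit [DistribMulAction G 𝕄] in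
theorem tr_pos {f : (Fin n → X) → 𝕄} {σ : Fin n → X} (h : st H σ ∈ R₂) : tr H R₂ f σ = f σ :=
  if_pos h

omit [DistribMulAction G 𝕄] in
theorem tr_neg {f : (Fin n → X) → 𝕄} {σ : Fin n → X} (h : st H σ ∉ R₂) : tr H R₂ f σ = 0 :=
  if_neg h

theorem IsCo.tr (h2 : ∀ h ∈ H, ∀ P ∈ R₂, cj(h, P) ∈ R₂) {f : (Fin n → X) → 𝕄}
    (hf : IsCo Θ H R f) : IsCo Θ H R₂ (tr H R₂ f) := by
  refine ⟨fun σ h => by rw [tr_pos h]; exact hf.mem' σ, fun σ h => tr_neg h, fun h hh σ => ?_⟩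
  by_cases hσ : st H σ ∈ R₂
  · rw [tr_pos hσ, tr_pos ((st_smul_mem_iff h2 hh σ).2 hσ), hf.smul h hh]
  · rw [tr_neg hσ, tr_neg (fun h' => hσ ((st_smul_mem_iff h2 hh σ).1 h')), smul_zero]

theorem IsCo.of_sub (h : R' ⊆ R) {f : (Fin n → X) → 𝕄} (hf : IsCo Θ H R' f) : IsCo Θ H R f :=
  ⟨fun σ _ => hf.mem' σ, fun σ hσ => hf.zero σ fun h' => hσ (h h'), hf.smul⟩

theorem IsCo.to_diff {f : (Fin n → X) → 𝕄} (hf : IsCo Θ H R f)
    (h : ∀ σ, st H σ ∈ R₂ → f σ = 0) : IsCo Θ H (R \ R₂) f :=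
  ⟨fun σ _ => hf.mem' σ, fun σ hσ => by
    by_cases h' : st H σ ∈ R₂
    · exact h σ h'
    · exact hf.zero σ fun h'' => hσ ⟨h'', h'⟩, hf.smul⟩

theorem dd_tr (h2 : Up H R R₂) {f : (Fin n → X) → 𝕄} (hf : IsCo Θ H R f) {σ : Fin (n + 1) → X}
    (h : st H σ ∈ R₂) : dd Θ H R₂ (tr H R₂ f) σ = dd Θ H R f σ := by
  rw [dd_pos h, dd_pos (h2.sub h)]
  congr 1
  refine bd_congr fun i => ?_
  by_cases hi : st H (face i σ) ∈ R₂
  · exact tr_pos hi
  · rw [tr_neg hi, hf.zero _ fun h' => hi (h2.up _ h _ h' (st_le_face H i σ))]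

omit [DistribMulAction G 𝕄] in
theorem dd_up (h2 : Up H R R₂) (f : (Fin n → X) → 𝕄) {σ : Fin (n + 1) → X}
    (h : st H σ ∈ R₂) : dd Θ H R f σ = dd Θ H R₂ f σ := by
  rw [dd_pos h, dd_pos (h2.sub h)]

theorem dd_diff (h2 : Up H R R₂) {f : (Fin n → X) → 𝕄} (hf : IsCo Θ H (R \ R₂) f)
    (σ : Fin (n + 1) → X) : dd Θ H (R \ R₂) f σ = dd Θ H R f σ := by
  by_cases h : st H σ ∈ R
  · by_cases h' : st H σ ∈ R₂
    · rw [dd_neg (fun h'' => h''.2 h'), dd_pos h, bd_eq_zero fun i => hf.zero _ fun hi =>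
        hi.2 (h2.up _ h' _ hi.1 (st_le_face H i σ)), map_zero]
    · rw [dd_pos h, dd_pos (show st H σ ∈ R \ R₂ from ⟨h, h'⟩)]
  · rw [dd_neg h, dd_neg fun h' => h h'.1]

theorem les1 (hΘ : Θ.Ok p H) (hR : Fam H R) (h2 : Up H R R₂) (h₁ : Ac X Θ H (R \ R₂) n)
    (h₂ : Ac X Θ H R₂ n) : Ac X Θ H R n := by
  intro f hf hd
  obtain ⟨g, hg, e⟩ := h₂ _ (hf.tr h2.inv) fun σ => by
    by_cases h : st H σ ∈ R₂
    · rw [dd_tr h2 hf h, hd]
    · exact dd_neg h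
  have hg' := hg.of_sub h2.sub
  have hk : IsCo Θ H (R \ R₂) (f - dd Θ H R g) :=
    (hf.sub (hg'.dd hΘ hR.inv)).to_diff fun σ h => by
      rw [Pi.sub_apply, dd_up h2 g h, e, tr_pos h, sub_self]
  obtain ⟨k, hk', e'⟩ := h₁ _ hk fun σ => by
    rw [dd_diff h2 hk, dd_sub, hd, dd_dd hΘ hR hg', sub_self]
  refine ⟨g + k, hg'.add (hk'.of_sub Set.diff_subset), fun σ => ?_⟩
  rw [dd_add, ← dd_diff h2 hk', e', Pi.sub_apply, add_sub_cancel]

theorem les2 (hΘ : Θ.Ok p H) (hR : Fam H R) (h2 : Up H R R₂) (h : Ac X Θ H R (n + 1))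
    (h₂ : Ac X Θ H R₂ n) : Ac X Θ H (R \ R₂) (n + 1) := by
  intro f hf hd
  obtain ⟨g, hg, e⟩ := h f (hf.of_sub Set.diff_subset) fun σ => by rw [← dd_diff h2 hf, hd]
  obtain ⟨k, hk, e'⟩ := h₂ _ (hg.tr h2.inv) fun σ => by
    by_cases h : st H σ ∈ R₂
    · rw [dd_tr h2 hg h, e, hf.zero σ fun h' => h'.2 h]
    · exact dd_neg h
  have hk' := hk.of_sub h2.sub
  have hm : IsCo Θ H (R \ R₂) (g - dd Θ H R k) :=
    (hg.sub (hk'.dd hΘ hR.inv)).to_diff fun σ h => by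
      rw [Pi.sub_apply, dd_up h2 k h, e', tr_pos h, sub_self]
  exact ⟨_, hm, fun σ => by rw [dd_diff h2 hm, dd_sub, e, dd_dd hΘ hR hk', sub_zero]⟩

theorem les3 (hΘ : Θ.Ok p H) (hR : Fam H R) (h2 : Up H R R₂) (h : Ac X Θ H R n)
    (h₁ : Ac X Θ H (R \ R₂) (n + 1)) : Ac X Θ H R₂ n := by
  intro f hf hd
  have hf' := hf.of_sub h2.sub
  have hm : IsCo Θ H (R \ R₂) (dd Θ H R f) :=
    (hf'.dd hΘ hR.inv).to_diff fun σ h => by rw [dd_up h2 f h, hd]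
  obtain ⟨g, hg, e⟩ := h₁ _ hm fun σ => by rw [dd_diff h2 hm, dd_dd hΘ hR hf']
  obtain ⟨k, hk, e'⟩ := h _ (hf'.sub (hg.of_sub Set.diff_subset)) fun σ => by
    rw [dd_sub, ← dd_diff h2 hg, e, sub_self]
  refine ⟨_, hk.tr h2.inv, fun σ => ?_⟩
  by_cases hσ : st H σ ∈ R₂
  · rw [dd_tr h2 hk hσ, e', Pi.sub_apply, hg.zero σ fun h' => h'.2 hσ, sub_zero]
  · rw [dd_neg hσ, hf.zero σ hσ]

theorem IsCo.congr {f : (Fin n → X) → 𝕄} (hf : IsCo Θ H R f)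
    (h : ∀ σ : Fin n → X, st H σ ∈ R ↔ st H σ ∈ R') : IsCo Θ H R' f :=
  ⟨fun σ _ => hf.mem' σ, fun σ hσ => hf.zero σ fun h' => hσ ((h σ).1 h'), hf.smul⟩

omit [DistribMulAction G 𝕄] in
theorem dd_congr_fam (f : (Fin n → X) → 𝕄) {σ : Fin (n + 1) → X}
    (h : st H σ ∈ R ↔ st H σ ∈ R') : dd Θ H R f σ = dd Θ H R' f σ := by
  by_cases hσ : st H σ ∈ R
  · rw [dd_pos hσ, dd_pos (h.1 hσ)]
  · rw [dd_neg hσ, dd_neg fun h' => hσ (h.2 h')]

theorem Ac.congr (hX : Good p G X) (h : ∀ P ≤ H, IsPGroup p P → (P ∈ R ↔ P ∈ R'))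
    (hA : Ac X Θ H R (n + 1)) : Ac X Θ H R' (n + 1) := by
  have k : ∀ {m : ℕ} (σ : Fin (m + 1) → X), st H σ ∈ R ↔ st H σ ∈ R' :=
    fun σ => h _ (st_le _ _) (st_pg hX H σ)
  intro f hf hd
  obtain ⟨g, hg, e⟩ := hA f (hf.congr fun σ => (k σ).symm) fun σ => by
    rw [dd_congr_fam f (k σ), hd]
  exact ⟨g, hg.congr k, fun σ => by rw [← dd_congr_fam g (k σ), e]⟩

theorem ac_of_empty (hX : Good p G X) (h : ∀ P ≤ H, IsPGroup p P → P ∉ R) : Ac X Θ H R n :=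
  fun _ hf _ => ⟨0, IsCo.zero', fun σ => by
    rw [dd_zero, hf.zero σ (h _ (st_le _ _) (st_pg hX H σ))]⟩

omit [MulAction G X] in
theorem eq_one_tuple (σ : Fin 1 → X) : σ = ![σ 0] := by
  funext i; rw [Subsingleton.elim i 0]; rfl

omit [MulAction G X] in
theorem eq_two_tuple (σ : Fin 2 → X) : σ = ![σ 0, σ 1] := by
  funext i; fin_cases i <;> rfl

omit [MulAction G X] in
theorem eq_three_tuple (σ : Fin 3 → X) : σ = ![σ 0, σ 1, σ 2] := by
  funext i; fin_cases i <;> rfl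

theorem ac_zero [Finite G] [Fact p.Prime] (hX : Good p G X) (hΘ : Θ.Ok p H)
    (h : ∀ T, Syl p T H → T ∉ R) : Ac X Θ H R 0 := by
  intro f hf hd
  refine ⟨0, IsCo.zero', fun σ => ?_⟩
  rw [dd_zero, eq_one_tuple σ]
  set x := σ 0
  by_cases hx : st H ![x] ∈ R
  · obtain ⟨y, hy, hs⟩ := hX.exists_syl (st_pg hX H ![x]) (st_le _ _)
    have e : st H ![x, y] = st H ![x] := by
      ext g
      rw [mem_st_two]
      exact ⟨fun h => mem_st_one.2 ⟨h.1, h.2.1⟩, fun h =>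
        ⟨(mem_st_one.1 h).1, (mem_st_one.1 h).2, (mem_st_one.1 (hy h)).2⟩⟩
    have := hd ![x, y]
    rw [dd_pos (e ▸ hx), bd_one, hf.zero _ (h _ hs), e, map_sub, map_zero,
      hΘ.ρ_self _ _ (hf.mem _ hx), zero_sub, neg_eq_zero] at this
    exact this.symm
  · exact (hf.zero _ hx).symm

theorem Fam.level (hR : Fam H R) (μ : Subgroup G → ℕ)
    (hi : ∀ h ∈ H, ∀ P ∈ R, μ cj(h, P) = μ P) (hm : ∀ P ∈ R, ∀ Q ∈ R, P ≤ Q → μ P ≤ μ Q)
    (k : ℕ) : Fam H {P | P ∈ R ∧ μ P = k} :=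
  ⟨fun h hh P hP => ⟨hR.inv h hh P hP.1, (hi h hh P hP.1).trans hP.2⟩,
    fun P hP T hT Q h1 h2 => by
      have hQ := hR.conv P hP.1 T hT.1 Q h1 h2
      have a := hm P hP.1 Q hQ h1
      have b := hm Q hQ T hT.1 h2
      exact ⟨hQ, by have := hP.2; have := hT.2; omega⟩⟩

theorem filt [Finite G] (hΘ : Θ.Ok p H) (hR : Fam H R) (μ : Subgroup G → ℕ)
    (hi : ∀ h ∈ H, ∀ P ∈ R, μ cj(h, P) = μ P) (hm : ∀ P ∈ R, ∀ Q ∈ R, P ≤ Q → μ P ≤ μ Q)
    (h : ∀ k, Ac X Θ H {P | P ∈ R ∧ μ P = k} n) : Ac X Θ H R n := by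
  obtain ⟨N, hN⟩ := (Set.finite_range μ).bddAbove
  have hU : ∀ k, Up H R {P | P ∈ R ∧ k ≤ μ P} := fun k =>
    ⟨fun _ h => h.1, fun g hg P hP => ⟨hR.inv g hg P hP.1, (hi g hg P hP.1).symm ▸ hP.2⟩,
      fun P hP Q hQ hle => ⟨hQ, hP.2.trans (hm P hP.1 Q hQ hle)⟩⟩
  have key : ∀ j, Ac X Θ H {P | P ∈ R ∧ N + 1 - j ≤ μ P} n := by
    intro j
    induction j with
    | zero =>
      intro f hf _
      refine ⟨0, IsCo.zero', fun σ => ?_⟩
      rw [dd_zero, hf.zero σ fun h' => ?_]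
      have := hN ⟨st H σ, rfl⟩
      have := h'.2
      omega
    | succ j ih =>
      by_cases hj : N + 1 ≤ j
      · rwa [show N + 1 - (j + 1) = N + 1 - j by omega]
      refine les1 hΘ ((hU _).fam hR) (R₂ := {P | P ∈ R ∧ N + 1 - j ≤ μ P})
        ⟨fun P hP => ⟨hP.1, by have := hP.2; omega⟩, (hU _).inv,
          fun P hP Q hQ hle => (hU _).up P hP Q hQ.1 hle⟩ ?_ ih
      convert h (N - j) using 1
      ext P
      simp only [Set.mem_diff, Set.mem_setOf_eq]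
      constructor
      · rintro ⟨⟨h1, h2⟩, h3⟩
        refine ⟨h1, ?_⟩
        have : ¬ N + 1 - j ≤ μ P := fun h4 => h3 ⟨h1, h4⟩
        omega
      · rintro ⟨h1, h2⟩
        exact ⟨⟨h1, by omega⟩, fun h3 => by have := h3.2; omega⟩
  have := key (N + 1)
  convert this using 1
  ext P; simp

end Cfsg.Agent.Chk
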