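import Mathlib
import Cfsg.Agent.Chk.Cx1

set_option autoImplicit false

namespace Cfsg.Agent.Chk

open Cfsg.Agent.Loc.Mss Subgroup

variable {G : Type*} [Group G] {X : Type*} [MulAction G X] {p : ℕ} {H : Subgroup G}
  {R : Set (Subgroup G)} {n : ℕ}

/-- Orbit representatives. -/
theorem orbrep {T : Type*} (H : Subgroup G) (a : G → T → T) (h1 : ∀ σ, a 1 σ = σ)
    (hm : ∀ g h σ, a (g * h) σ = a g (a h σ)) :
    ∃ (r : T → T) (t : T → G), (∀ σ, t σ ∈ H) ∧ (∀ σ, a (t σ) (r σ) = σ) ∧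
      ∀ h ∈ H, ∀ σ, r (a h σ) = r σ := by
  let s : Setoid T := ⟨fun x y => ∃ h ∈ H, a h x = y, fun x => ⟨1, one_mem _, h1 x⟩,
    fun ⟨h, hh, e⟩ => ⟨h⁻¹, inv_mem hh, by rw [← e, ← hm, inv_mul_cancel, h1]⟩,
    fun ⟨h, hh, e⟩ ⟨k, hk, e'⟩ => ⟨k * h, mul_mem hk hh, by rw [hm, e, e']⟩⟩
  have : ∀ σ : T, ∃ h ∈ H, a h (Quotient.mk s σ).out = σ := fun σ => Quotient.mk_out (s := s) σ
  choose t ht ht' using this
  refine ⟨fun σ => (Quotient.mk s σ).out, t, ht, ht', fun h hh σ => ?_⟩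
  have : Quotient.mk s σ = Quotient.mk s (a h σ) := Quotient.sound ⟨h, hh, rfl⟩
  simp only [this]

/-- Equivariant choice. -/
theorem eqch {T U : Type*} [MulAction G T] [MulAction G U] (H : Subgroup G) (Rel : T → U → Prop)
    (hi : ∀ h ∈ H, ∀ σ m, Rel σ m → Rel (h • σ) (h • m))
    (he : ∀ σ, ∃ m, Rel σ m ∧ ∀ h ∈ H, h • σ = σ → h • m = m) :
    ∃ f : T → U, (∀ σ, Rel σ (f σ)) ∧ ∀ h ∈ H, ∀ σ, f (h • σ) = h • f σ := by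
  obtain ⟨r, t, ht, e, hr⟩ := orbrep H (fun (g : G) (σ : T) => g • σ) (one_smul G) mul_smul
  choose m hm hm' using he
  refine ⟨fun σ => t σ • m (r σ), fun σ => ?_, fun h hh σ => ?_⟩
  · have := hi _ (ht σ) _ _ (hm (r σ))
    rwa [e σ] at this
  · simp only [hr h hh σ]
    have e1 := e (h • σ)
    simp only [hr h hh σ] at e1
    have : ((t (h • σ))⁻¹ * h * t σ) • m (r σ) = m (r σ) :=
      hm' _ _ (mul_mem (mul_mem (inv_mem (ht _)) hh) (ht _)) (by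
        rw [mul_smul, mul_smul, e σ, inv_smul_eq_iff, e1])
    rw [mul_smul, mul_smul, inv_smul_eq_iff] at this
    exact this.symm

section
variable {𝕄 : Type*} [AddCommGroup 𝕄] [DistribMulAction G 𝕄] {Θ : Sys G 𝕄}

/-- Choice of a cochain subject to an invariant relation. -/
theorem exists_co (hΘ : Θ.Ok p H) (hR : ∀ h ∈ H, ∀ P ∈ R, cj(h, P) ∈ R)
    (Rel : (Fin n → X) → 𝕄 → Prop)
    (hi : ∀ h ∈ H, ∀ σ m, st H σ ∈ R → m ∈ Θ.M (st H σ) → Rel σ m → Rel (h • σ) (h • m))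
    (he : ∀ σ, st H σ ∈ R → ∃ m ∈ Θ.M (st H σ), Rel σ m) :
    ∃ f, IsCo Θ H R f ∧ ∀ σ, st H σ ∈ R → Rel σ (f σ) := by
  obtain ⟨f, hf, hs⟩ := eqch H (fun (σ : Fin n → X) (m : 𝕄) =>
    (st H σ ∈ R → m ∈ Θ.M (st H σ) ∧ Rel σ m) ∧ (st H σ ∉ R → m = 0))
    (fun h hh σ m hm => ⟨fun h' => by
      have h2 := (st_smul_mem_iff hR hh σ).1 h'
      obtain ⟨h3, h4⟩ := hm.1 h2
      exact ⟨st_smul hh σ ▸ hΘ.M_smul h hh _ m h3, hi h hh σ m h2 h3 h4⟩,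
    fun h' => by rw [hm.2 fun h2 => h' ((st_smul_mem_iff hR hh σ).2 h2), smul_zero]⟩)
    (fun σ => by
      by_cases h : st H σ ∈ R
      · obtain ⟨m, h1, h2⟩ := he σ h
        exact ⟨m, ⟨fun _ => ⟨h1, h2⟩, fun h' => absurd h h'⟩, fun g hg e =>
          hΘ.fix _ g (mem_inf.2 ⟨hg, e⟩) m h1⟩
      · exact ⟨0, ⟨fun h' => absurd h' h, fun _ => rfl⟩, fun g _ _ => smul_zero g⟩)
  exact ⟨f, ⟨fun σ h => ((hf σ).1 h).1, fun σ h => (hf σ).2 h, hs⟩, fun σ h => ((hf σ).1 h).2⟩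

omit [MulAction G X] in
theorem eq_of_norm_inf [Finite G] [Fact p.Prime] {P Q : Subgroup G} (hQ : IsPGroup p Q)
    (hle : P ≤ Q) (h : Q ⊓ 𝐍[P] ≤ P) : P = Q :=
  ((Syl.of_norm (hQ.to_le hle) hle fun _ _ _ h2 h3 => (le_inf h2 h3).trans h).eq_of_le hQ hle
    le_rfl).symm

theorem st_inf (K : Subgroup G) (σ : Fin n → X) : st (H ⊓ K) σ = st H σ ⊓ K := by
  unfold st; rw [inf_right_comm]

section V2
variable [Finite G] [Fact p.Prime] {Y : Subgroup G → Subgroup G}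

omit [Finite G] [Fact p.Prime] in
theorem V2.st_eq_of_mem (hY : ∀ h ∈ H, ∀ P ∈ R, P ≤ H → Y cj(h, P) = cj(h, Y P))
    {σ : Fin n → X} (h : st H σ ∈ R) : st (H ⊓ 𝐍[Y (st H σ)]) σ = st H σ := by
  rw [st_inf, inf_eq_left]
  intro g hg
  rw [← cj_eq_iff, ← hY g (st_le _ _ hg) _ h (st_le _ _), cj_of_mem hg]

theorem V2.st_eq (hX : Good p G X) (hY : ∀ h ∈ H, ∀ P ∈ R, P ≤ H → Y cj(h, P) = cj(h, Y P))
    {Y₀ : Subgroup G} {σ : Fin (n + 1) → X}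
    (h : st (H ⊓ 𝐍[Y₀]) σ ∈ {P | P ∈ R ∧ Y P = Y₀}) : st (H ⊓ 𝐍[Y₀]) σ = st H σ := by
  have hle : st (H ⊓ 𝐍[Y₀]) σ ≤ st H σ := by rw [st_inf]; exact inf_le_left
  refine eq_of_norm_inf (st_pg hX H σ) hle fun g hg => ?_
  rw [st_inf]
  refine ⟨hg.1, ?_⟩
  have := hY g (st_le _ _ hg.1) _ h.1 (hle.trans (st_le _ _))
  rw [cj_of_norm hg.2, h.2] at this
  exact cj_eq_iff.1 this.symm

theorem V2.mem_iff (hX : Good p G X) (hY : ∀ h ∈ H, ∀ P ∈ R, P ≤ H → Y cj(h, P) = cj(h, Y P))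
    {Y₀ : Subgroup G} {σ : Fin (n + 1) → X} :
    st (H ⊓ 𝐍[Y₀]) σ ∈ {P | P ∈ R ∧ Y P = Y₀} ↔ st H σ ∈ R ∧ Y (st H σ) = Y₀ := by
  constructor
  · intro h
    have := V2.st_eq hX hY h
    rw [this] at h; exact h
  · rintro ⟨h, rfl⟩
    rw [V2.st_eq_of_mem hY h]; exact ⟨h, rfl⟩

end V2

open Classical in
/-- Reduction to normalizers. -/
theorem v2 [Finite G] [Fact p.Prime] (hX : Good p G X) (hΘ : Θ.Ok p H)
    (hR : ∀ h ∈ H, ∀ P ∈ R, cj(h, P) ∈ R) (Y : Subgroup G → Subgroup G)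
    (hY : ∀ h ∈ H, ∀ P ∈ R, P ≤ H → Y cj(h, P) = cj(h, Y P))
    (hc : ∀ P ∈ R, ∀ Q ∈ R, P ≤ Q → Q ≤ H → IsPGroup p Q → Y P = Y Q)
    (h : ∀ Y₀, Ac X Θ (H ⊓ 𝐍[Y₀]) {P | P ∈ R ∧ Y P = Y₀} (n + 1)) : Ac X Θ H R (n + 1) := by
  intro f hf hd
  -- equivariance of the condition
  have hYs : ∀ {m : ℕ} (g : G), g ∈ H → ∀ σ : Fin m → X, st H σ ∈ R →
      Y (st H (g • σ)) = cj(g, Y (st H σ)) := fun g hg σ hσ => by
    rw [st_smul hg, hY g hg _ hσ (st_le _ _)]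
  have hface : ∀ {m : ℕ} (σ : Fin (m + 2) → X) (i : Fin (m + 2)), st H σ ∈ R →
      st H (face i σ) ∈ R → Y (st H (face i σ)) = Y (st H σ) := fun σ i h1 h2 =>
    (hc _ h1 _ h2 (st_le_face H i σ) (st_le _ _) (st_pg hX H _)).symm
  have loc : ∀ Y₀, ∃ g : (Fin (n + 1) → X) → 𝕄,
      IsCo Θ (H ⊓ 𝐍[Y₀]) {P | P ∈ R ∧ Y P = Y₀} g ∧ ∀ σ, st H σ ∈ R → Y (st H σ) = Y₀ →
        Θ.ρ (st H σ) (bd g σ) = f σ := by
    intro Y₀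
    obtain ⟨g, hg, e⟩ := h Y₀ (fun σ => if st H σ ∈ R ∧ Y (st H σ) = Y₀ then f σ else 0)
      ⟨fun σ hσ => by
        rw [if_pos ((V2.mem_iff hX hY).1 hσ), V2.st_eq hX hY hσ]; exact hf.mem' σ,
      fun σ hσ => if_neg fun h' => hσ ((V2.mem_iff hX hY).2 h'),
      fun k hk σ => by
        by_cases hσ : st H σ ∈ R
        · have h2 := (st_smul_mem_iff hR hk.1 σ).2 hσ
          have h3 : Y (st H (k • σ)) = Y₀ ↔ Y (st H σ) = Y₀ := by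
            rw [hYs k hk.1 σ hσ]
            constructor
            · intro e; rw [← cj_of_norm hk.2] at e; exact cj_eq_cj.1 e
            · intro e; rw [e, cj_of_norm hk.2]
          simp only [hσ, h2, true_and, h3]
          split_ifs
          · exact hf.smul k hk.1 σ
          · exact (smul_zero k).symm
        · have h2 : st H (k • σ) ∉ R := fun h' => hσ ((st_smul_mem_iff hR hk.1 σ).1 h')
          simp only [hσ, h2, false_and, if_false, smul_zero]⟩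
      (fun σ => by
        by_cases hσ : st (H ⊓ 𝐍[Y₀]) σ ∈ {P | P ∈ R ∧ Y P = Y₀}
        · obtain ⟨h1, h2⟩ := (V2.mem_iff hX hY).1 hσ
          have h3 := hd σ
          rw [dd_pos h1] at h3
          rw [dd_pos hσ, V2.st_eq hX hY hσ]
          refine Eq.trans ?_ h3
          congr 1
          refine bd_congr fun i => ?_
          by_cases hi : st H (face i σ) ∈ R
          · exact if_pos ⟨hi, (hface σ i h1 hi).trans h2⟩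
          · rw [if_neg fun h' => hi h'.1, hf.zero _ hi]
        · exact dd_neg hσ)
    refine ⟨g, hg, fun σ h1 h2 => ?_⟩
    have hσ := (V2.mem_iff hX hY).2 ⟨h1, h2⟩
    have := e σ
    rwa [dd_pos hσ, V2.st_eq hX hY hσ, if_pos ⟨h1, h2⟩] at this
  choose g hg hge using loc
  obtain ⟨r, t, ht, e, hr⟩ := orbrep H (fun (k : G) (P : Subgroup G) => cj(k, P)) cj_one
    fun k l P => (cj_cj P l k).symm
  have hback : ∀ {m : ℕ} (σ : Fin m → X) (Y₁ : Subgroup G), st H σ ∈ R → Y (st H σ) = Y₁ →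
      st H ((t Y₁)⁻¹ • σ) ∈ R ∧ Y (st H ((t Y₁)⁻¹ • σ)) = r Y₁ := fun σ Y₁ h1 h2 =>
    ⟨(st_smul_mem_iff hR (inv_mem (ht _)) σ).2 h1, by
      rw [hYs _ (inv_mem (ht _)) σ h1, h2]
      nth_rewrite 2 [← e Y₁]
      exact cj_inv_cj _ _⟩
  refine ⟨fun σ => if st H σ ∈ R then
    t (Y (st H σ)) • g (r (Y (st H σ))) ((t (Y (st H σ)))⁻¹ • σ) else 0,
    ⟨fun σ hσ => ?_, fun σ hσ => if_neg hσ, fun k hk σ => ?_⟩, fun σ => ?_⟩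
  · rw [if_pos hσ]
    have h1 := (V2.mem_iff hX hY).2 (hback σ _ hσ rfl)
    have h2 := (hg _).mem _ h1
    rw [V2.st_eq hX hY h1] at h2
    have h3 := hΘ.M_smul _ (ht (Y (st H σ))) _ _ h2
    rwa [← st_smul (ht _), smul_inv_smul] at h3
  · by_cases hσ : st H σ ∈ R
    · rw [if_pos hσ, if_pos ((st_smul_mem_iff hR hk σ).2 hσ), hYs k hk σ hσ]
      set Y₁ := Y (st H σ)
      have e1 : r cj(k, Y₁) = r Y₁ := hr k hk Y₁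
      have e2 := e cj(k, Y₁)
      simp only [e1] at e2 ⊢
      have hm : (t cj(k, Y₁))⁻¹ * k * t Y₁ ∈ H ⊓ 𝐍[r Y₁] :=
        mem_inf.2 ⟨mul_mem (mul_mem (inv_mem (ht _)) hk) (ht _), cj_eq_iff.1 (by
          rw [← cj_cj, ← cj_cj, e Y₁]
          nth_rewrite 2 [← e2]
          exact cj_inv_cj _ _)⟩
      have := (hg (r Y₁)).smul _ hm ((t Y₁)⁻¹ • σ)
      rw [mul_smul, mul_smul, smul_inv_smul] at this
      rw [this, mul_smul, mul_smul, smul_inv_smul]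
    · rw [if_neg hσ, if_neg fun h' => hσ ((st_smul_mem_iff hR hk σ).1 h'), smul_zero]
  · by_cases hσ : st H σ ∈ R
    · rw [dd_pos hσ]
      set Y₁ := Y (st H σ) with hY₁
      obtain ⟨b1, b2⟩ := hback σ Y₁ hσ rfl
      have e1 : bd (fun σ => if st H σ ∈ R then
          t (Y (st H σ)) • g (r (Y (st H σ))) ((t (Y (st H σ)))⁻¹ • σ) else 0) σ =
          t Y₁ • bd (g (r Y₁)) ((t Y₁)⁻¹ • σ) := by
        rw [← DistribMulAction.toAddMonoidHom_apply, map_bd]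
        unfold bd
        refine Finset.sum_congr rfl fun i _ => ?_
        congr 1
        beta_reduce
        by_cases hi : st H (face i σ) ∈ R
        · rw [if_pos hi, hface σ i hσ hi]; rfl
        · rw [if_neg hi]
          have : g (r Y₁) (face i ((t Y₁)⁻¹ • σ)) = 0 := (hg _).zero _ fun h' => hi
            ((st_smul_mem_iff hR (inv_mem (ht Y₁)) (face i σ)).1 ((V2.mem_iff hX hY).1 h').1)
          simp only [this, map_zero]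
      have e2 := hΘ.ρ_smul _ (ht Y₁) (st H ((t Y₁)⁻¹ • σ)) (bd (g (r Y₁)) ((t Y₁)⁻¹ • σ))
      rw [← st_smul (ht _), smul_inv_smul, hge _ _ b1 b2, hf.smul _ (inv_mem (ht _)),
        smul_inv_smul] at e2
      rw [e1, e2]
    · rw [dd_neg hσ, hf.zero σ hσ]

end

section
variable {𝕄₁ 𝕄₂ : Type*} [AddCommGroup 𝕄₁] [DistribMulAction G 𝕄₁] [AddCommGroup 𝕄₂]
  [DistribMulAction G 𝕄₂] {Θ₁ : Sys G 𝕄₁} {Θ₂ : Sys G 𝕄₂} {κ : Subgroup G → 𝕄₁ →+ 𝕄₂}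

theorem Hom.isCo (hκ : Hom H R Θ₁ Θ₂ κ) {f : (Fin n → X) → 𝕄₁} (hf : IsCo Θ₁ H R f) :
    IsCo Θ₂ H R (push H κ f) := by
  refine ⟨fun σ h => hκ.mem _ h (st_le _ _) _ (hf.mem σ h),
    fun σ h => by rw [push, hf.zero σ h, map_zero], fun h hh σ => ?_⟩
  unfold push
  by_cases hσ : st H σ ∈ R
  · rw [st_smul hh, hf.smul h hh, hκ.smul h hh _ hσ (st_le _ _) _ (hf.mem σ hσ)]
  · rw [hf.smul h hh, hf.zero σ hσ, smul_zero, map_zero, map_zero, smul_zero]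

theorem Hom.dd_push (hκ : Hom H R Θ₁ Θ₂ κ) {f : (Fin n → X) → 𝕄₁} (hf : IsCo Θ₁ H R f)
    (σ : Fin (n + 1) → X) : dd Θ₂ H R (push H κ f) σ = push H κ (dd Θ₁ H R f) σ := by
  by_cases hσ : st H σ ∈ R
  · rw [dd_pos hσ, push, dd_pos hσ, map_bd, map_bd, map_bd]
    refine bd_congr fun i => ?_
    by_cases hi : st H (face i σ) ∈ R
    · exact (hκ.rho _ hσ _ hi (st_le_face H i σ) (st_le _ _) _ (hf.mem _ hi)).symm
    · simp only [push, hf.zero _ hi, map_zero]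
  · rw [dd_neg hσ, push, dd_neg hσ, map_zero]

theorem Hom.lift (hκ : Hom H R Θ₁ Θ₂ κ) (h₁ : Θ₁.Ok p H) (hR : ∀ h ∈ H, ∀ P ∈ R, cj(h, P) ∈ R)
    {f : (Fin n → X) → 𝕄₂} (hf : IsCo Θ₂ H R f)
    (he : ∀ σ, st H σ ∈ R → ∃ m ∈ Θ₁.M (st H σ), κ (st H σ) m = f σ) :
    ∃ e, IsCo Θ₁ H R e ∧ ∀ σ, push H κ e σ = f σ := by
  obtain ⟨e, h1, h2⟩ := exists_co h₁ hR (fun σ m => κ (st H σ) m = f σ)
    (fun h hh σ m hσ hm e => by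
      rw [st_smul hh, hκ.smul h hh _ hσ (st_le _ _) _ hm, e, hf.smul h hh]) he
  refine ⟨e, h1, fun σ => ?_⟩
  by_cases hσ : st H σ ∈ R
  · exact h2 σ hσ
  · rw [push, h1.zero σ hσ, map_zero, hf.zero σ hσ]

theorem IsCo.dd_mem (h₁ : Θ₁.Ok p H) {f : (Fin n → X) → 𝕄₁} (hf : IsCo Θ₁ H R f)
    (σ : Fin (n + 1) → X) : Chk.dd Θ₁ H R f σ ∈ Θ₁.M (st H σ) := by
  by_cases h : st H σ ∈ R
  · rw [dd_pos h, map_bd]
    exact sum_mem fun i _ => zsmul_mem (h₁.ρ_mem _ _ (st_le_face H i σ) _ (hf.mem' _)) _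
  · rw [dd_neg h]; exact zero_mem _

theorem Ac.of_iso (hκ : Hom H R Θ₁ Θ₂ κ) (h₁ : Θ₁.Ok p H)
    (hR : ∀ h ∈ H, ∀ P ∈ R, cj(h, P) ∈ R)
    (hi : ∀ P ∈ R, P ≤ H → ∀ m ∈ Θ₁.M P, κ P m = 0 → m = 0)
    (hs : ∀ P ∈ R, P ≤ H → ∀ m ∈ Θ₂.M P, ∃ m' ∈ Θ₁.M P, κ P m' = m)
    (h : Ac X Θ₂ H R n) : Ac X Θ₁ H R n := by
  intro f hf hd
  obtain ⟨g, hg, e⟩ := h _ (hκ.isCo hf) fun σ => by rw [hκ.dd_push hf, push, hd, map_zero]
  obtain ⟨k, hk, e'⟩ := hκ.lift h₁ hR hg fun σ hσ => hs _ hσ (st_le _ _) _ (hg.mem σ hσ)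
  refine ⟨k, hk, fun σ => ?_⟩
  by_cases hσ : st H σ ∈ R
  · refine sub_eq_zero.1 (hi _ hσ (st_le _ _) _ (sub_mem (hk.dd_mem h₁ σ) (hf.mem σ hσ)) ?_)
    have := hκ.dd_push hk σ
    rw [show push H κ k = g from funext e', e] at this
    rw [map_sub]
    exact sub_eq_zero.2 this.symm
  · rw [dd_neg hσ, hf.zero σ hσ]

omit [DistribMulAction G 𝕄₁] [DistribMulAction G 𝕄₂] in
theorem push_sub (f g : (Fin n → X) → 𝕄₁) : push H κ (f - g) = push H κ f - push H κ g :=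
  funext fun _ => map_sub _ _ _

end

/-- The diagram chase. -/
theorem chase {𝕄₁ 𝕄₂ 𝕄₃ 𝕄₄ : Type*} [AddCommGroup 𝕄₁] [DistribMulAction G 𝕄₁]
    [AddCommGroup 𝕄₂] [DistribMulAction G 𝕄₂] [AddCommGroup 𝕄₃] [DistribMulAction G 𝕄₃]
    [AddCommGroup 𝕄₄] [DistribMulAction G 𝕄₄] {Θ₁ : Sys G 𝕄₁} {Θ₂ : Sys G 𝕄₂} {Θ₃ : Sys G 𝕄₃}
    {Θ₄ : Sys G 𝕄₄} {κ₁ : Subgroup G → 𝕄₁ →+ 𝕄₂} {κ₂ : Subgroup G → 𝕄₂ →+ 𝕄₃}
    {κ₃ : Subgroup G → 𝕄₃ →+ 𝕄₄} (hR : Fam H R) (o₁ : Θ₁.Ok p H) (o₂ : Θ₂.Ok p H)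
    (o₃ : Θ₃.Ok p H) (o₄ : Θ₄.Ok p H) (h₁ : Hom H R Θ₁ Θ₂ κ₁) (h₂ : Hom H R Θ₂ Θ₃ κ₂)
    (h₃ : Hom H R Θ₃ Θ₄ κ₃)
    (e₁ : ∀ P ∈ R, P ≤ H → ∀ m ∈ Θ₁.M P, κ₁ P m = 0 → m = 0)
    (e₂ : ∀ P ∈ R, P ≤ H → ∀ m ∈ Θ₂.M P, κ₂ P m = 0 ↔ ∃ m' ∈ Θ₁.M P, κ₁ P m' = m)
    (e₃ : ∀ P ∈ R, P ≤ H → ∀ m ∈ Θ₃.M P, κ₃ P m = 0 ↔ ∃ m' ∈ Θ₂.M P, κ₂ P m' = m)
    (a₁ : Ac X Θ₁ H R 4) (a₂ : Ac X Θ₂ H R 3) (a₃ : Ac X Θ₃ H R 2) (a₄ : Ac X Θ₄ H R 1)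
    {f : (Fin 2 → X) → 𝕄₄} (hf : IsCo Θ₄ H R f)
    (hk : ∀ σ, st H σ ∈ R → ∃ m ∈ Θ₃.M (st H σ), κ₃ (st H σ) m = dd Θ₄ H R f σ) :
    ∃ χ b, IsCo Θ₄ H R χ ∧ IsCo Θ₃ H R b ∧ ∀ σ, f σ = dd Θ₄ H R χ σ + push H κ₃ b σ := by
  have z₂ : ∀ {m : ℕ} {g : (Fin m → X) → 𝕄₁}, IsCo Θ₁ H R g → ∀ σ,
      push H κ₂ (push H κ₁ g) σ = 0 := fun hg σ => by
    by_cases hσ : st H σ ∈ R
    · exact (e₂ _ hσ (st_le _ _) _ ((h₁.isCo hg).mem σ hσ)).2 ⟨_, hg.mem σ hσ, rfl⟩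
    · rw [push, (h₁.isCo hg).zero σ hσ, map_zero]
  have z₃ : ∀ {m : ℕ} {g : (Fin m → X) → 𝕄₂}, IsCo Θ₂ H R g → ∀ σ,
      push H κ₃ (push H κ₂ g) σ = 0 := fun hg σ => by
    by_cases hσ : st H σ ∈ R
    · exact (e₃ _ hσ (st_le _ _) _ ((h₂.isCo hg).mem σ hσ)).2 ⟨_, hg.mem σ hσ, rfl⟩
    · rw [push, (h₂.isCo hg).zero σ hσ, map_zero]
  obtain ⟨e, he, ee⟩ := h₃.lift o₃ hR.inv (hf.dd o₄ hR.inv) hk
  have ee' : push H κ₃ e = dd Θ₄ H R f := funext ee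
  obtain ⟨e', he', ee2⟩ := h₂.lift o₂ hR.inv (he.dd o₃ hR.inv) fun σ hσ =>
    (e₃ _ hσ (st_le _ _) _ (he.dd_mem o₃ σ)).1 (by
      have := h₃.dd_push he σ
      rw [ee', dd_dd o₄ hR hf] at this
      exact this.symm)
  have ee2' : push H κ₂ e' = dd Θ₃ H R e := funext ee2
  obtain ⟨a, ha, ee3⟩ := h₁.lift o₁ hR.inv (he'.dd o₂ hR.inv) fun σ hσ =>
    (e₂ _ hσ (st_le _ _) _ (he'.dd_mem o₂ σ)).1 (by
      have := h₂.dd_push he' σ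
      rw [ee2', dd_dd o₃ hR he] at this
      exact this.symm)
  have ee3' : push H κ₁ a = dd Θ₂ H R e' := funext ee3
  obtain ⟨a', ha', ea⟩ := a₁ a ha fun σ => by
    by_cases hσ : st H σ ∈ R
    · refine e₁ _ hσ (st_le _ _) _ (ha.dd_mem o₁ σ) ?_
      have := h₁.dd_push ha σ
      rw [ee3', dd_dd o₂ hR he'] at this
      exact this.symm
    · exact dd_neg hσ
  obtain ⟨c, hc, ec⟩ := a₂ _ (he'.sub (h₁.isCo ha')) fun σ => by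
    rw [dd_sub, h₁.dd_push ha', show dd Θ₁ H R a' = a from funext ea, ee3, sub_self]
  obtain ⟨b, hb, eb⟩ := a₃ _ (he.sub (h₂.isCo hc)) fun σ => by
    rw [dd_sub, h₂.dd_push hc, show dd Θ₂ H R c = _ from funext ec, push_sub, Pi.sub_apply, ee2,
      z₂ ha', sub_zero, sub_self]
  obtain ⟨χ, hχ, eχ⟩ := a₄ _ (hf.sub (h₃.isCo hb)) fun σ => by
    rw [dd_sub, h₃.dd_push hb, show dd Θ₃ H R b = _ from funext eb, push_sub, Pi.sub_apply, ee,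
      z₃ hc, sub_zero, sub_self]
  exact ⟨χ, b, hχ, hb, fun σ => by rw [eχ, Pi.sub_apply, sub_add_cancel]⟩

section
variable {Γ : Type*} [Group Γ] {π : G →* Γ} {𝕄 : Type*} [AddCommGroup 𝕄] [DistribMulAction G 𝕄]
  [DistribMulAction Γ 𝕄] {Θ : Sys Γ 𝕄}

theorem pull_ok (hM : ∀ (g : G) (m : 𝕄), g • m = π g • m) (hΘ : Θ.Ok p ⊤) :
    (pull π Θ).Ok p ⊤ where
  ρ_smul h _ P m := by
    show Θ.ρ ((cj(h, P)).map π) (h • m) = h • Θ.ρ (P.map π) m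
    rw [map_cj, hM, hM, hΘ.ρ_smul _ (mem_top _)]
  M_smul h _ P m hm := by
    show h • m ∈ Θ.M ((cj(h, P)).map π)
    rw [map_cj, hM]; exact hΘ.M_smul _ (mem_top _) _ m hm
  ρ_ρ P Q h m := hΘ.ρ_ρ _ _ (map_mono h) m
  ρ_self P m hm := hΘ.ρ_self _ m hm
  ρ_mem P Q h m hm := hΘ.ρ_mem _ _ (map_mono h) m hm
  fix P g hg m hm := by rw [hM]; exact hΘ.fix _ _ (mem_map_of_mem π hg) m hm
  exp := let ⟨k, hk⟩ := hΘ.exp; ⟨k, fun _ m hm => hk _ m hm⟩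

theorem st_top_comap [MulAction Γ X] (hX : ∀ (g : G) (x : X), g • x = π g • x)
    (σ : Fin n → X) : st (⊤ : Subgroup G) σ = (st (⊤ : Subgroup Γ) σ).comap π := by
  ext g; simp [mem_st, hX]

theorem st_top_map [MulAction Γ X] (hπ : Function.Surjective π)
    (hX : ∀ (g : G) (x : X), g • x = π g • x) (σ : Fin n → X) :
    (st (⊤ : Subgroup G) σ).map π = st (⊤ : Subgroup Γ) σ := by
  rw [st_top_comap hX, map_comap_eq_self_of_surjective hπ]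

theorem Ac.pull [MulAction Γ X] (hπ : Function.Surjective π)
    (hX : ∀ (g : G) (x : X), g • x = π g • x) (hM : ∀ (g : G) (m : 𝕄), g • m = π g • m)
    {R : Set (Subgroup Γ)} (h : Ac X Θ ⊤ R n) :
    Ac X (pull π Θ) ⊤ {P | π.ker ≤ P ∧ P.map π ∈ R} n := by
  have hm : ∀ {m : ℕ} (σ : Fin m → X),
      st (⊤ : Subgroup G) σ ∈ {P | π.ker ≤ P ∧ P.map π ∈ R} ↔ st (⊤ : Subgroup Γ) σ ∈ R :=
    fun σ => by
      rw [Set.mem_setOf_eq, st_top_map hπ hX]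
      exact and_iff_right (st_top_comap hX σ ▸ ker_le_comap π _)
  have hs : ∀ {m : ℕ} (g : G) (σ : Fin m → X), g • σ = π g • σ := fun g σ =>
    funext fun i => hX g (σ i)
  have hco : ∀ {m : ℕ} (f : (Fin m → X) → 𝕄),
      IsCo (Chk.pull π Θ) ⊤ {P | π.ker ≤ P ∧ P.map π ∈ R} f ↔ IsCo Θ ⊤ R f := fun f =>
    ⟨fun hf => ⟨fun σ _ => st_top_map hπ hX σ ▸ hf.mem' σ, fun σ h => hf.zero σ (h ∘ (hm σ).1),
      fun g _ σ => by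
        obtain ⟨g, rfl⟩ := hπ g
        rw [← hs, ← hM, hf.smul g (mem_top _)]⟩,
    fun hf => ⟨fun σ _ => by
        show f σ ∈ Θ.M ((st ⊤ σ).map π)
        rw [st_top_map hπ hX]; exact hf.mem' σ,
      fun σ h => hf.zero σ (h ∘ (hm σ).2),
      fun g _ σ => by rw [hs, hM, hf.smul _ (mem_top _)]⟩⟩
  have hdd : ∀ {m : ℕ} (f : (Fin m → X) → 𝕄) (σ : Fin (m + 1) → X),
      dd (Chk.pull π Θ) ⊤ {P | π.ker ≤ P ∧ P.map π ∈ R} f σ = dd Θ ⊤ R f σ := fun f σ => by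
    by_cases hσ : st (⊤ : Subgroup Γ) σ ∈ R
    · rw [dd_pos hσ, dd_pos ((hm σ).2 hσ), ← st_top_map hπ hX]; rfl
    · rw [dd_neg hσ, dd_neg (hσ ∘ (hm σ).1)]
  intro f hf hd
  obtain ⟨g, hg, e⟩ := h f ((hco f).1 hf) fun σ => by rw [← hdd, hd]
  exact ⟨g, (hco g).2 hg, fun σ => by rw [hdd, e]⟩

end

end Cfsg.Agent.Chk
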