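import Mathlib
import Cfsg.Agent.Chk.Defs

/-!
# The system of centres and the system of homomorphisms to a central subgroup
-/

set_option autoImplicit false

namespace Cfsg.Agent.Chk

open Cfsg.Agent.Loc.Mss Subgroup

variable {G : Type*} [Group G] {p : ℕ}

theorem Cen.cj {P : Subgroup G} (h : P ∈ Cen p G) (g : G) : cj(g, P) ∈ Cen p G := by
  refine ⟨pg_cj h.1 g, fun x ⟨k, hk⟩ hx => mem_cj.2 (h.2 _ ⟨k, ?_⟩ ?_)⟩
  · have : g⁻¹ * x * g = g⁻¹ * x * g⁻¹⁻¹ := by rw [inv_inv]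
    rw [this, conj_pow, hk]; simp
  · rw [← cj_cent] at hx; exact mem_cj.1 hx

theorem cen_cj_iff {P : Subgroup G} (g : G) : cj(g, P) ∈ Cen p G ↔ P ∈ Cen p G :=
  ⟨fun h => by simpa only [cj_inv_cj] using Cen.cj h g⁻¹, fun h => Cen.cj h g⟩

theorem Cen.of_le {P Q : Subgroup G} (h : P ∈ Cen p G) (hPQ : P ≤ Q) (hQ : IsPGroup p Q) :
    Q ∈ Cen p G := ⟨hQ, fun x hx hc => hPQ (h.2 x hx (cent_anti hPQ hc))⟩

theorem cen_fam (H : Subgroup G) : Fam H (Cen p G) :=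
  ⟨fun h _ _ hP => Cen.cj hP h, fun _ hP _ hT _ h1 h2 => Cen.of_le hP h1 (hT.1.to_le h2)⟩

open Classical in
/-- The centre of `P` if `P` is centric, and trivial otherwise. -/
noncomputable def zc (p : ℕ) (P : Subgroup G) : Subgroup G := if P ∈ Cen p G then P ⊓ 𝐂[P] else ⊥

theorem mem_zc {P : Subgroup G} (h : P ∈ Cen p G) {z : G} : z ∈ zc p P ↔ z ∈ P ∧ z ∈ 𝐂[P] := by
  simp [zc, h]

theorem zc_of_not {P : Subgroup G} (h : P ∉ Cen p G) : zc p P = ⊥ := by simp [zc, h]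

theorem zc_le (P : Subgroup G) : zc p P ≤ P ⊓ 𝐂[P] := by
  unfold zc; split_ifs
  exacts [le_rfl, bot_le]

theorem zc_pow {P : Subgroup G} {z : G} (hz : z ∈ zc p P) : ∃ k : ℕ, z ^ p ^ k = 1 := by
  by_cases h : P ∈ Cen p G
  · exact pg_iff.1 h.1 z ((mem_zc h).1 hz).1
  · rw [zc_of_not h, mem_bot] at hz; exact ⟨0, by simp [hz]⟩

theorem zc_comm {P : Subgroup G} {x y : G} (hx : x ∈ zc p P) (hy : y ∈ zc p P) : x * y = y * x :=
  mem_cent.1 (zc_le P hy).2 x (zc_le P hx).1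

theorem cj_zc (g : G) (P : Subgroup G) : cj(g, zc p P) = zc p cj(g, P) := by
  unfold zc
  by_cases h : P ∈ Cen p G
  · rw [if_pos h, if_pos (Cen.cj h g), cj_inf, cj_cent]
  · rw [if_neg h, if_neg (fun h' => h ((cen_cj_iff g).1 h')), cj_bot]

/-- The ambient module of the system of centres. -/
@[ext] structure MZ (p : ℕ) (G : Type*) [Group G] where
  val : Subgroup G → G
  mem : ∀ P, val P ∈ zc p P

namespace MZ

noncomputable instance : Add (MZ p G) :=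
  ⟨fun a b => ⟨fun P => a.val P * b.val P, fun P => mul_mem (a.mem P) (b.mem P)⟩⟩
noncomputable instance : Zero (MZ p G) := ⟨⟨fun _ => 1, fun _ => one_mem _⟩⟩
noncomputable instance : Neg (MZ p G) :=
  ⟨fun a => ⟨fun P => (a.val P)⁻¹, fun P => inv_mem (a.mem P)⟩⟩

noncomputable instance : AddCommGroup (MZ p G) where
  add_assoc a b c := MZ.ext (funext fun P => mul_assoc _ _ _)
  zero_add a := MZ.ext (funext fun P => one_mul _)
  add_zero a := MZ.ext (funext fun P => mul_one _)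
  neg_add_cancel a := MZ.ext (funext fun P => inv_mul_cancel _)
  add_comm a b := MZ.ext (funext fun P => zc_comm (a.mem P) (b.mem P))
  nsmul := nsmulRec
  zsmul := zsmulRec

@[simp] theorem add_val (a b : MZ p G) (P : Subgroup G) : (a + b).val P = a.val P * b.val P := rfl
@[simp] theorem zero_val (P : Subgroup G) : (0 : MZ p G).val P = 1 := rfl
@[simp] theorem neg_val (a : MZ p G) (P : Subgroup G) : (-a).val P = (a.val P)⁻¹ := rfl
theorem sub_val (a b : MZ p G) (P : Subgroup G) : (a - b).val P = a.val P * (b.val P)⁻¹ := by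
  rw [sub_eq_add_neg]; rfl

theorem nsmul_val (n : ℕ) (a : MZ p G) (P : Subgroup G) : (n • a).val P = a.val P ^ n := by
  induction n with
  | zero => simp
  | succ n ih => rw [succ_nsmul, add_val, ih, pow_succ]

noncomputable instance : DistribMulAction G (MZ p G) where
  smul g a := ⟨fun P => g * a.val cj(g⁻¹, P) * g⁻¹, fun P => by
    have := conj_mem_cj (g := g) (a.mem cj(g⁻¹, P))
    rwa [cj_zc, cj_cj_inv] at this⟩
  one_smul a := MZ.ext (funext fun P => by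
    show 1 * a.val cj((1 : G)⁻¹, P) * 1⁻¹ = _
    rw [inv_one, cj_one]; simp)
  mul_smul g h a := MZ.ext (funext fun P => by
    show g * h * a.val cj((g * h)⁻¹, P) * (g * h)⁻¹ =
      g * (h * a.val cj(h⁻¹, cj(g⁻¹, P)) * h⁻¹) * g⁻¹
    rw [cj_cj, mul_inv_rev]; group)
  smul_zero g := MZ.ext (funext fun P => by show g * 1 * g⁻¹ = 1; simp)
  smul_add g a b := MZ.ext (funext fun P => by
    show g * (a.val _ * b.val _) * g⁻¹ = g * a.val _ * g⁻¹ * (g * b.val _ * g⁻¹); group)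

theorem smul_val (g : G) (a : MZ p G) (P : Subgroup G) :
    (g • a).val P = g * a.val cj(g⁻¹, P) * g⁻¹ := rfl

theorem smul_val_cj (g : G) (a : MZ p G) (P : Subgroup G) :
    (g • a).val cj(g, P) = g * a.val P * g⁻¹ := by rw [smul_val, cj_inv_cj]

end MZ

open Classical in
/-- The element with value `z` on the centric subgroups of `Q`. -/
noncomputable def el (Q : Subgroup G) (z : G) (h1 : ∃ k : ℕ, z ^ p ^ k = 1) (h2 : z ∈ 𝐂[Q]) :
    MZ p G :=
  ⟨fun P => if P ≤ Q ∧ P ∈ Cen p G then z else 1, fun P => by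
    split_ifs with h
    · exact (mem_zc h.2).2 ⟨h.2.2 z h1 (cent_anti h.1 h2), cent_anti h.1 h2⟩
    · exact one_mem _⟩

theorem el_val_pos {Q P : Subgroup G} {z : G} {h1 : ∃ k : ℕ, z ^ p ^ k = 1} {h2 : z ∈ 𝐂[Q]}
    (h : P ≤ Q) (hP : P ∈ Cen p G) : (el Q z h1 h2).val P = z := if_pos ⟨h, hP⟩

theorem el_val_neg {Q P : Subgroup G} {z : G} {h1 : ∃ k : ℕ, z ^ p ^ k = 1} {h2 : z ∈ 𝐂[Q]}
    (h : ¬ (P ≤ Q ∧ P ∈ Cen p G)) : (el Q z h1 h2).val P = 1 := if_neg h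

open Classical in
/-- The system of centres: `M Q` consists of the families constant (with value in `Z(Q)`) on the
centric subgroups of `Q` and trivial elsewhere. -/
noncomputable def zS (p : ℕ) (G : Type*) [Group G] : Sys G (MZ p G) where
  ρ Q :=
    { toFun := fun a => ⟨fun P => if P ≤ Q then a.val P else 1, fun P => by
        split_ifs
        exacts [a.mem P, one_mem _]⟩
      map_zero' := MZ.ext (funext fun P => by simp)
      map_add' := fun a b => MZ.ext (funext fun P => by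
        show (if P ≤ Q then a.val P * b.val P else 1) =
          (if P ≤ Q then a.val P else 1) * (if P ≤ Q then b.val P else 1)
        split_ifs <;> simp) }
  M Q :=
    { carrier := {a | (∀ P, P ≤ Q → P ∈ Cen p G → a.val P = a.val Q) ∧
        ∀ P, ¬ P ≤ Q → a.val P = 1}
      add_mem' := fun ha hb => ⟨fun P h hP => by simp [ha.1 P h hP, hb.1 P h hP],
        fun P h => by simp [ha.2 P h, hb.2 P h]⟩
      zero_mem' := ⟨fun _ _ _ => rfl, fun _ _ => rfl⟩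
      neg_mem' := fun ha => ⟨fun P h hP => by simp [ha.1 P h hP], fun P h => by simp [ha.2 P h]⟩ }

theorem mem_zS {Q : Subgroup G} {a : MZ p G} : a ∈ (zS p G).M Q ↔
    (∀ P, P ≤ Q → P ∈ Cen p G → a.val P = a.val Q) ∧ ∀ P, ¬ P ≤ Q → a.val P = 1 := Iff.rfl

theorem zS_ρ_pos {Q P : Subgroup G} (a : MZ p G) (h : P ≤ Q) :
    ((zS p G).ρ Q a).val P = a.val P := if_pos h

theorem zS_ρ_neg {Q P : Subgroup G} (a : MZ p G) (h : ¬ P ≤ Q) :
    ((zS p G).ρ Q a).val P = 1 := if_neg h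

theorem MZ.val_of_not {P : Subgroup G} (a : MZ p G) (h : P ∉ Cen p G) : a.val P = 1 := by
  have := a.mem P
  rwa [zc_of_not h, mem_bot] at this

/-- Two elements of `M Q` with the same value at `Q` are equal. -/
theorem zS_ext {Q : Subgroup G} {a b : MZ p G} (ha : a ∈ (zS p G).M Q) (hb : b ∈ (zS p G).M Q)
    (h : a.val Q = b.val Q) : a = b := MZ.ext (funext fun P => by
  by_cases hP : P ∈ Cen p G
  · by_cases hle : P ≤ Q
    · rw [ha.1 P hle hP, hb.1 P hle hP, h]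
    · rw [ha.2 P hle, hb.2 P hle]
  · rw [a.val_of_not hP, b.val_of_not hP])

theorem el_mem {Q : Subgroup G} (hQ : Q ∈ Cen p G) {z : G} (h1 : ∃ k : ℕ, z ^ p ^ k = 1)
    (h2 : z ∈ 𝐂[Q]) : el Q z h1 h2 ∈ (zS p G).M Q :=
  ⟨fun _ h hP => by rw [el_val_pos h hP, el_val_pos le_rfl hQ],
    fun _ h => el_val_neg fun h' => h h'.1⟩

theorem zS_ok [Finite G] [hp : Fact p.Prime] (H : Subgroup G) : (zS p G).Ok p H where
  ρ_smul h _ Q a := MZ.ext (funext fun P => by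
    rw [MZ.smul_val]
    by_cases hle : P ≤ cj(h, Q)
    · rw [zS_ρ_pos _ hle, zS_ρ_pos _ (le_cj_iff_inv_le.1 hle), MZ.smul_val]
    · rw [zS_ρ_neg _ hle, zS_ρ_neg _ (fun h' => hle (le_cj_iff_inv_le.2 h'))]; simp)
  M_smul h _ Q a ha := ⟨fun P hle hP => by
      rw [MZ.smul_val, MZ.smul_val_cj, ha.1 _ (le_cj_iff_inv_le.1 hle) (Cen.cj hP _)],
    fun P hle => by rw [MZ.smul_val, ha.2 _ (fun h' => hle (le_cj_iff_inv_le.2 h'))]; simp⟩
  ρ_ρ P Q hPQ a := MZ.ext (funext fun T => by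
    by_cases hle : T ≤ P
    · rw [zS_ρ_pos _ hle, zS_ρ_pos _ hle, zS_ρ_pos _ (hle.trans hPQ)]
    · rw [zS_ρ_neg _ hle, zS_ρ_neg _ hle])
  ρ_self P a ha := MZ.ext (funext fun T => by
    by_cases hle : T ≤ P
    · rw [zS_ρ_pos _ hle]
    · rw [zS_ρ_neg _ hle, ha.2 T hle])
  ρ_mem P Q hPQ a ha := ⟨fun T hle hT => by
      rw [zS_ρ_pos _ hle, zS_ρ_pos _ le_rfl]
      by_cases hP : P ∈ Cen p G
      · rw [ha.1 T (hle.trans hPQ) hT, ha.1 P hPQ hP]
      · rw [a.val_of_not hP]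
        by_cases hQ : Q ∈ Cen p G
        · exact absurd (Cen.of_le hT hle (hQ.1.to_le hPQ)) hP
        · rw [ha.1 T (hle.trans hPQ) hT, a.val_of_not hQ],
    fun T hle => zS_ρ_neg _ hle⟩
  fix P g hg a ha := MZ.ext (funext fun T => by
    rw [MZ.smul_val]
    by_cases hT : T ∈ Cen p G
    · by_cases hle : T ≤ P
      · rw [ha.1 T hle hT, ha.1 _ (cj_le_of_mem hle (inv_mem hg)) (Cen.cj hT _),
          mem_cent.1 (zc_le P (a.mem P)).2 g hg]
        simp
      · rw [ha.2 T hle, ha.2 _ (fun h' => hle ?_)]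
        · simp
        · have := cj_le_of_mem h' hg
          rwa [cj_cj_inv] at this
    · rw [a.val_of_not hT, a.val_of_not (fun h' => hT ((cen_cj_iff _).1 h'))]; simp)
  exp := ⟨Nat.card G, fun _ a _ => MZ.ext (funext fun T => by
    rw [MZ.nsmul_val, MZ.zero_val]
    obtain ⟨k, hk⟩ := zc_pow (a.mem T)
    obtain ⟨j, -, hj⟩ := (Nat.dvd_prime_pow hp.out).1 (orderOf_dvd_of_pow_eq_one hk)
    have h1 : p ^ j ≤ Nat.card G := hj ▸ Nat.le_of_dvd Nat.card_pos (orderOf_dvd_natCard _)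
    have h2 : j ≤ Nat.card G := ((Nat.lt_pow_self hp.out.one_lt).trans_le h1).le
    exact orderOf_dvd_iff_pow_eq_one.1 (hj ▸ pow_dvd_pow p h2))⟩

/-! ### Homomorphisms into a central subgroup -/

/-- Functions `G → 𝔸` with the conjugation action on the source. -/
def Phi (G 𝔸 : Type*) : Type _ := G → 𝔸

namespace Phi
variable {𝔸 : Type*} [AddCommGroup 𝔸]

instance : AddCommGroup (Phi G 𝔸) := inferInstanceAs (AddCommGroup (G → 𝔸))

/-- Evaluation. -/
def ev (u : G) : Phi G 𝔸 →+ 𝔸 where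
  toFun F := F u
  map_zero' := rfl
  map_add' _ _ := rfl

theorem ext' {F F' : Phi G 𝔸} (h : ∀ u, ev u F = ev u F') : F = F' := funext h

/-- A function as an element of `Phi`. -/
def mk (F : G → 𝔸) : Phi G 𝔸 := F

@[simp] theorem ev_mk (F : G → 𝔸) (u : G) : ev u (mk F) = F u := rfl

instance : DistribMulAction G (Phi G 𝔸) where
  smul g F := fun u => F (g⁻¹ * u * g)
  one_smul F := funext fun u => by show F (1⁻¹ * u * 1) = F u; simp
  mul_smul g h F := funext fun u => by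
    show F ((g * h)⁻¹ * u * (g * h)) = F (h⁻¹ * (g⁻¹ * u * g) * h); congr 1; group
  smul_zero _ := rfl
  smul_add _ _ _ := rfl

theorem ev_smul (g u : G) (F : Phi G 𝔸) : ev u (g • F) = ev (g⁻¹ * u * g) F := rfl

end Phi

open Classical in
/-- The system `P ↦ Hom(P / A, 𝔸)`. -/
noncomputable def phiS (𝔸 : Type*) [AddCommGroup 𝔸] (A : Subgroup G) : Sys G (Phi G 𝔸) where
  ρ P :=
    { toFun := fun F => Phi.mk fun u => if u ∈ P then Phi.ev u F else 0
      map_zero' := Phi.ext' fun u => by simp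
      map_add' := fun a b => Phi.ext' fun u => by
        simp only [Phi.ev_mk, map_add]; split_ifs <;> simp }
  M P :=
    { carrier := {F | (∀ u ∈ P, ∀ v ∈ P, Phi.ev (u * v) F = Phi.ev u F + Phi.ev v F) ∧
        (∀ a ∈ A, Phi.ev a F = 0) ∧ ∀ u, u ∉ P → Phi.ev u F = 0}
      add_mem' := fun ha hb => ⟨fun u hu v hv => by
          simp only [map_add, ha.1 u hu v hv, hb.1 u hu v hv]; abel,
        fun a h => by simp [ha.2.1 a h, hb.2.1 a h], fun u h => by simp [ha.2.2 u h, hb.2.2 u h]⟩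
      zero_mem' := ⟨fun _ _ _ _ => by simp, fun _ _ => by simp, fun _ _ => by simp⟩
      neg_mem' := fun ha => ⟨fun u hu v hv => by simp only [map_neg, ha.1 u hu v hv]; abel,
        fun a h => by simp [ha.2.1 a h], fun u h => by simp [ha.2.2 u h]⟩ }

section
variable {𝔸 : Type*} [AddCommGroup 𝔸] {A P : Subgroup G}

theorem mem_phiS {F : Phi G 𝔸} : F ∈ (phiS 𝔸 A).M P ↔
    (∀ u ∈ P, ∀ v ∈ P, Phi.ev (u * v) F = Phi.ev u F + Phi.ev v F) ∧
      (∀ a ∈ A, Phi.ev a F = 0) ∧ ∀ u, u ∉ P → Phi.ev u F = 0 := Iff.rfl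

theorem phiS_ρ_pos (F : Phi G 𝔸) {u : G} (h : u ∈ P) :
    Phi.ev u ((phiS 𝔸 A).ρ P F) = Phi.ev u F := if_pos h

theorem phiS_ρ_neg (F : Phi G 𝔸) {u : G} (h : u ∉ P) : Phi.ev u ((phiS 𝔸 A).ρ P F) = 0 :=
  if_neg h

theorem phiS_one {F : Phi G 𝔸} (hF : F ∈ (phiS 𝔸 A).M P) : Phi.ev 1 F = 0 :=
  hF.2.1 1 (one_mem _)

theorem phiS_inv {F : Phi G 𝔸} (hF : F ∈ (phiS 𝔸 A).M P) {u : G} (hu : u ∈ P) :
    Phi.ev u⁻¹ F = -Phi.ev u F := by
  have := hF.1 u⁻¹ (inv_mem hu) u hu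
  rw [inv_mul_cancel, phiS_one hF] at this
  exact eq_neg_of_add_eq_zero_left this.symm

theorem phiS_ok (hA : A ≤ center G) (he : ∃ k : ℕ, ∀ a : 𝔸, p ^ k • a = 0) (H : Subgroup G) :
    (phiS 𝔸 A).Ok p H where
  ρ_smul h _ Q F := Phi.ext' fun u => by
    rw [Phi.ev_smul]
    by_cases hu : u ∈ cj(h, Q)
    · rw [phiS_ρ_pos _ hu, phiS_ρ_pos _ (mem_cj.1 hu), Phi.ev_smul]
    · rw [phiS_ρ_neg _ hu, phiS_ρ_neg _ (fun h' => hu (mem_cj.2 h'))]
  M_smul h _ Q F hF := ⟨fun u hu v hv => by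
      simp only [Phi.ev_smul]
      rw [← hF.1 _ (mem_cj.1 hu) _ (mem_cj.1 hv)]; congr 2; group,
    fun a ha => by
      rw [Phi.ev_smul, mul_assoc, ← mem_center_iff.1 (hA ha) h, inv_mul_cancel_left]
      exact hF.2.1 a ha,
    fun u hu => by rw [Phi.ev_smul]; exact hF.2.2 _ fun h' => hu (mem_cj.2 h')⟩
  ρ_ρ P Q hPQ F := Phi.ext' fun u => by
    by_cases hu : u ∈ P
    · rw [phiS_ρ_pos _ hu, phiS_ρ_pos _ hu, phiS_ρ_pos _ (hPQ hu)]
    · rw [phiS_ρ_neg _ hu, phiS_ρ_neg _ hu]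
  ρ_self P F hF := Phi.ext' fun u => by
    by_cases hu : u ∈ P
    · rw [phiS_ρ_pos _ hu]
    · rw [phiS_ρ_neg _ hu, hF.2.2 u hu]
  ρ_mem P Q hPQ F hF := ⟨fun u hu v hv => by
      rw [phiS_ρ_pos _ hu, phiS_ρ_pos _ hv, phiS_ρ_pos _ (mul_mem hu hv),
        hF.1 u (hPQ hu) v (hPQ hv)],
    fun a ha => by
      by_cases hu : a ∈ P
      · rw [phiS_ρ_pos _ hu, hF.2.1 a ha]
      · rw [phiS_ρ_neg _ hu],
    fun u hu => phiS_ρ_neg _ hu⟩
  fix P g hg F hF := Phi.ext' fun u => by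
    rw [Phi.ev_smul]
    by_cases hu : u ∈ P
    · rw [hF.1 _ (mul_mem (inv_mem hg) hu) _ hg, hF.1 _ (inv_mem hg) _ hu, phiS_inv hF hg]; abel
    · rw [hF.2.2 u hu, hF.2.2 _ fun h' => hu ?_]
      have := mul_mem (mul_mem hg h') (inv_mem hg)
      simpa [mul_assoc] using this
  exp := let ⟨k, hk⟩ := he; ⟨k, fun _ F _ => Phi.ext' fun u => by rw [map_nsmul, hk, map_zero]⟩

end

end Cfsg.Agent.Chk
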