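import Mathlib
import Cfsg.Agent.Chk.ZDef
import Cfsg.Agent.Chk.Cx2

set_option autoImplicit false

namespace Cfsg.Agent.Chk

open Cfsg.Agent.Loc.Mss Subgroup

variable {G : Type*} [Group G] [Finite G] {X : Type*} [MulAction G X] {p : ℕ} [Fact p.Prime]

namespace PhiAc

variable {𝔸 : Type*} [AddCommGroup 𝔸] {O : Type*} [Fintype O] [MulAction G O] {P A : Subgroup G}

/-- Cocycles of the action groupoid. -/
def Cy (P : Subgroup G) (F : G → O → 𝔸) : Prop :=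
  ∀ g ∈ P, ∀ h ∈ P, ∀ y, F (g * h) y = F g (h • y) + F h y

omit [Finite G] in
theorem sum_smul (g : G) (k : O → 𝔸) : ∑ y, k (g • y) = ∑ y, k y := Equiv.sum_comp (MulAction.toPerm g) k

omit [Finite G] [Fintype O] in
theorem rep (P : Subgroup G) : ∃ (r : O → O) (t : O → G), (∀ y, t y ∈ P) ∧ (∀ y, t y • r y = y) ∧
    (∀ h ∈ P, ∀ y, r (h • y) = r y) ∧ ∀ g ∈ P, ∀ y, ((t (g • y))⁻¹ * g * t y) • r y = r y := by
  obtain ⟨r, t, h1, h2, h3⟩ := orbrep P (fun (g : G) (y : O) => g • y) (one_smul G) mul_smul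
  refine ⟨r, t, h1, h2, h3, fun g hg y => ?_⟩
  rw [mul_smul, mul_smul, h2, inv_smul_eq_iff, ← h3 g hg y, h2]

omit [Finite G] in
theorem Cy.sum_zero {F : G → O → 𝔸} (hF : Cy P F) (h0 : ∀ g ∈ P, ∀ y, g • y = y → F g y = 0) {g : G} (hg : g ∈ P) :
    ∑ y, F g y = 0 := by
  obtain ⟨r, t, h1, h2, h3, h4⟩ := rep (O := O) P
  have : ∀ y, F g y = F (t (g • y)) (r (g • y)) - F (t y) (r y) := fun y => by
    have m := mul_mem (mul_mem (inv_mem (h1 (g • y))) hg) (h1 y)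
    have e1 := hF g hg _ (h1 y) (r y)
    have e2 := hF _ (h1 (g • y)) _ m (r y)
    rw [h4 g hg, h0 _ m _ (h4 g hg y), add_zero, ← mul_assoc, mul_inv_cancel_left, e1, h2] at e2
    rw [h3 g hg, ← e2, add_sub_cancel_right]
  simp only [this, Finset.sum_sub_distrib]
  rw [sum_smul g fun y => F (t y) (r y), sub_self]

omit [Finite G] in
theorem smul2 (h : G) (a b : X) : h • ![a, b] = ![h • a, h • b] := by
  funext i; fin_cases i <;> rfl

omit [Finite G] [Fact p.Prime] in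
theorem main (hA : A ≤ center G) (he : ∃ k : ℕ, ∀ a : 𝔸, p ^ k • a = 0) (j : O → X)
    (hj : ∀ (g : G) y, j (g • y) = g • j y) (hO : ∀ a ∈ A, ∀ y : O, a • y = y) (hc : (Fintype.card O).Coprime p) :
    Ac X (phiS 𝔸 A) ⊤ {P | A ≤ P} 1 := by
  classical
  intro f hf hd
  have ok := phiS_ok (p := p) hA he ⊤
  obtain ⟨k, hk⟩ := he
  obtain ⟨a, b, e⟩ := Nat.isCoprime_iff_coprime.2 (hc.pow_right k)
  have eq : ∀ (h g : G) (x y : X), Phi.ev g (f ![h • x, h • y]) = Phi.ev (h⁻¹ * g * h) (f ![x, y]) := fun h g x y => by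
    rw [← smul2, hf.smul h (mem_top h), Phi.ev_smul]
  obtain ⟨u, hu, hR⟩ := exists_co ok (R := {P | A ≤ P})
    (fun h _ P hP => (cj_of_cent (mem_cent.2 fun a ha => (mem_center_iff.1 (hA ha) h).symm)).ge.trans (cj_mono h hP))
    (fun (σ : Fin 1 → X) m => ∃ F : G → O → 𝔸, Cy (st (⊤ : Subgroup G) σ) F ∧
      (∀ g ∈ st (⊤ : Subgroup G) σ, ∀ y, g • y = y → F g y = Phi.ev g (f ![σ 0, j y])) ∧
      ∀ g ∈ st (⊤ : Subgroup G) σ, Phi.ev g m = -(a • ∑ y, F g y))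
    (fun h hh σ m _ _ ⟨F, h1, h2, h3⟩ => by
      rw [st_smul hh]
      refine ⟨fun g y => F (h⁻¹ * g * h) (h⁻¹ • y), fun g hg g' hg' y => ?_, fun g hg y hy => ?_, fun g hg => ?_⟩
      · have := h1 _ (mem_cj.1 hg) _ (mem_cj.1 hg') (h⁻¹ • y)
        simpa only [mul_smul, smul_inv_smul, mul_assoc, mul_inv_cancel_left] using this
      · beta_reduce
        rw [h2 _ (mem_cj.1 hg) (h⁻¹ • y) (by simp [mul_smul, hy]), ← eq, ← hj, smul_inv_smul]; rfl
      · rw [Phi.ev_smul, h3 _ (mem_cj.1 hg), sum_smul h⁻¹ fun y => F (h⁻¹ * g * h) y])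
    fun σ hσ => by
      obtain ⟨r, t, h1, h2, h3, h4⟩ := rep (O := O) (st (⊤ : Subgroup G) σ)
      have fx : ∀ g ∈ st (⊤ : Subgroup G) σ, g • σ 0 = σ 0 := fun g hg => (mem_st.1 hg).2 0
      have m : ∀ g ∈ st (⊤ : Subgroup G) σ, ∀ y, (t (g • y))⁻¹ * g * t y ∈ st (⊤ : Subgroup G) ![σ 0, j (r y)] := fun g hg y =>
        mem_st_two.2 ⟨mem_top _, fx _ (mul_mem (mul_mem (inv_mem (h1 _)) hg) (h1 y)), by rw [← hj, h4 g hg]⟩
      obtain ⟨F, hF⟩ : ∃ F : G → O → 𝔸, ∀ g y, F g y = Phi.ev ((t (g • y))⁻¹ * g * t y) (f ![σ 0, j (r y)]) :=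
        ⟨_, fun _ _ => rfl⟩
      have c1 : Cy (st (⊤ : Subgroup G) σ) F := fun g hg h hh y => by
        have := m g hg (h • y)
        rw [h3 h hh] at this
        rw [hF, hF, hF, h3 h hh, ← (hf.mem' _).1 _ this _ (m h hh y), mul_smul]
        congr 2; group
      have c2 : ∀ g ∈ st (⊤ : Subgroup G) σ, ∀ y, g • y = y → F g y = Phi.ev g (f ![σ 0, j y]) := fun g hg y hy => by
        rw [hF, hy, ← eq, fx _ (h1 y), ← hj, h2]
      refine ⟨Phi.mk fun g => if g ∈ st (⊤ : Subgroup G) σ then -(a • ∑ y, F g y) else 0,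
        ⟨fun g hg h hh => ?_, fun g hg => ?_, fun g hg => if_neg hg⟩, F, c1, c2, fun g hg => if_pos hg⟩
      · simp only [Phi.ev_mk, if_pos hg, if_pos hh, if_pos (mul_mem hg hh), c1 g hg h hh, Finset.sum_add_distrib]
        rw [sum_smul h fun y => F g y, smul_add, neg_add]
      · rw [Phi.ev_mk, if_pos (hσ hg), Finset.sum_eq_zero fun y _ => ?_, smul_zero, neg_zero]
        rw [c2 g (hσ hg) y (hO g hg y)]
        exact (hf.mem' _).2.1 g hg
  refine ⟨u, hu, fun σ => ?_⟩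
  rw [eq_two_tuple σ]
  generalize σ 0 = x
  generalize σ 1 = x'
  by_cases hσ : A ≤ st (⊤ : Subgroup G) ![x, x']
  swap
  · rw [dd_neg hσ, hf.zero _ hσ]
  have l1 : st (⊤ : Subgroup G) ![x, x'] ≤ st (⊤ : Subgroup G) ![x] := fun g hg => mem_st_one.2 ⟨mem_top g, (mem_st_two.1 hg).2.1⟩
  have l2 : st (⊤ : Subgroup G) ![x, x'] ≤ st (⊤ : Subgroup G) ![x'] := fun g hg => mem_st_one.2 ⟨mem_top g, (mem_st_two.1 hg).2.2⟩
  obtain ⟨F, a1, a2, a3⟩ := hR ![x] (hσ.trans l1)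
  obtain ⟨F', b1, b2, b3⟩ := hR ![x'] (hσ.trans l2)
  rw [dd_pos hσ, bd_one]
  refine Phi.ext' fun g => ?_
  by_cases hg : g ∈ st (⊤ : Subgroup G) ![x, x']
  swap
  · rw [phiS_ρ_neg _ hg, (hf.mem' _).2.2 g hg]
  have key := Cy.sum_zero (P := st (⊤ : Subgroup G) ![x, x']) (F := fun g y => F g y - F' g y - Phi.ev g (f ![x, x']))
    (fun g hg h hh y => by
      simp only [a1 g (l1 hg) h (l1 hh), b1 g (l2 hg) h (l2 hh), (hf.mem' _).1 g hg h hh]; abel)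
    (fun g hg y hy => by
      have m : ∀ g ∈ st (⊤ : Subgroup G) ![x, x'], g • y = y → g ∈ st (⊤ : Subgroup G) ![x, x', j y] := fun g hg hy =>
        mem_st_three.2 ⟨mem_top g, (mem_st_two.1 hg).2.1, (mem_st_two.1 hg).2.2, by rw [← hj, hy]⟩
      have := congrArg (Phi.ev g) (hd ![x, x', j y])
      rw [dd_pos (show st ⊤ ![x, x', j y] ∈ {P | A ≤ P} from fun c hc => m c (hσ hc) (hO c hc y)), phiS_ρ_pos _ (m g hg hy), bd_two, map_add, map_sub,
        map_zero] at this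
      simp only [a2 g (l1 hg) y hy, b2 g (l2 hg) y hy, Matrix.cons_val_zero]
      rw [← neg_eq_zero, ← this]; abel) hg
  simp only [Finset.sum_sub_distrib, Finset.sum_const, Finset.card_univ, sub_eq_zero] at key
  rw [phiS_ρ_pos _ hg, map_sub, a3 g (l1 hg), b3 g (l2 hg), neg_sub_neg, ← smul_sub, key]
  calc _ = (a * Fintype.card O + b * (p ^ k : ℕ) : ℤ) • Phi.ev g (f ![x, x']) := by
        rw [add_smul, mul_smul, mul_smul, natCast_zsmul, natCast_zsmul, hk, smul_zero, add_zero]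
    _ = _ := by rw [e, one_smul]

end PhiAc

theorem phi_ac (hX : Good p G X) {𝔸 : Type*} [AddCommGroup 𝔸] {A : Subgroup G}
    (hA : A ≤ center G) (hp : IsPGroup p A) (he : ∃ k : ℕ, ∀ a : 𝔸, p ^ k • a = 0) :
    Ac X (phiS 𝔸 A) ⊤ {P | A ≤ P} 1 := by
  obtain ⟨S, hS⟩ := Syl.exists p (⊤ : Subgroup G)
  obtain ⟨y, hy⟩ := hX.of_syl hS
  have := Fintype.ofFinite (G ⧸ S)
  have fx : ∀ s ∈ S, s • y = y := fun s hs => (mem_st_one.1 (hy.ge hs)).2
  have hn : ∀ g : G, g ∈ 𝐍[A] := fun g =>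
    cent_le_norm A (mem_cent.2 fun a ha => (mem_center_iff.1 (hA ha) g).symm)
  refine PhiAc.main (O := G ⧸ S) hA he (fun c => Quotient.liftOn' c (fun g => g • y) fun a b h => ?_) ?_ ?_ ?_
  · rw [← fx _ (QuotientGroup.leftRel_apply.1 h), smul_smul, mul_inv_cancel_left, fx _ (QuotientGroup.leftRel_apply.1 h)]
  · rintro g ⟨c⟩
    exact mul_smul g c y
  · rintro a ha ⟨c⟩
    refine QuotientGroup.eq.2 (?_ : (a * c)⁻¹ * c ∈ S)
    rw [← mem_center_iff.1 (hA ha) c, mul_inv_rev, inv_mul_cancel_right]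
    exact inv_mem (hS.le_of_norm hp le_top (fun g _ => hn g) ha)
  · have := hS.nd
    rw [relIndex_top_right, index, Nat.card_eq_fintype_card] at this
    exact ((Nat.Prime.coprime_iff_not_dvd Fact.out).2 this).symm

end Cfsg.Agent.Chk
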