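import Mathlib
import Cfsg.Agent.Chk.Cx2

set_option autoImplicit false

namespace Cfsg.Agent.Chk

open Cfsg.Agent.Loc.Mss Subgroup

variable {G : Type*} [Group G] [Finite G] {X : Type*} [MulAction G X] {𝕄 : Type*}
  [AddCommGroup 𝕄] [DistribMulAction G 𝕄] {p : ℕ} [Fact p.Prime] {H : Subgroup G}
  {R : Set (Subgroup G)}

/-- An `H`-invariant finite set of points, of size prime to `p`, with Sylow stabilizers. -/
theorem Good.exists_orbit (hX : Good p G X) (H : Subgroup G) :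
    ∃ O : Finset X, ¬ p ∣ O.card ∧ (∀ h ∈ H, ∀ y, h • y ∈ O ↔ y ∈ O) ∧
      ∀ y ∈ O, Syl p (st H ![y]) H := by
  classical
  obtain ⟨T, hT⟩ := Syl.exists p H
  obtain ⟨y, hy⟩ := hX.of_syl hT
  have hfin : (MulAction.orbit H y).Finite := Set.finite_range _
  have key : ∀ h ∈ H, ∀ z ∈ MulAction.orbit H y, h • z ∈ MulAction.orbit H y := by
    rintro h hh _ ⟨k, rfl⟩
    exact ⟨⟨h, hh⟩ * k, mul_smul _ _ _⟩
  refine ⟨hfin.toFinset, ?_, fun h hh z => ?_, fun z hz => ?_⟩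
  · rw [← Set.ncard_eq_toFinset_card _ hfin, ← MulAction.index_stabilizer]
    have : MulAction.stabilizer H y = T.subgroupOf H := by
      ext k
      rw [MulAction.mem_stabilizer_iff, mem_subgroupOf, ← hy, mem_st_one]
      exact ⟨fun h => ⟨k.2, h⟩, fun h => h.2⟩
    rw [this]; exact hT.nd
  · simp only [Set.Finite.mem_toFinset]
    exact ⟨fun h' => by simpa using key _ (inv_mem hh) _ h', key h hh z⟩
  · obtain ⟨k, rfl⟩ := hfin.mem_toFinset.1 hz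
    have : st H ![(k : G) • y] = cj((k : G), T) := by
      rw [← hy, ← st_smul k.2]; congr 1; funext i; fin_cases i; rfl
    exact this ▸ hT.cj_mem k.2

omit [Finite G] in
theorem exists_inv_card {𝔸 : Type*} [AddCommGroup 𝔸] {m : ℕ} (hm : ¬ p ∣ m) (k : ℕ) :
    ∃ c : ℤ, ∀ a : 𝔸, p ^ k • a = 0 → c • m • a = a := by
  have h : IsCoprime (m : ℤ) ((p : ℤ) ^ k) :=
    (Nat.isCoprime_iff_coprime.2
      (((Nat.Prime.coprime_iff_not_dvd Fact.out).2 hm).symm)).pow_right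
  obtain ⟨a, b, e⟩ := h
  refine ⟨a, fun x hx => ?_⟩
  have h2 : ((p : ℤ) ^ k) • x = 0 := by rw [← Nat.cast_pow, natCast_zsmul, hx]
  rw [← natCast_zsmul, ← mul_smul, eq_sub_of_add_eq e, sub_smul, one_smul, mul_smul, h2, smul_zero,
    sub_zero]

omit [Finite G] [Fact p.Prime] in
theorem sum_smul_inv {O : Finset X} {h : G} (hO : ∀ y, h • y ∈ O ↔ y ∈ O) {𝔸 : Type*}
    [AddCommMonoid 𝔸] (F : X → 𝔸) : ∑ y ∈ O, F (h • y) = ∑ y ∈ O, F y :=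
  Finset.sum_equiv (MulAction.toPerm h) (fun y => (hO y).symm) fun _ _ => rfl

omit [Finite G] [Fact p.Prime] in
theorem smul_cons (h : G) {n : ℕ} (y : X) (σ : Fin n → X) :
    h • (Fin.cons y σ : Fin (n + 1) → X) = Fin.cons (h • y) (h • σ) := by
  funext i; refine Fin.cases rfl (fun _ => rfl) i

open Classical in
theorem v3 (hX : Good p G X) {D : AddSubgroup 𝕄} (hD : Mod p H D) {Y : Subgroup G}
    (hY : IsPGroup p Y) (hle : Y ≤ H) (hn : H ≤ 𝐍[Y]) (n : ℕ) :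
    Ac X (modS G D) H {P | Y ≤ P} n := by
  obtain ⟨O, hO, hi, hs⟩ := hX.exists_orbit H
  obtain ⟨k, hk⟩ := hD.exp
  obtain ⟨c, hc⟩ := exists_inv_card (𝔸 := 𝕄) hO k
  have hR : ∀ h ∈ H, ∀ P ∈ {P | Y ≤ P}, cj(h, P) ∈ {P | Y ≤ P} := fun h hh P hP => by
    have := cj_mono h hP
    rwa [cj_of_norm (hn hh)] at this
  have hcons : ∀ {m : ℕ} (σ : Fin m → X), Y ≤ st H σ → ∀ y ∈ O,
      Y ≤ st H (Fin.cons y σ : Fin (m + 1) → X) := fun σ hσ y hy g hg =>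
    mem_st_cons.2 ⟨(mem_st_one.1 ((hs y hy).le_of_norm hY hle ((st_le _ _).trans hn) hg)).2, hσ hg⟩
  intro f hf hd
  have hsm : ∀ h ∈ H, ∀ σ : Fin n → X, c • ∑ y ∈ O, f (Fin.cons y (h • σ)) =
      h • c • ∑ y ∈ O, f (Fin.cons y σ) := fun h hh σ => by
    rw [smul_comm h, Finset.smul_sum (r := h), ← sum_smul_inv (hi h hh)]
    simp only [← smul_cons, hf.smul h hh]
  refine ⟨fun σ => if Y ≤ st H σ then c • ∑ y ∈ O, f (Fin.cons y σ) else 0,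
    ⟨fun σ hσ => ?_, fun σ hσ => if_neg hσ, fun h hh σ => ?_⟩, fun σ => ?_⟩
  · rw [if_pos (show Y ≤ st H σ from hσ)]
    refine mem_modS.2 ⟨D.zsmul_mem (D.sum_mem fun y _ => (hf.mem' _).1) _, fun g hg => ?_⟩
    rw [← hsm g (st_le _ _ hg), show g • σ = σ from hg.2]
  · have := st_smul_mem_iff hR hh σ
    simp only [Set.mem_setOf_eq] at this
    simp only [this]
    split_ifs
    · exact hsm h hh σ
    · exact (smul_zero h).symm
  · by_cases hσ : Y ≤ st H σ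
    · rw [dd_pos hσ, modS_ρ, bd_congr (g := fun τ => c • ∑ y ∈ O, f (Fin.cons y τ))
        fun i => if_pos (hσ.trans (st_le_face H i σ))]
      have e : ∀ y ∈ O, bd (fun τ : Fin n → X => f (Fin.cons y τ)) σ = f σ := fun y hy => by
        have := hd (Fin.cons y σ)
        rw [dd_pos (hcons σ hσ y hy), modS_ρ, bd_cons, sub_eq_zero] at this
        exact this.symm
      have e2 : bd (fun τ : Fin n → X => c • ∑ y ∈ O, f (Fin.cons y τ)) σ =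
          c • ∑ y ∈ O, bd (fun τ : Fin n → X => f (Fin.cons y τ)) σ := by
        unfold bd
        rw [Finset.sum_comm, Finset.smul_sum]
        refine Finset.sum_congr rfl fun i _ => ?_
        rw [smul_comm, Finset.smul_sum]
      rw [e2, Finset.sum_congr rfl e, Finset.sum_const, hc _ (hk _ (hf.mem' σ).1)]
    · rw [dd_neg hσ, hf.zero σ hσ]

theorem not_syl_local {P C : Subgroup G} (hP : IsPGroup p P) (hn : P ≤ 𝐍[C])
    (h : ¬ Syl p (P ⊓ C) C) : ¬ Syl p (P ⊓ (C ⊓ 𝐍[P])) (C ⊓ 𝐍[P]) := by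
  intro hs
  obtain ⟨T, hPT, hT⟩ := Syl.exists_ge hP (le_sup_right : P ≤ C ⊔ P)
  have hTC : Syl p (T ⊓ C) C := hT.inf le_sup_left (hT.le.trans (sup_le le_normalizer hn))
  have e : P = T := eq_of_norm_inf hT.pg hPT fun t ht => by
    obtain ⟨c, hc, x, hx, rfl⟩ := (mem_sup_norm hn).1 (hT.le ht.1)
    have h1 : c ∈ T := by simpa using T.mul_mem ht.1 (T.inv_mem (hPT hx))
    have h2 : c ∈ 𝐍[P] := by simpa using (𝐍[P]).mul_mem ht.2 ((𝐍[P]).inv_mem (le_normalizer hx))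
    have h3 : T ⊓ (C ⊓ 𝐍[P]) ≤ P ⊓ (C ⊓ 𝐍[P]) :=
      hs.ge_of_le (hT.pg.to_le inf_le_left) (inf_le_inf_right _ hPT) inf_le_right
    exact mul_mem (h3 ⟨h1, hc, h2⟩).1 hx
  exact h (e ▸ hTC)

namespace Lam

/-- The atomic statement. -/
def At (X 𝕄 : Type*) [MulAction G X] [AddCommGroup 𝕄] [DistribMulAction G 𝕄] (p : ℕ)
    (P : Subgroup G) : Prop :=
  ∀ (H C : Subgroup G) (D : AddSubgroup 𝕄), Mod p H D → P ≤ H → H ≤ 𝐍[P] → C ≤ H → H ≤ 𝐍[C] →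
    PAct p C D → ¬ Syl p (P ⊓ C) C → ∀ n, Ac X (modS G D) H {P} (n + 1)

theorem ar_of (hX : Good p G X) {Θ : Sys G 𝕄} (hΘ : Θ.Ok p H) (hR : Fam H R)
    (hA : ∀ P ∈ R, P ≤ H → IsPGroup p P → At X 𝕄 p P)
    (h : ∀ P ∈ R, P ≤ H → IsPGroup p P → ∃ C, C ≤ H ⊓ 𝐍[P] ∧ H ⊓ 𝐍[P] ≤ 𝐍[C] ∧
      PAct p C (Θ.M P) ∧ ¬ Syl p (P ⊓ C) C) (n : ℕ) : Ac X Θ H R (n + 1) := by
  have hm : ∀ P ∈ R, ∀ Q ∈ R, P ≤ Q → Nat.card P ≤ Nat.card Q := fun _ _ _ _ h => card_le_of_le h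
  have hi : ∀ h ∈ H, ∀ P ∈ R, Nat.card cj(h, P) = Nat.card P := fun h _ P _ => card_cj P h
  refine filt hΘ hR (fun P => Nat.card P) hi hm fun k => ?_
  refine v2 hX hΘ (hR.level _ hi hm k).inv id (fun _ _ _ _ _ => rfl)
    (fun P hP Q hQ hle _ _ => eq_of_le_of_card_ge hle (hQ.2.trans hP.2.symm).le) fun Y => ?_
  by_cases hY : (Y ∈ R ∧ Nat.card Y = k) ∧ Y ≤ H ∧ IsPGroup p Y
  · obtain ⟨hY1, hY2, hY3⟩ := hY
    obtain ⟨C, h1, h2, h3, h4⟩ := h Y hY1.1 hY2 hY3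
    have hD : Mod p (H ⊓ 𝐍[Y]) (Θ.M Y) := ⟨fun g hg m hm => by
      have := hΘ.M_smul g hg.1 Y m hm
      rwa [cj_of_norm hg.2] at this, let ⟨k, hk⟩ := hΘ.exp; ⟨k, hk Y⟩⟩
    have := hA Y hY1.1 hY2 hY3 _ C _ hD (le_inf hY2 le_normalizer) inf_le_right h1 h2 h3 h4 n
    refine Ac.congr hX (R := {Y}) (fun P _ _ => ⟨fun e => ?_, fun e => e.2⟩) ?_
    · obtain rfl : P = Y := e
      exact ⟨hY1, rfl⟩
    · refine Ac.of_iso (κ := fun _ => AddMonoidHom.id 𝕄) ⟨?_, fun _ _ _ _ _ _ _ => rfl, ?_⟩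
        (hΘ.mono inf_le_left) ?_ (fun _ _ _ _ _ h => h) ?_ this
      · rintro _ rfl _ m hm
        exact ⟨hm, fun g hg => hΘ.fix _ g hg m hm⟩
      · rintro _ rfl _ rfl _ _ m hm
        exact hΘ.ρ_self _ m hm
      · rintro g hg _ rfl
        exact cj_of_norm hg.2
      · rintro _ rfl _ m hm
        exact ⟨m, hm.1, rfl⟩
  · refine ac_of_empty hX fun P h1 h2 h3 => hY ?_
    obtain rfl : P = Y := h3.2
    exact ⟨h3.1, h1.trans inf_le_left, h2⟩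

theorem v1_of (hX : Good p G X) {D : AddSubgroup 𝕄} (hD : Mod p H D) (hR : Fam H R)
    (hA : ∀ P ∈ R, P ≤ H → IsPGroup p P → At X 𝕄 p P)
    {C : Subgroup G} (hC : C ≤ H) (hn : H ≤ 𝐍[C]) (ha : PAct p C D)
    (h : ∀ P ∈ R, P ≤ H → IsPGroup p P → ¬ Syl p (P ⊓ C) C) (n : ℕ) :
    Ac X (modS G D) H R n := by
  cases n with
  | zero => exact ac_zero hX hD.ok fun T hT hTR => h T hTR hT.le hT.pg (hT.inf hC (hT.le.trans hn))
  | succ n =>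
    refine ar_of hX hD.ok hR hA (fun P hP hle hp => ⟨C ⊓ 𝐍[P], inf_le_inf_right _ hC,
      norm_inf (inf_le_left.trans hn) (norm_norm inf_le_right), fun c hc => ?_,
      not_syl_local hp (hle.trans hn) (h P hP hle hp)⟩) n
    obtain ⟨k, hk⟩ := ha c hc.1
    exact ⟨k, fun m hm => hk m hm.1⟩

/-- The overgroups of `P` containing a Sylow subgroup of `C`. -/
def Q2 (p : ℕ) (P C : Subgroup G) : Set (Subgroup G) := {Q | P ≤ Q ∧ ∃ U, Syl p U C ∧ U ≤ Q}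

theorem q2_inv {P C : Subgroup G} (hn : H ≤ 𝐍[P]) (hC : H ≤ 𝐍[C]) :
    ∀ h ∈ H, ∀ Q ∈ Q2 p P C, cj(h, Q) ∈ Q2 p P C := by
  rintro h hh Q ⟨h1, U, h2, h3⟩
  refine ⟨?_, _, h2.cj_norm (hC hh), cj_mono h h3⟩
  have := cj_mono h h1
  rwa [cj_of_norm (hn hh)] at this

theorem q2_inf {P C Q : Subgroup G} (hQ : Q ∈ Q2 p P C) (hp : IsPGroup p Q) :
    Syl p (Q ⊓ C) C := by
  obtain ⟨-, U, h1, h2⟩ := hQ
  rwa [h1.eq_of_le (hp.to_le inf_le_left) (le_inf h2 h1.le) inf_le_right]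

theorem q2_succ (hX : Good p G X) {D : AddSubgroup 𝕄} (hD : Mod p H D) {P C : Subgroup G}
    (hn : H ≤ 𝐍[P]) (hC : H ≤ 𝐍[C]) (n : ℕ) : Ac X (modS G D) H (Q2 p P C) (n + 1) := by
  refine v2 hX hD.ok (q2_inv hn hC) (fun Q => Q ⊓ C)
    (fun h hh Q _ _ => by rw [cj_inf, cj_of_norm (hC hh)])
    (fun Q hQ Q' _ hle _ hp => ((q2_inf hQ (hp.to_le hle)).eq_of_le (hp.to_le inf_le_left)
      (inf_le_inf_right _ hle) inf_le_right).symm) fun U => ?_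
  by_cases h : ∃ Q ≤ H ⊓ 𝐍[U], IsPGroup p Q ∧ Q ∈ Q2 p P C ∧ Q ⊓ C = U
  · obtain ⟨Q, h1, h2, h3, h4⟩ := h
    have hU : Syl p U C := h4 ▸ q2_inf h3 h2
    have hle : P ⊔ U ≤ Q := sup_le h3.1 (h4 ▸ inf_le_left)
    refine Ac.congr hX (R := {Q | P ⊔ U ≤ Q}) (fun Q' _ hp => ⟨fun e => ?_, fun e => ?_⟩)
      (v3 hX (hD.mono inf_le_left) (h2.to_le hle) (hle.trans h1)
        (norm_sup (inf_le_left.trans hn) inf_le_right) _)
    · have e' : U ≤ Q' := le_sup_right.trans e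
      exact ⟨⟨le_sup_left.trans e, U, hU, e'⟩,
        hU.eq_of_le (hp.to_le inf_le_left) (le_inf e' hU.le) inf_le_right⟩
    · exact sup_le e.1.1 (e.2 ▸ inf_le_left)
  · exact ac_of_empty hX fun Q h1 h2 h3 => h ⟨Q, h1, h2, h3.1, h3.2⟩

theorem q2_zero (hX : Good p G X) {D : AddSubgroup 𝕄} {P C : Subgroup G} (hP : IsPGroup p P)
    (hle : P ≤ H) (hn : H ≤ 𝐍[P]) (hCH : C ≤ H) (hC : H ≤ 𝐍[C]) (ha : PAct p C D) :
    Ac X (modS G D) H (Q2 p P C) 0 := by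
  intro f hf hd
  have hup : ∀ Q ∈ Q2 p P C, ∀ Q', Q ≤ Q' → Q' ∈ Q2 p P C := fun Q ⟨h1, U, h2, h3⟩ Q' h =>
    ⟨h1.trans h, U, h2, h3.trans h⟩
  have two : ∀ x y : X, ∀ Q ∈ Q2 p P C, Q ≤ st H ![x] → Q ≤ st H ![y] → f ![y] = f ![x] :=
    fun x y Q hQ h1 h2 => by
      have := hd ![x, y]
      rwa [dd_pos (hup Q hQ _ fun g hg => mem_st_two.2 ⟨(mem_st_one.1 (h1 hg)).1,
        (mem_st_one.1 (h1 hg)).2, (mem_st_one.1 (h2 hg)).2⟩), modS_ρ, bd_one, sub_eq_zero] at this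
  have hsy : ∀ T, Syl p T H → T ∈ Q2 p P C := fun T hT =>
    ⟨hT.le_of_norm hP hle (hT.le.trans hn), _, hT.inf hCH (hT.le.trans hC), inf_le_left⟩
  have hone : ∀ (h : G) (x : X), h • ![x] = ![h • x] := fun h x => by
    funext i; fin_cases i; rfl
  obtain ⟨T, hT⟩ := Syl.exists p H
  obtain ⟨x₀, rfl⟩ := hX.of_syl hT
  have hU : Syl p (st H ![x₀] ⊓ C) C := hT.inf hCH (hT.le.trans hC)
  have hm := hf.mem' ![x₀]
  have hfix : ∀ h ∈ H, h • f ![x₀] = f ![x₀] := by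
    have h1 : C ≤ MulAction.stabilizer G (f ![x₀]) :=
      hU.le_of_res_le (res_le_of_pow fun c hc => let ⟨k, hk⟩ := ha c hc; ⟨k, hk _ hm.1⟩)
        fun g hg => hm.2 g hg.1
    intro h hh
    obtain ⟨c, hc, k, hk, rfl⟩ := hU.frattini (hC hh)
    have hkH : k ∈ H := by simpa using mul_mem (inv_mem (hCH hc)) hh
    have hPT : P ≤ st H ![x₀] := (hsy _ hT).1
    have : k • f ![x₀] = f ![x₀] := by
      rw [← hf.smul k hkH, hone]
      refine two _ _ (P ⊔ st H ![x₀] ⊓ C) ⟨le_sup_left, _, hU, le_sup_right⟩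
        (sup_le hPT inf_le_left) ?_
      rw [← hone, st_smul hkH]
      refine sup_le ?_ ?_
      · have := cj_mono k hPT
        rwa [cj_of_norm (hn hkH)] at this
      · have := cj_mono k (inf_le_left : st H ![x₀] ⊓ C ≤ st H ![x₀])
        rwa [cj_of_norm hk] at this
    rw [mul_smul, this]; exact h1 hc
  have hH : ∀ σ : Fin 0 → X, st H σ ∈ Q2 p P C := fun σ => hup _ (hsy _ hT) _ (by
    rw [st_zero]; exact hT.le)
  refine ⟨fun _ => f ![x₀], ⟨fun σ _ => ⟨hm.1, fun g hg => hfix g (st_le _ _ hg)⟩,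
    fun σ h => absurd (hH σ) h, fun h hh _ => (hfix h hh).symm⟩, fun σ => ?_⟩
  rw [eq_one_tuple σ]
  by_cases hσ : st H ![σ 0] ∈ Q2 p P C
  · rw [dd_pos hσ, modS_ρ, bd_zero]
    obtain ⟨y, h1, h2⟩ := hX.exists_syl (st_pg hX H ![σ 0]) (st_le _ _)
    obtain ⟨h, hh, e⟩ := hT.conj_eq h2
    rw [← two _ y _ hσ le_rfl h1, two (h • x₀) y _ (hsy _ h2) ?_ le_rfl, ← hone, hf.smul h hh,
      hfix h hh]
    rw [← hone, st_smul hh, e]
  · rw [dd_neg hσ, hf.zero _ hσ]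

theorem at_step (hX : Good p G X) {P : Subgroup G} (hP : IsPGroup p P)
    (ih : ∀ Q, P < Q → IsPGroup p Q → At X 𝕄 p Q) : At X 𝕄 p P := by
  intro H C D hD hle hn hCH hC ha hs n
  have hall : Fam H {Q | P ≤ Q} := ⟨fun h hh Q hQ => by
    have := cj_mono h hQ
    rwa [cj_of_norm (hn hh)] at this, fun _ h _ _ _ h1 _ => le_trans h h1⟩
  have hup : Up H {Q | P ≤ Q} {Q | P < Q} := ⟨fun Q h => (show P < Q from h).le, fun h hh Q hQ => by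
    have := (cj_lt_cj (g := h)).2 hQ
    rwa [cj_of_norm (hn hh)] at this, fun _ h _ _ h1 => lt_of_lt_of_le h h1⟩
  have hup2 : Up H {Q | P < Q} (Q2 p P C) :=
    ⟨fun Q hQ => lt_of_le_of_ne hQ.1 fun e => hs (q2_inf (by subst e; exact hQ) hP), q2_inv hn hC,
      fun Q ⟨h1, U, h2, h3⟩ Q' _ h => ⟨h1.trans h, U, h2, h3.trans h⟩⟩
  have h1 : Ac X (modS G D) H {Q | P < Q} n := by
    refine les1 hD.ok (hup.fam hall) hup2 (v1_of hX hD (hup2.fam_diff (hup.fam hall))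
      (fun Q hQ _ hp => ih Q hQ.1 hp) hCH hC ha
      (fun Q hQ _ _ h => hQ.2 ⟨le_of_lt hQ.1, _, h, inf_le_left⟩) n) ?_
    cases n with
    | zero => exact q2_zero hX hP hle hn hCH hC ha
    | succ n => exact q2_succ hX hD hn hC n
  have := les2 hD.ok hall hup (v3 hX hD hP hle hn _) h1
  convert this using 1
  ext Q
  simp only [Set.mem_singleton_iff, Set.mem_diff, Set.mem_setOf_eq]
  exact ⟨fun e => e ▸ ⟨le_rfl, lt_irrefl _⟩, fun h => (eq_of_le_of_not_lt h.1 h.2).symm⟩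

theorem at_all (hX : Good p G X) (P : Subgroup G) (hP : IsPGroup p P) : At X 𝕄 p P := by
  induction P using WellFoundedGT.induction with
  | ind P ih => exact at_step hX hP fun Q hQ hp => ih Q hQ hp

end Lam

theorem ar (hX : Good p G X) {Θ : Sys G 𝕄} (hΘ : Θ.Ok p H) (hR : Fam H R)
    (h : ∀ P ∈ R, P ≤ H → IsPGroup p P → ∃ C, C ≤ H ⊓ 𝐍[P] ∧ H ⊓ 𝐍[P] ≤ 𝐍[C] ∧
      PAct p C (Θ.M P) ∧ ¬ Syl p (P ⊓ C) C) (n : ℕ) : Ac X Θ H R (n + 1) :=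
  Lam.ar_of hX hΘ hR (fun P _ _ hp => Lam.at_all hX P hp) h n

theorem v1 (hX : Good p G X) {D : AddSubgroup 𝕄} (hD : Mod p H D) (hR : Fam H R)
    {C : Subgroup G} (hC : C ≤ H) (hn : H ≤ 𝐍[C]) (ha : PAct p C D)
    (h : ∀ P ∈ R, P ≤ H → IsPGroup p P → ¬ Syl p (P ⊓ C) C) (n : ℕ) :
    Ac X (modS G D) H R n :=
  Lam.v1_of hX hD hR (fun P _ _ hp => Lam.at_all hX P hp) hC hn ha h n

end Cfsg.Agent.Chk
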