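import Mathlib
import Cfsg.Agent.Chk.Defs
import Cfsg.Agent.GT.PGroupChain

/-! Offenders: the basic kit, transvections and orbit sums. -/

set_option autoImplicit false
set_option linter.unusedSectionVars false

namespace Cfsg.Agent.Chk

open Cfsg.Agent.Loc.Mss Subgroup

variable {G : Type*} [Group G] [Finite G] {p : ℕ}

namespace OffK

variable {𝕄 : Type*} [AddCommGroup 𝕄] [DistribMulAction G 𝕄] {D : AddSubgroup 𝕄} {A B H : Subgroup G}

theorem fix_anti (h : A ≤ B) : fixS 𝕄 B ≤ fixS 𝕄 A := fun _ hm g hg => hm g (h hg)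

theorem fix_bot : fixS 𝕄 (⊥ : Subgroup G) = ⊤ :=
  eq_top_iff.2 fun m _ g hg => by rw [mem_bot.1 hg, one_smul]

theorem card_inf_mul (U W : AddSubgroup 𝕄) : Nat.card ↥(W ⊓ U) * W.relIndex U = Nat.card U := by
  rw [← AddSubgroup.relIndex_bot_left, ← AddSubgroup.relIndex_bot_left, ← AddSubgroup.inf_relIndex_right W U]
  exact AddSubgroup.relIndex_mul_relIndex _ _ _ bot_le inf_le_right

theorem cw_cj (hD : ∀ h ∈ H, ∀ m ∈ D, h • m ∈ D) {h : G} (hh : h ∈ H) (A : Subgroup G) :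
    cw D cj(h, A) = cw D A := by
  rw [cw, cw, card_cj]
  congr 1
  refine Nat.card_congr ⟨fun m => ⟨h⁻¹ • m.1, hD _ (inv_mem hh) _ m.2.1, ?_⟩,
    fun m => ⟨h • m.1, hD _ hh _ m.2.1, smul_mem_fixS h m.2.2⟩, fun m => Subtype.ext (smul_inv_smul _ _),
    fun m => Subtype.ext (inv_smul_smul _ _)⟩
  have := smul_mem_fixS h⁻¹ m.2.2
  rwa [cj_inv_cj] at this

theorem cw_top (A : Subgroup G) : cw (⊤ : AddSubgroup 𝕄) A = Nat.card A * Nat.card (fixS 𝕄 A) := by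
  rw [cw, top_inf_eq]

theorem cw_bot : cw (⊤ : AddSubgroup 𝕄) (⊥ : Subgroup G) = Nat.card 𝕄 := by
  rw [cw_top, fix_bot, card_bot, one_mul, AddSubgroup.card_top]

end OffK

open OffK

section
variable {𝕄 : Type*} [AddCommGroup 𝕄] [DistribMulAction G 𝕄] {D D' : AddSubgroup 𝕄}
  {A P Q H : Subgroup G}

theorem off_cj (hD : ∀ h ∈ H, ∀ m ∈ D, h • m ∈ D) {h : G} (hh : h ∈ H) (hA : Off D A) :
    Off D cj(h, A) := fun B hB => by
  rw [cw_cj hD hh, ← cw_cj hD (inv_mem hh) B]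
  exact hA _ (le_cj_iff_inv_le.1 hB)

theorem off_restrict [Finite D] (hle : D' ≤ D) (hA : Off D A) : Off D' A := fun B hB => by
  have h1 := hA B hB
  have hW : D ⊓ fixS 𝕄 A ≤ D ⊓ fixS 𝕄 B := inf_le_inf_left _ (fix_anti hB)
  have : Finite ↥(D ⊓ fixS 𝕄 B) := Finite.Set.subset (D : Set 𝕄) fun _ h => h.1
  have : Finite ↥(D ⊓ fixS 𝕄 A) := Finite.Set.subset (D : Set 𝕄) fun _ h => h.1
  have h2 := card_inf_mul (D ⊓ fixS 𝕄 B) (D ⊓ fixS 𝕄 A)
  have h3 := card_inf_mul (D' ⊓ fixS 𝕄 B) (D ⊓ fixS 𝕄 A)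
  have h4 : (D ⊓ fixS 𝕄 A) ⊓ (D' ⊓ fixS 𝕄 B) = D' ⊓ fixS 𝕄 A :=
    le_antisymm (fun _ h => ⟨h.2.1, h.1.2⟩) fun _ h => ⟨⟨hle h.1, h.2⟩, h.1, fix_anti hB h.2⟩
  rw [inf_of_le_left hW] at h2
  have h5 : (D ⊓ fixS 𝕄 A).relIndex (D' ⊓ fixS 𝕄 B) ≤ (D ⊓ fixS 𝕄 A).relIndex (D ⊓ fixS 𝕄 B) :=
    AddSubgroup.relIndex_le_of_le_right (inf_le_inf_right _ hle) fun e => by
      rw [e, mul_zero] at h2
      exact Nat.card_pos.ne h2
  rw [cw, cw, ← h2, mul_comm (Nat.card ↥(D ⊓ fixS 𝕄 A)), ← mul_assoc] at h1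
  rw [cw, cw, ← h3, h4, mul_comm (Nat.card ↥(D' ⊓ fixS 𝕄 A)), ← mul_assoc]
  exact Nat.mul_le_mul_right _ ((Nat.mul_le_mul_left _ h5).trans (Nat.le_of_mul_le_mul_right h1 Nat.card_pos))

theorem off_of_cen (hA : A ≤ cenS G D) : Off D A := fun B hB => by
  have h : ∀ B ≤ A, D ⊓ fixS 𝕄 B = D := fun B hB => inf_eq_left.2 fun m hm g hg => hA (hB hg) m hm
  rw [cw, cw, h B hB, h A le_rfl]
  exact Nat.mul_le_mul_right _ (card_le_of_le hB)

theorem jall_le (D : AddSubgroup 𝕄) (P : Subgroup G) : Jall D P ≤ P := sSup_le fun _ h => h.1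

theorem le_jall (hA : Off D A) (h : A ≤ P) : A ≤ Jall D P := le_sSup ⟨h, hA⟩

theorem jall_mono (D : AddSubgroup 𝕄) (h : P ≤ Q) : Jall D P ≤ Jall D Q :=
  sSup_le fun _ hA => le_jall hA.2 (hA.1.trans h)

theorem jall_eq_of_le (h1 : Jall D P ≤ Q) (h2 : Q ≤ P) : Jall D Q = Jall D P :=
  le_antisymm (jall_mono D h2) (sSup_le fun _ hA => le_jall hA.2 ((le_jall hA.2 hA.1).trans h1))

theorem jall_cj (hD : ∀ h ∈ H, ∀ m ∈ D, h • m ∈ D) {h : G} (hh : h ∈ H) (P : Subgroup G) :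
    Jall D cj(h, P) = cj(h, Jall D P) := by
  have key : ∀ h ∈ H, ∀ P : Subgroup G, Jall D cj(h, P) ≤ cj(h, Jall D P) := fun h hh P =>
    sSup_le fun _ hA => le_cj_iff_inv_le.2 (le_jall (off_cj hD (inv_mem hh) hA.2) (le_cj_iff_inv_le.1 hA.1))
  refine le_antisymm (key h hh P) (cj_le_iff_le_inv.2 ?_)
  have := key _ (inv_mem hh) cj(h, P)
  rwa [cj_inv_cj] at this

theorem jall_restrict [Finite D] (hle : D' ≤ D) (P : Subgroup G) : Jall D P ≤ Jall D' P :=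
  sSup_le fun _ hA => le_jall (off_restrict hle hA.2) hA.1

end

section
variable {D : Type*} [AddCommGroup D] [DistribMulAction G D] {A P Q Y S : Subgroup G}

theorem OffK.off_top_cj (hA : Off (⊤ : AddSubgroup D) A) (g : G) : Off (⊤ : AddSubgroup D) cj(g, A) :=
  off_cj (H := ⊤) (fun _ _ _ _ => AddSubgroup.mem_top _) (mem_top g) hA

theorem Large.mono (h : Large D P) (hle : P ≤ Q) : Large D Q :=
  let ⟨A, h1, h2⟩ := h; ⟨A, h1.trans hle, h2⟩

theorem Large.cj (h : Large D P) (g : G) : Large D cj(g, P) :=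
  let ⟨_, h1, h2, h3⟩ := h; ⟨_, cj_mono g h1, fun e => h2 (cj_eq_bot.1 e), off_top_cj h3 g⟩

theorem Large.exists_minOff (h : Large D P) : ∃ A ≤ P, MinOff D A := by
  obtain ⟨A, hA, hm⟩ := (wellFounded_lt (α := Subgroup G)).has_min
    {A | A ≤ P ∧ A ≠ ⊥ ∧ Off (⊤ : AddSubgroup D) A} h
  exact ⟨A, hA.1, hA.2.1, hA.2.2, fun B hB h1 h2 => hm B ⟨hB.le.trans hA.1, h1, h2⟩ hB⟩

theorem MinOff.cj (h : MinOff D A) (g : G) : MinOff D cj(g, A) :=
  ⟨fun e => h.1 (cj_eq_bot.1 e), off_top_cj h.2.1 g, fun B hB h1 h2 =>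
    h.2.2 cj(g⁻¹, B) (by rw [← cj_inv_cj A g]; exact cj_lt_cj.2 hB) (fun e => h1 (cj_eq_bot.1 e)) (off_top_cj h2 _)⟩

theorem jm_le (P : Subgroup G) : Jm D P ≤ P := sSup_le fun _ h => h.1

theorem le_jm (hA : MinOff D A) (h : A ≤ P) : A ≤ Jm D P := le_sSup ⟨h, hA⟩

theorem jm_mono (h : P ≤ Q) : Jm D P ≤ Jm D Q := sSup_le fun _ hA => le_jm hA.2 (hA.1.trans h)

theorem jm_jm (P : Subgroup G) : Jm D (Jm D P) = Jm D P :=
  le_antisymm (jm_le _) (sSup_le fun _ hA => le_jm hA.2 (le_jm hA.2 hA.1))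

theorem jm_cj (g : G) (P : Subgroup G) : Jm D cj(g, P) = cj(g, Jm D P) := by
  have key : ∀ (h : G) (P : Subgroup G), Jm D cj(h, P) ≤ cj(h, Jm D P) := fun h P =>
    sSup_le fun _ hA => le_cj_iff_inv_le.2 (le_jm (hA.2.cj _) (le_cj_iff_inv_le.1 hA.1))
  refine le_antisymm (key g P) (cj_le_iff_le_inv.2 ?_)
  have := key g⁻¹ cj(g, P)
  rwa [cj_inv_cj] at this

theorem jm_ne_bot : Jm D P ≠ ⊥ ↔ Large D P := by
  refine ⟨fun h => by_contra fun hn => h (le_bot_iff.1 (sSup_le fun A hA => ?_)), fun h e => ?_⟩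
  · exact absurd ⟨A, hA.1, hA.2.1, hA.2.2.1⟩ hn
  · obtain ⟨A, h1, h2⟩ := h.exists_minOff
    exact h2.1 (le_bot_iff.1 (e ▸ le_jm h2 h1))

theorem jm_sup (hY : Jm D Y = Y) (hA : MinOff D A) : Jm D (Y ⊔ A) = Y ⊔ A :=
  le_antisymm (jm_le _) (sup_le (hY.ge.trans (jm_mono le_sup_left)) (le_jm hA le_sup_right))

theorem exists_minOff_not_le (h : ¬ Jm D P ≤ Y) : ∃ A, MinOff D A ∧ A ≤ P ∧ ¬ A ≤ Y := by
  by_contra hn
  exact h (sSup_le fun A hA => by_contra fun h' => hn ⟨A, hA.2, hA.1, h'⟩)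

theorem jm_eq_of_norm [Fact p.Prime] (hS : IsPGroup p S) (hY : Y ≤ S)
    (h : Jm D (S ⊓ 𝐍[Y]) = Y) : Jm D S = Y := by
  have h1 : Syl p (S ⊓ 𝐍[Y]) S := Syl.of_norm (hS.to_le inf_le_left) inf_le_left fun P _ _ h2 h3 g hg =>
    ⟨h2 hg, cj_eq_iff.1 (by rw [← h, ← jm_cj, cj_of_norm (h3 hg)])⟩
  rw [← h, ← h1.eq_of_le hS inf_le_left le_rfl]

omit [Finite G] in
theorem Tv.cj {b : G} {v : D} (h : Tv b v) (g : G) : Tv (g * b * g⁻¹) (g • v) where
  sq := by rw [conj_mul, h.sq, mul_one, mul_inv_cancel]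
  ne := fun e => h.ne ((smul_eq_zero_iff_eq g).1 e)
  fix := by rw [mul_smul, mul_smul, inv_smul_smul, h.fix]
  two := by rw [← smul_add, h.two, smul_zero]
  alt := fun w => (h.alt (g⁻¹ • w)).imp (fun e => by rw [mul_smul, mul_smul, e, smul_inv_smul])
    fun e => by rw [mul_smul, mul_smul, e, smul_add, smul_inv_smul]
  ex := let ⟨w, e⟩ := h.ex; ⟨g • w, by rw [mul_smul, mul_smul, inv_smul_smul, e, smul_add]⟩

omit [Finite G] in
theorem Tv.unique {b : G} {v v' : D} (h : Tv b v) (h' : Tv b v') : v = v' := by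
  obtain ⟨w, e⟩ := h.ex
  rcases h'.alt w with e' | e'
  · exact absurd (add_eq_left.1 (e.symm.trans e')) h.ne
  · exact add_left_cancel (e.symm.trans e')

omit [Finite G] in
theorem Tv.eq_of_zpowers {b b' : G} {v v' : D} (h : Tv b v) (h' : Tv b' v')
    (e : zpowers b = zpowers b') : b = b' := by
  obtain ⟨n, rfl⟩ : b ∈ zpowers b' := e ▸ mem_zpowers b
  have h2 : ∀ k : ℤ, b' ^ (2 * k) = 1 := fun k => by rw [zpow_mul, zpow_two, h'.sq, one_zpow]
  obtain ⟨k, rfl | rfl⟩ := Int.even_or_odd' n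
  · obtain ⟨w, hw⟩ := h.ex
    simp only [h2, one_smul] at hw
    exact absurd (left_eq_add.1 hw) h.ne
  · simp only [zpow_add, h2, one_mul, zpow_one]

namespace OffK

/-- The commutator map. -/
def cm (D : Type*) [AddCommGroup D] [DistribMulAction G D] (a : G) : D →+ D :=
  DistribMulAction.toAddMonoidHom D a - AddMonoidHom.id D

theorem cm_apply (a : G) (m : D) : cm D a m = a • m - m := rfl

theorem card_range_le [Finite D] (hA : Off (⊤ : AddSubgroup D) A) {a : G} (ha : a ∈ A) :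
    Nat.card (cm D a).range ≤ Nat.card A := by
  have h1 := hA ⊥ bot_le
  rw [cw_bot, cw_top, ← (fixS D A).index_mul_card] at h1
  rw [← AddSubgroup.index_ker]
  refine (AddSubgroup.index_antitone fun m hm => ?_).trans (Nat.le_of_mul_le_mul_right h1 Nat.card_pos)
  rw [AddMonoidHom.mem_ker, cm_apply, hm a ha, sub_self]

theorem cw_lt (hA : MinOff D A) (B : Subgroup G) : B < A → B ≠ ⊥ → cw (⊤ : AddSubgroup D) B < Nat.card D := by
  induction B using (wellFounded_lt (α := Subgroup G)).induction with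
  | _ B ih =>
    intro h1 h2
    obtain ⟨C, h3, h4⟩ : ∃ C ≤ B, cw (⊤ : AddSubgroup D) B < cw (⊤ : AddSubgroup D) C := by
      simpa [Off] using hA.2.2 B h1 h2
    by_cases h5 : C = ⊥
    · rwa [h5, cw_bot] at h4
    · exact h4.trans (ih C (h3.lt_of_ne fun e => h4.ne (by rw [e])) (h3.trans_lt h1) h5)

theorem fix_le [Finite D] [hp : Fact p.Prime] (he : ∃ k : ℕ, ∀ m : D, p ^ k • m = 0) (hA : MinOff D A) {M : Subgroup G}
    (h1 : M ≤ A) (h2 : Nat.card A = p * Nat.card M) (h3 : M ≠ ⊥) : fixS D M ≤ fixS D A := fun m hm => by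
  have h4 := (cw_lt hA M (h1.lt_of_ne fun e => by
    rw [e] at h2
    exact hp.out.one_lt.ne' (Nat.eq_of_mul_eq_mul_right Nat.card_pos (h2.symm.trans (one_mul _).symm))) h3).trans_le
      (cw_bot (G := G) (𝕄 := D) ▸ hA.2.1 ⊥ bot_le)
  have h5 := card_inf_mul (fixS D M) (fixS D A)
  rw [inf_of_le_left (fix_anti h1)] at h5
  rw [cw_top, cw_top, h2, ← h5, mul_comm p, mul_assoc, mul_comm p] at h4
  have h6 := Nat.lt_of_mul_lt_mul_left (Nat.lt_of_mul_lt_mul_left h4)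
  have h7 : (fixS D A).relIndex (fixS D M) ≠ 0 := fun e => by
    rw [e, mul_zero] at h5
    exact Nat.card_pos.ne h5
  obtain ⟨k, hk⟩ := he
  refine (AddSubgroup.zmultiples_le_of_mem ((fixS D A).nsmul_relIndex_mem hm)) (mem_zmultiples_nsmul_iff.2 ?_)
  exact Nat.Coprime.coprime_dvd_right (addOrderOf_dvd_of_nsmul_eq_zero (hk m))
    (Nat.Coprime.pow_right k (Nat.coprime_of_lt_prime h7 h6 hp.out).symm)

theorem fix_cm [Finite D] [hp : Fact p.Prime] (hA : Off (⊤ : AddSubgroup D) A) (h : Nat.card A = p) {a : G} (ha : a ∈ A)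
    (w : D) : a • w - w ∈ fixS D A := by
  have hc : IsCyclic A := isCyclic_of_prime_card h
  have h1 := (MulAction.stabilizer A (a • w - w)).index_dvd_card
  rw [h] at h1
  rcases (Nat.dvd_prime hp.out).1 h1 with h2 | h2
  · exact fun g hg => (index_eq_one.1 h2).ge (mem_top (⟨g, hg⟩ : A))
  by_cases h0 : a • w - w = 0
  · rw [h0]; exact zero_mem _
  have h3 : insert 0 (MulAction.orbit A (a • w - w)) ⊆ (cm D a).range := by
    rintro _ (rfl | ⟨g, rfl⟩)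
    · exact zero_mem _
    · refine ⟨g.1 • w, ?_⟩
      have := congrArg Subtype.val (IsCyclic.commGroup.mul_comm ⟨a, ha⟩ g)
      change a • g.1 • w - g.1 • w = g.1 • (a • w - w)
      rw [smul_sub, ← mul_smul, ← mul_smul]
      exact congrArg (fun x => x • w - g.1 • w) this
  have h4 := (Set.ncard_le_ncard h3).trans (card_range_le hA ha)
  have h5 : 0 ∉ MulAction.orbit A (a • w - w) := fun ⟨g, e⟩ => h0 ((smul_eq_zero_iff_eq g).1 e)
  rw [Set.ncard_insert_of_notMem h5, ← MulAction.index_stabilizer, h2, h] at h4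
  omega

end OffK

theorem MinOff.tv [Finite D] [FaithfulSMul G D] (hA : MinOff D A) (h2 : Nat.card A = 2) :
    ∃ (b : G) (v : D), A = zpowers b ∧ Tv b v := by
  obtain ⟨⟨b, hb⟩, n⟩ := (ne_bot_iff_exists_ne_one).1 hA.1
  have n' : b ≠ 1 := fun e => n (Subtype.ext e)
  obtain ⟨m, hm⟩ : ∃ m : D, b • m ≠ m := by
    by_contra h
    push Not at h
    exact n' (eq_of_smul_eq_smul (α := D) fun m => by rw [h, one_smul])
  have sq : b * b = 1 := by
    have := congrArg Subtype.val (pow_card_eq_one' (x := (⟨b, hb⟩ : A)))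
    rwa [h2, pow_two] at this
  have ne : b • m - m ≠ 0 := sub_ne_zero.2 hm
  have fix : b • (b • m - m) = b • m - m := fix_cm hA.2.1 h2 hb m b hb
  have key : ∀ x ∈ (cm D b).range, x = 0 ∨ x = b • m - m := fun x hx => by
    by_contra h
    push Not at h
    have h3 : ({x, 0, b • m - m} : Set D) ⊆ (cm D b).range := by
      rintro _ (rfl | rfl | rfl)
      exacts [hx, zero_mem _, ⟨m, rfl⟩]
    have h4 := (Set.ncard_le_ncard h3).trans (card_range_le hA.2.1 hb)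
    rw [Set.ncard_insert_of_notMem (by simp [h.1, h.2]), Set.ncard_pair ne.symm] at h4
    omega
  refine ⟨b, b • m - m, ?_, sq, ne, fix, ?_, fun w => (key _ ⟨w, rfl⟩).imp sub_eq_zero.1 fun e => ?_, m, by abel⟩
  · refine (eq_of_le_of_card_ge (zpowers_le.2 hb) ?_).symm
    rw [h2, Nat.card_zpowers, orderOf_eq_prime (by rw [pow_two, sq]) n']
  · nth_rewrite 1 [← fix]
    rw [smul_sub, ← mul_smul, sq, one_smul]; abel
  · rw [← e, cm_apply]; abel

theorem OffK.orb [Finite D] [hp : Fact p.Prime]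
    (he : ∃ k : ℕ, ∀ m : D, p ^ k • m = 0) (hA : MinOff D A) (hp' : IsPGroup p A)
    (hne : ¬ (p = 2 ∧ Nat.card A = 2)) {w e : D} (hf : ∃ a ∈ A, a • w ≠ w) (hfe : ∀ a ∈ A, a • e = e)
    (hpe : p • w = e) (O : Finset D) (hO : ∀ x, x ∈ O ↔ ∃ g : A, g • w = x) : ∃ k : ℕ, ∑ x ∈ O, x = k • e := by
  classical
  have := Fintype.ofFinite A
  have hB : MulAction.stabilizer A w ≠ ⊤ := fun h => by
    obtain ⟨a, ha, n⟩ := hf
    exact n (h.ge (mem_top (⟨a, ha⟩ : A)))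
  by_cases hc : Nat.card A = p
  · have hB' := ((MulAction.stabilizer A w).eq_bot_or_eq_top_of_prime_card (hp := hc ▸ hp)).resolve_right hB
    have h1 : O = Finset.univ.image fun g : A => g • w := by
      ext x; simp [hO]
    have h2 : ∑ g : A, (g • w - w) = 0 := by
      refine Finset.sum_involution (fun g _ => g⁻¹) (fun g _ => ?_) (fun g _ n e => n ?_) (fun _ _ => Finset.mem_univ _)
        fun g _ => inv_inv g
      · have : g⁻¹ • (g • w - w) = g • w - w := fix_cm hA.2.1 hc g.2 w _ (g⁻¹).2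
        rw [← this, smul_sub, inv_smul_smul]; abel
      · have h3 : orderOf g ∣ 2 := orderOf_dvd_of_pow_eq_one (by rw [pow_two]; exact inv_eq_iff_mul_eq_one.1 e)
        have h4 : orderOf g ∣ p := hc ▸ orderOf_dvd_natCard g
        have h5 : orderOf g = 1 := Nat.eq_one_of_dvd_coprimes
          ((Nat.coprime_primes Nat.prime_two hp.out).2 fun e => hne ⟨e.symm, hc.trans e.symm⟩) h3 h4
        rw [orderOf_eq_one_iff.1 h5, one_smul, sub_self]
    refine ⟨1, ?_⟩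
    rw [h1, Finset.sum_image fun g _ h _ e => by
      have : h⁻¹ * g ∈ MulAction.stabilizer A w := by
        rw [MulAction.mem_stabilizer_iff, mul_smul, inv_smul_eq_iff]; exact e
      rw [hB', mem_bot, inv_mul_eq_one] at this
      exact this.symm]
    rw [Finset.sum_sub_distrib, sub_eq_zero, Finset.sum_const, Finset.card_univ, ← Nat.card_eq_fintype_card, hc] at h2
    rw [h2, hpe, one_smul]
  obtain ⟨N, h1, h2⟩ := GT.PG.exists_index_eq_prime_of_ne_top hp' hB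
  have := GT.PG.normal_of_index_prime hp' h2
  have := Fintype.ofFinite (A ⧸ N)
  let c : D → A ⧸ N := fun x => if h : ∃ g : A, g • w = x then (h.choose : A ⧸ N) else 1
  have hc' : ∀ g : A, c (g • w) = g := fun g => by
    have h : ∃ g' : A, g' • w = g • w := ⟨g, rfl⟩
    simp only [c, dif_pos h]
    refine (QuotientGroup.eq.2 (h1 ?_)).symm
    rw [MulAction.mem_stabilizer_iff, mul_smul, h.choose_spec, inv_smul_smul]
  have h3 : ∀ g : A, ∑ x ∈ O with c x = g, x = g • ∑ x ∈ O with c x = 1, x := fun g => by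
    rw [Finset.smul_sum]
    refine (Finset.sum_nbij' (fun x => g • x) (fun x => g⁻¹ • x) (fun x hx => ?_) (fun x hx => ?_)
      (fun x _ => inv_smul_smul _ _) (fun x _ => smul_inv_smul _ _) fun _ _ => rfl).symm
    · obtain ⟨h4, h5⟩ := Finset.mem_filter.1 hx
      obtain ⟨y, rfl⟩ := (hO _).1 h4
      rw [← mul_smul]
      exact Finset.mem_filter.2 ⟨(hO _).2 ⟨_, rfl⟩, by rw [hc', QuotientGroup.mk_mul, ← hc' y, h5, mul_one]⟩
    · obtain ⟨h4, h5⟩ := Finset.mem_filter.1 hx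
      obtain ⟨y, rfl⟩ := (hO _).1 h4
      rw [← mul_smul]
      exact Finset.mem_filter.2 ⟨(hO _).2 ⟨_, rfl⟩, by
        rw [hc', QuotientGroup.mk_mul, ← hc' y, h5, QuotientGroup.mk_inv, inv_mul_cancel]⟩
  have h4 : Nat.card A = p * Nat.card (N.map A.subtype) := by
    rw [card_map_of_injective A.subtype_injective, ← h2, N.index_mul_card]
  have h5 : ∑ x ∈ O with c x = 1, x ∈ fixS D A := by
    refine fix_le he hA (map_subtype_le N) h4 (fun e => hc (by rw [h4, e, card_bot, mul_one])) ?_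
    rintro _ ⟨g, hg, rfl⟩
    have := h3 g
    rw [(QuotientGroup.eq_one_iff g).2 hg] at this
    exact this.symm
  refine ⟨(O.filter fun x => c x = 1).card, ?_⟩
  rw [← Finset.sum_fiberwise O c, Finset.sum_congr rfl (g := fun _ => ∑ x ∈ O with c x = 1, x) fun q _ => by
    obtain ⟨g, rfl⟩ := QuotientGroup.mk_surjective q
    exact (h3 g).trans (h5 g.1 g.2), Finset.sum_const, Finset.card_univ, ← Nat.card_eq_fintype_card, ← index_eq_card, h2,
    Finset.smul_sum, ← Finset.sum_const]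
  refine Finset.sum_congr rfl fun x hx => ?_
  obtain ⟨y, rfl⟩ := (hO _).1 (Finset.mem_filter.1 hx).1
  rw [smul_comm, hpe]
  exact hfe y.1 y.2

theorem orbit_sum [Finite D] [FaithfulSMul G D] [Fact p.Prime]
    (he : ∃ k : ℕ, ∀ m : D, p ^ k • m = 0) (hA : MinOff D A) (hp : IsPGroup p A)
    (hne : ¬ (p = 2 ∧ Nat.card A = 2)) (Ω : Finset D) (hi : ∀ a ∈ A, ∀ w ∈ Ω, a • w ∈ Ω)
    (hf : ∀ w ∈ Ω, ∃ a ∈ A, a • w ≠ w) {e : D} (hfe : ∀ a ∈ A, a • e = e)
    (hpe : ∀ w ∈ Ω, p • w = e) : ∃ k : ℕ, ∑ w ∈ Ω, w = k • e := by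
  classical
  induction Ω using Finset.strongInduction with
  | _ Ω ih =>
    rcases Ω.eq_empty_or_nonempty with rfl | ⟨w, hw⟩
    · exact ⟨0, by simp⟩
    obtain ⟨k, hk⟩ := orb he hA hp hne (hf w hw) hfe (hpe w hw) (Ω.filter fun x => ∃ g : A, g • w = x) fun x =>
      Finset.mem_filter.trans ⟨fun h => h.2, fun ⟨g, e⟩ => ⟨e ▸ hi g.1 g.2 w hw, g, e⟩⟩
    obtain ⟨l, hl⟩ := ih (Ω.filter fun x => ¬ ∃ g : A, g • w = x)
      (Finset.filter_ssubset.2 ⟨w, hw, not_not.2 ⟨1, one_smul _ _⟩⟩) (fun a ha x hx => by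
        obtain ⟨h1, h2⟩ := Finset.mem_filter.1 hx
        refine Finset.mem_filter.2 ⟨hi a ha x h1, fun ⟨g, e⟩ => h2 ⟨(⟨a, ha⟩ : A)⁻¹ * g, ?_⟩⟩
        rw [mul_smul, e]
        exact inv_smul_smul a x)
      (fun x hx => hf x (Finset.mem_filter.1 hx).1) fun x hx => hpe x (Finset.mem_filter.1 hx).1
    exact ⟨k + l, by rw [add_smul, ← hk, ← hl, Finset.sum_filter_add_sum_filter_not]⟩

end

end Cfsg.Agent.Chk
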