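import Mathlib
import Cfsg.Agent.Chk.Off

set_option autoImplicit false

namespace Cfsg.Agent.Chk

open Cfsg.Agent.Loc.Mss Subgroup

variable {G : Type*} [Group G] [Finite G] {p : ℕ} [Fact p.Prime] {D : Type*} [AddCommGroup D]
  [DistribMulAction G D] {S : Subgroup G} {t : G → D}

theorem gas (he : ∃ k : ℕ, ∀ m : D, p ^ k • m = 0) {T N : Subgroup G} (hT : Syl p T N)
    (hc : ∀ g ∈ N, ∀ h ∈ N, t (g * h) = t g + g • t h) (h0 : ∀ s ∈ T, t s = 0) :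
    ∃ y : D, ∀ n ∈ N, t n = n • y - y := by
  obtain ⟨k, hk⟩ := he
  have := Fintype.ofFinite (N ⧸ T.subgroupOf N)
  obtain ⟨a, b, e⟩ := Nat.isCoprime_iff_coprime.2
    (((Nat.Prime.coprime_iff_not_dvd Fact.out).2 hT.nd).symm.pow_right k)
  refine ⟨-(a • ∑ c : N ⧸ T.subgroupOf N, t (c.out : N)), fun n hn => ?_⟩
  have h1 : ∀ c : N ⧸ T.subgroupOf N, t (((⟨n, hn⟩ : N) • c).out : N) = t n + n • t (c.out : N) := fun c => by
    obtain ⟨s, hs⟩ := QuotientGroup.mk_out_eq_mul (T.subgroupOf N) (⟨n, hn⟩ * c.out)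
    have e : (⟨n, hn⟩ : N) • c = QuotientGroup.mk (⟨n, hn⟩ * c.out) := by
      rw [← smul_eq_mul, ← MulAction.Quotient.smul_mk, QuotientGroup.out_eq']
    rw [e, hs, coe_mul, hc _ (Subtype.prop _) _ (Subtype.prop _), h0 (s : N) s.2, smul_zero, add_zero]
    exact hc n hn _ (Subtype.prop _)
  have h2 := Equiv.sum_comp (MulAction.toPerm (⟨n, hn⟩ : N)) fun c : N ⧸ T.subgroupOf N => t (c.out : N)
  simp only [MulAction.toPerm_apply, h1, Finset.sum_add_distrib, Finset.sum_const, Finset.card_univ,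
    ← Finset.smul_sum, ← Nat.card_eq_fintype_card] at h2
  generalize ∑ c : N ⧸ T.subgroupOf N, t (c.out : N) = τ at h2
  have h3 : (T.relIndex N : ℤ) • t n = τ - n • τ := by
    rw [natCast_zsmul, eq_sub_iff_add_eq]; exact h2
  calc t n = (a * T.relIndex N + b * (p ^ k : ℕ) : ℤ) • t n := by rw [e, one_smul]
    _ = _ := by
      rw [add_smul, mul_smul, mul_smul, h3, natCast_zsmul, hk, smul_zero, add_zero, smul_neg, smul_comm n a, smul_sub]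
      abel

omit [Finite G] [Fact p.Prime] in
theorem Coc.norm (hc : Coc S t) {Y : Subgroup G} (hY : Y ≤ S) (hl : Large D Y) :
    ∀ g ∈ 𝐍[Y], ∀ h ∈ 𝐍[Y], t (g * h) = t g + g • t h := fun g hg h hh =>
  hc Y hY hl g h ((cj_of_norm hg).ge.trans (cj_mono g hY)) ((cj_of_norm (mul_mem hg hh)).ge.trans (cj_mono _ hY))

omit [Finite G] [Fact p.Prime] in
theorem Coc.sub (hc : Coc S t) (z : D) : Coc S fun g => t g - (g • z - z) := fun P hP hl g h h1 h2 => by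
  simp only [hc P hP hl g h h1 h2, mul_smul, smul_sub]
  abel

namespace TDesc

theorem claim (hS : Syl p S ⊤) (hc : Coc S t) (h0 : ∀ n ∈ 𝐍[Jm D S], t n = 0)
    (hl : ∀ Y ≤ S, Jm D Y = Y → Y ≠ ⊥ → Y ≠ Jm D S → Syl p (S ⊓ 𝐍[Y]) 𝐍[Y] →
      (∀ Y₁ ≤ S, Jm D Y₁ = Y₁ → Nat.card Y < Nat.card Y₁ → ∀ g, Y₁ ≤ cj(g, S) → t g = 0) →
      ∀ n ∈ 𝐍[Y], t n = 0) {Y : Subgroup G} (hY : Y ≤ S) (hJ : Jm D Y = Y) (hb : Y ≠ ⊥)
    (ih : ∀ Y₁ ≤ S, Jm D Y₁ = Y₁ → Nat.card Y < Nat.card Y₁ → ∀ g, Y₁ ≤ cj(g, S) → t g = 0) {g : G}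
    (hg : Y ≤ cj(g, S)) : t g = 0 := by
  have cl : ∀ m : G, Jm D cj(m, Y) = cj(m, Y) := fun m => by rw [jm_cj, hJ]
  have lg : Large D Y := jm_ne_bot.1 (hJ.symm ▸ hb)
  have hg' := le_cj_iff_inv_le.1 hg
  by_cases hY' : Nat.card (Jm D S) ≤ Nat.card Y
  · have e : Y = Jm D S := eq_of_le_of_card_ge (hJ.ge.trans (jm_mono hY)) hY'
    exact h0 g (e ▸ (inv_mem_iff.1 (mem_norm_of_cj_le ((cl _).ge.trans ((jm_mono hg').trans e.ge)))))
  obtain ⟨T, hT⟩ := Syl.exists p 𝐍[Y]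
  obtain ⟨k, -, hk⟩ := hS.conj_le hT.pg le_top
  have hk' : cj(k, Y) ≤ S := (cj_mono k (hT.le_of_norm (hS.pg.to_le hY) le_normalizer hT.le)).trans hk
  have hT' : Syl p (S ⊓ 𝐍[cj(k, Y)]) 𝐍[cj(k, Y)] := by
    have := hT.cj k
    rw [cj_norm] at this
    exact (this.eq_of_le (hS.pg.to_le inf_le_left) (le_inf hk this.le) inf_le_right).symm ▸ this
  have hN := hl _ hk' (cl k) (fun e => hb (cj_eq_bot.1 e)) (fun e => hY' (by rw [← e, card_cj])) hT'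
    (by rwa [card_cj])
  have U : ∀ (Z : Subgroup G) (m : G), Z ≤ S → Jm D Z = Z → cj(m, Z) = cj(k, Y) → t m⁻¹ = 0 := fun Z m hZ hj e => by
    have cZ : Nat.card Z = Nat.card Y := by rw [← card_cj Z m, e, card_cj]
    obtain ⟨n, hn, h1⟩ := hT'.conj_le (pg_cj (hS.pg.to_le (inf_le_left : S ⊓ 𝐍[Z] ≤ S)) m)
      (by rw [← e, ← cj_norm]; exact cj_mono m inf_le_right)
    rw [cj_cj] at h1
    replace h1 := cj_le_iff_le_inv.1 (h1.trans inf_le_left)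
    have h2 : Z ≤ S ⊓ 𝐍[Z] := le_inf hZ le_normalizer
    have h3 : Z < Jm D (S ⊓ 𝐍[Z]) := lt_of_le_of_ne (hj.ge.trans (jm_mono h2)) fun e' =>
      hY' (by rw [jm_eq_of_norm hS.pg hZ e'.symm, cZ])
    have h4 := ih _ ((jm_le _).trans inf_le_left) (jm_jm _)
      (cZ ▸ lt_of_not_ge fun h => h3.ne (eq_of_le_of_card_ge h3.le h)) _ ((jm_le _).trans h1)
    have h5 := hc Z hZ (jm_ne_bot.1 (hj.symm ▸ fun e' => hb (cj_eq_bot.1 (e.symm.trans (cj_eq_bot.2 e')))))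
      (n * m)⁻¹ n (h2.trans h1) (by
        rw [mul_inv_rev, inv_mul_cancel_right]; exact cj_le_iff_le_inv.1 (e.le.trans hk'))
    rwa [h4, hN n hn, smul_zero, add_zero, mul_inv_rev, inv_mul_cancel_right] at h5
  have u1 := U Y k hY hJ rfl
  have u2 := U cj(g⁻¹, Y) (k * g) hg' (cl _) (by rw [cj_cj, mul_inv_cancel_right])
  have u3 := hc _ hk' (lg.cj k) (k * g) (k * g)⁻¹ (by rw [← cj_cj]; exact cj_mono k hg)
    (by rwa [mul_inv_cancel, cj_one])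
  rw [mul_inv_cancel, h0 1 (one_mem _), u2, smul_zero, add_zero] at u3
  have u4 := hc Y hY lg k⁻¹ (k * g) (cj_le_iff_le_inv.1 hk') (by rwa [inv_mul_cancel_left])
  rwa [inv_mul_cancel_left, u1, ← u3, smul_zero, add_zero] at u4

end TDesc

theorem desc (hS : Syl p S ⊤) (hc : Coc S t) (h0 : ∀ n ∈ 𝐍[Jm D S], t n = 0)
    (hl : ∀ Y ≤ S, Jm D Y = Y → Y ≠ ⊥ → Y ≠ Jm D S → Syl p (S ⊓ 𝐍[Y]) 𝐍[Y] →
      (∀ Y₁ ≤ S, Jm D Y₁ = Y₁ → Nat.card Y < Nat.card Y₁ → ∀ g, Y₁ ≤ cj(g, S) → t g = 0) →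
      ∀ n ∈ 𝐍[Y], t n = 0) :
    ∀ g, Large D (S ⊓ cj(g, S)) → t g = 0 := by
  have key : ∀ (n : ℕ) (Y : Subgroup G), Nat.card G - Nat.card Y = n → Y ≤ S → Jm D Y = Y → Y ≠ ⊥ →
      ∀ g, Y ≤ cj(g, S) → t g = 0 := fun n => by
    induction n using Nat.strong_induction_on with
    | _ n ih =>
      intro Y e hY hJ hb g hg
      refine TDesc.claim hS hc h0 hl hY hJ hb (fun Z hZ hj hlt => ih _ ?_ Z rfl hZ hj ?_) hg
      · have := card_le_card_group Z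
        omega
      · rintro rfl
        have := Nat.card_pos (α := Y)
        rw [card_bot] at hlt
        omega
  exact fun g hg => key _ _ rfl ((jm_le _).trans inf_le_left) (jm_jm _) (jm_ne_bot.2 hg) g
    ((jm_le _).trans inf_le_right)

end Cfsg.Agent.Chk
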