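import Mathlib
import Cfsg.Agent.Chk.TDesc

set_option autoImplicit false

namespace Cfsg.Agent.Chk

open Cfsg.Agent.Loc.Mss Subgroup

variable {G : Type*} [Group G] [Finite G] {p : ℕ} [Fact p.Prime] {D : Type*} [AddCommGroup D]
  [Finite D] [DistribMulAction G D] [FaithfulSMul G D] {S : Subgroup G} {t : G → D}

namespace TLoc

omit [Finite G] [Finite D] [FaithfulSMul G D] in
theorem smul_sum_inv {g : G} {Ω : Finset D} (h : ∀ w ∈ Ω, g • w ∈ Ω) :
    g • ∑ w ∈ Ω, w = ∑ w ∈ Ω, w := by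
  rw [Finset.smul_sum]
  refine Finset.sum_bij (fun w _ => g • w) h (fun a _ b _ e => MulAction.injective g e)
    (fun b hb => ?_) fun _ _ => rfl
  obtain ⟨a, ha, e⟩ := Finset.surj_on_of_inj_on_of_card_le (fun w _ => g • w) h
    (fun a b _ _ e => MulAction.injective g e) le_rfl b hb
  exact ⟨a, ha, e.symm⟩

omit [Finite G] [Finite D] [FaithfulSMul G D] in
theorem fix_zpowers {b : G} {w : D} (h : b • w = w) : ∀ a ∈ zpowers b, a • w = w :=
  fun _ ha => (zpowers_le.2 (MulAction.mem_stabilizer_iff.2 h) : _ ≤ MulAction.stabilizer G w) ha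

omit [Finite G] [Finite D] [FaithfulSMul G D] in
/-- An orbit all of whose points but one are moved by a transvection has three points. -/
theorem three {N : Subgroup G} {y v : D} {b n₀ : G} (hb : Tv b v) (bN : b ∈ N) (hy : b • y = y)
    (hm : ∀ n ∈ N, b • n • y = n • y → n • y = y) (hn : n₀ ∈ N) (h0 : n₀ • y ≠ y) :
    (∀ n ∈ N, n • y = y ∨ n • y = n₀ • y ∨ n • y = y + n₀ • v) ∧
      (n₀ * b * n₀⁻¹) • y = y + n₀ • v ∧ y + n₀ • v ≠ n₀ • y ∧ n₀ • y + v = y + n₀ • v := by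
  have hc := hb.cj n₀
  have cN : n₀ * b * n₀⁻¹ ∈ N := mul_mem (mul_mem hn bN) (inv_mem hn)
  have h1 : ∀ n ∈ N, n • y ≠ y → b • n • y = n • y + v := fun n h e =>
    (hb.alt _).resolve_left fun H => e (hm n h H)
  have h2 : ∀ n ∈ N, n • y ≠ n₀ • y → (n₀ * b * n₀⁻¹) • n • y = n • y + n₀ • v := fun n h e => by
    have := h1 (n₀⁻¹ * n) (mul_mem (inv_mem hn) h) fun H => e (by rwa [mul_smul, inv_smul_eq_iff] at H)
    rw [mul_smul] at this
    rw [mul_smul, mul_smul, this, smul_add, smul_inv_smul]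
  have h3 : (n₀ * b * n₀⁻¹) • y = y + n₀ • v := by
    simpa using h2 1 (one_mem _) (by simpa using h0.symm)
  have h4 : (n₀ * b * n₀⁻¹) • n₀ • y = n₀ • y := by
    rw [mul_smul, inv_smul_smul, mul_smul, hy]
  have h5 : y + n₀ • v ≠ n₀ • y := fun H => h0 (MulAction.injective _ (h4.trans (h3.trans H).symm))
  have h6 : b • n₀ • v = n₀ • v + v := by
    have := h1 _ cN (by rw [h3]; simpa using hc.ne)
    rwa [h3, smul_add, hy, add_assoc, add_right_inj] at this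
  have h7 : ∀ n ∈ N, n • y = y ∨ n • y = n₀ • y ∨ n • y = y + n₀ • v := fun n h => by
    by_contra H
    push Not at H
    have e1 := h2 n h H.2.1
    have e2 := h1 _ (mul_mem cN h) (by
      rw [mul_smul, e1]
      intro e
      refine H.2.2 ?_
      rw [← add_zero (n • y), ← hc.two, ← add_assoc, e])
    rw [mul_smul, e1, smul_add, h1 n h H.1, h6, add_add_add_comm, hb.two, add_zero, left_eq_add] at e2
    exact hb.ne e2
  refine ⟨h7, h3, h5, ?_⟩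
  have e := h1 n₀ hn h0
  rcases h7 _ (mul_mem bN hn) with H | H | H
  · exact absurd (MulAction.injective b ((mul_smul b n₀ y).symm.trans (H.trans hy.symm))) h0
  · rw [mul_smul, e, add_eq_left] at H
    exact absurd H hb.ne
  · rwa [mul_smul, e] at H

end TLoc

open TLoc

theorem tloc (he : ∃ k : ℕ, ∀ m : D, p ^ k • m = 0) (hS : IsPGroup p S) (hc : Coc S t)
    (h0 : ∀ s ∈ S, t s = 0) {Y : Subgroup G} (hY : Y ≤ S) (hcl : Jm D Y = Y) (hne : Y ≠ ⊥)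
    (hJ : Y ≠ Jm D S) (hs : Syl p (S ⊓ 𝐍[Y]) 𝐍[Y])
    (ih : ∀ Y₁ ≤ S, Jm D Y₁ = Y₁ → Nat.card Y < Nat.card Y₁ → ∀ g, Y₁ ≤ cj(g, S) → t g = 0)
    (hn : ∃ n ∈ 𝐍[Y], t n ≠ 0) :
    p = 2 ∧ ∃ v : D, Crit (Jm D (S ⊓ 𝐍[Y])) Y v ∧ (∃ c, Adm Y v c) ∧
      ∀ n ∈ 𝐍[Y], t n = n • v - v := by
  classical
  have := Fintype.ofFinite D
  have hl : Large D Y := jm_ne_bot.1 (hcl.symm ▸ hne)
  obtain ⟨y, hy⟩ := gas he hs (hc.norm hY hl) fun s h => h0 s h.1
  obtain ⟨n₀, hn₀, hn₁⟩ := hn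
  rw [hy n₀ hn₀, sub_ne_zero] at hn₁
  have hYT : Y ≤ S ⊓ 𝐍[Y] := le_inf hY le_normalizer
  have hTy : ∀ s ∈ S ⊓ 𝐍[Y], s • y = y := fun s h => sub_eq_zero.1 ((hy s h.2).symm.trans (h0 s h.1))
  have hYf : ∀ y' : D, (∀ m ∈ 𝐍[Y], m • y = y → m • y' = y') → ∀ n ∈ 𝐍[Y], ∀ u ∈ Y,
      u • n • y' = n • y' := fun y' h n hn u hu => by
    have h1 := hYT (conj_mem_of_norm' hn hu)
    have := h _ h1.2 (hTy _ h1)
    rwa [mul_smul, mul_smul, inv_smul_eq_iff] at this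
  have hK : ∀ y' : D, (∀ m ∈ 𝐍[Y], m • y = y → m • y' = y') → ∀ A, MinOff D A → A ≤ S ⊓ 𝐍[Y] →
      ¬ A ≤ Y → ∀ n ∈ 𝐍[Y], (∀ a ∈ A, a • n • y' = n • y') → n • y' = y' := by
    intro y' h A hA hAT hAY n hn hf
    have h1 : Y ⊔ A ≤ S ⊓ 𝐍[Y] := sup_le hYT hAT
    have h2 : Y ⊔ A ≤ MulAction.stabilizer G (n • y') := sup_le (hYf y' h n hn) hf
    obtain ⟨k, hk, h3⟩ := (hs.mono (K := 𝐍[Y] ⊓ MulAction.stabilizer G y')
      (fun s hs => ⟨hs.2, h s hs.2 (hTy s hs)⟩) inf_le_left).conj_le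
      (pg_cj (hS.to_le (h1.trans inf_le_left)) n⁻¹) (cj_le_iff.2 fun a ha =>
        mem_inf.2 ⟨mul_mem (mul_mem (inv_mem hn) (mem_inf.1 (h1 ha)).2) (inv_mem (inv_mem hn)), by
          rw [MulAction.mem_stabilizer_iff, inv_inv, mul_smul, mul_smul, inv_smul_eq_iff]
          exact h2 ha⟩)
    rw [cj_cj, cj_le_iff_le_inv, mul_inv_rev, inv_inv] at h3
    have h4 := ih _ (h1.trans inf_le_left) (jm_sup hcl hA)
      (Nat.lt_of_not_le fun H => hAY (le_sup_right.trans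
        (eq_of_le_of_card_ge (le_sup_left : Y ≤ Y ⊔ A) H).ge))
      _ (h3.trans (cj_mono _ inf_le_left))
    have h5 := mul_mem hn (inv_mem (mem_inf.1 hk).1)
    have h6 := h _ h5 (sub_eq_zero.1 ((hy _ h5).symm.trans h4))
    rwa [mul_smul, MulAction.mem_stabilizer_iff.1 (inv_mem (mem_inf.1 hk).2)] at h6
  have hYJ : Y ≤ Jm D (S ⊓ 𝐍[Y]) := hcl.ge.trans (jm_mono hYT)
  obtain ⟨A₀, hA₀, hA₁, hA₂⟩ := exists_minOff_not_le (D := D) (P := S ⊓ 𝐍[Y]) (Y := Y)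
    fun H => hJ (jm_eq_of_norm hS hY (le_antisymm H hYJ)).symm
  have h2 : ∀ A, MinOff D A → A ≤ S ⊓ 𝐍[Y] → ¬ A ≤ Y → p = 2 ∧ Nat.card A = 2 := by
    intro A hA hAT hAY
    by_contra H
    have hex : ∃ j : ℕ, ∀ n ∈ 𝐍[Y], n • p ^ j • y = p ^ j • y :=
      let ⟨k, hk⟩ := he; ⟨k, fun n _ => by rw [hk, smul_zero]⟩
    obtain ⟨k, hk⟩ : ∃ k, Nat.find hex = k + 1 := Nat.exists_eq_succ_of_ne_zero fun e => by
      have := Nat.find_spec hex n₀ hn₀
      rw [e, pow_zero, one_smul] at this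
      exact hn₁ this
    have e1 := Nat.find_spec hex
    rw [hk, pow_succ', mul_smul] at e1
    refine Nat.find_min hex (m := k) (by omega) fun n hn => ?_
    have e2 : ∀ m ∈ 𝐍[Y], m • y = y → m • p ^ k • y = p ^ k • y := fun m _ h => by rw [smul_comm, h]
    generalize p ^ k • y = y' at e1 e2
    let O : Finset D := Finset.univ.filter fun w => ∃ m ∈ 𝐍[Y], m • y' = w
    have hO : ∀ w, w ∈ O ↔ ∃ m ∈ 𝐍[Y], m • y' = w := fun w => by simp [O]
    have hO' : ∀ m ∈ 𝐍[Y], ∀ w ∈ O, m • w ∈ O := fun m hm w hw => by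
      obtain ⟨m', hm', rfl⟩ := (hO w).1 hw
      exact (hO _).2 ⟨_, mul_mem hm hm', mul_smul _ _ _⟩
    obtain ⟨j, hj⟩ := orbit_sum he hA (hS.to_le (hAT.trans inf_le_left)) H (O.erase y')
      (fun a ha w hw => Finset.mem_erase.2 ⟨fun e => Finset.ne_of_mem_erase hw (MulAction.injective a
        (e.trans (e2 a (hAT ha).2 (hTy a (hAT ha))).symm)),
        hO' a (hAT ha).2 w (Finset.mem_of_mem_erase hw)⟩)
      (fun w hw => by
        obtain ⟨m, hm, rfl⟩ := (hO w).1 (Finset.mem_of_mem_erase hw)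
        by_contra H'
        push Not at H'
        exact Finset.ne_of_mem_erase hw (hK y' e2 A hA hAT hAY m hm H'))
      (e := p • y') (fun a ha => e1 a (hAT ha).2) fun w hw => by
        obtain ⟨m, hm, rfl⟩ := (hO w).1 (Finset.mem_of_mem_erase hw)
        rw [smul_comm, e1 m hm]
    have e3 := smul_sum_inv (hO' n hn)
    rwa [← Finset.add_sum_erase _ _ ((hO y').2 ⟨1, one_mem _, one_smul _ _⟩), hj, smul_add,
      smul_comm n j, e1 n hn, add_left_inj] at e3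
  have h3 : ∀ b, MinOff D (zpowers b) → b ∈ S ⊓ 𝐍[Y] → ¬ zpowers b ≤ Y →
      ∀ n ∈ 𝐍[Y], b • n • y = n • y → n • y = y := fun b h1 h2 h3 n hn e =>
    hK y (fun _ _ h => h) _ h1 (zpowers_le.2 h2) h3 n hn (fix_zpowers e)
  obtain ⟨hp, hA₃⟩ := h2 A₀ hA₀ hA₁ hA₂
  obtain ⟨b, v, rfl, hb⟩ := hA₀.tv hA₃
  have bT := hA₁ (mem_zpowers b)
  obtain ⟨o1, o2, o3, o4⟩ := three hb bT.2 (hTy b bT) (h3 b hA₀ bT hA₂) hn₀ hn₁
  have hu := hb.cj n₀
  have cN : n₀ * b * n₀⁻¹ ∈ 𝐍[Y] := mul_mem (mul_mem hn₀ bT.2) (inv_mem hn₀)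
  have hYO := hYf y fun _ _ h => h
  refine ⟨hp, v, ⟨hYJ, hcl, hne, ⟨_, hA₀, le_jm hA₀ hA₁, hA₂⟩, fun A hA hAJ hAY => ?_, n₀ • y,
    hYO n₀ hn₀, fun b' h1 h4 h5 e => hn₁ (h3 b' h1 (jm_le _ h4) (mt zpowers_le.1 h5) n₀ hn₀ e)⟩,
    ⟨_, cN, ?_, _, hu, fun u h => ?_⟩, fun n hn => ?_⟩
  · have hAT := hAJ.trans (jm_le _)
    obtain ⟨b', v', rfl, hb'⟩ := hA.tv (h2 A hA hAT hAY).2
    have bT' := hAT (mem_zpowers b')
    obtain ⟨-, p2, p3, p4⟩ := three hb' bT'.2 (hTy b' bT') (h3 b' hA bT' hAY) hn₀ hn₁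
    refine ⟨b', rfl, ?_⟩
    rcases o1 _ (mul_mem (mul_mem hn₀ bT'.2) (inv_mem hn₀)) with H | H | H
    · rw [p2, add_eq_left] at H
      exact absurd H (hb'.cj n₀).ne
    · exact absurd (p2.symm.trans H) p3
    · rwa [add_left_cancel (o4.trans (H.symm.trans (p2.trans p4.symm)))]
  · intro e
    have e1 : (n₀ * b * n₀⁻¹) • n₀ • y = n₀ • y := by
      rw [mul_smul, inv_smul_smul, mul_smul, hTy b bT]
    have e2 := congrArg ((n₀ * b * n₀⁻¹) • ·) o4
    simp only [smul_add] at e2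
    rw [e, e1, o2, hu.fix, o4, left_eq_add] at e2
    exact hu.ne e2
  · have := hYO _ cN u h
    rwa [o2, smul_add, hTy u (hYT h), add_right_inj] at this
  · have d1 : y ≠ y + n₀ • v := by simpa using hu.ne
    have hO : ∀ w ∈ ({y, n₀ • y, y + n₀ • v} : Finset D), n • w ∈ ({y, n₀ • y, y + n₀ • v} : Finset D) := by
      simp only [Finset.mem_insert, Finset.mem_singleton]
      rintro _ (rfl | rfl | rfl)
      · exact o1 n hn
      · exact mul_smul n n₀ y ▸ o1 _ (mul_mem hn hn₀)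
      · have := o1 _ (mul_mem hn cN)
        rwa [mul_smul, o2] at this
    have e1 := smul_sum_inv hO
    rw [Finset.sum_insert (by simp [hn₁.symm, hu.ne]), Finset.sum_pair o3.symm] at e1
    have e2 : n₀ • y = y + n₀ • v + v := by rw [← o4, add_assoc, hb.two, add_zero]
    have e3 : y + (n₀ • y + (y + n₀ • v)) = y + y + (y + v) := by
      rw [e2]; linear_combination (norm := abel_nf) hu.two
    have e4 : n • y + n • y = y + y := by
      rcases o1 n hn with H | H | H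
      · rw [H]
      · rw [H, e2]; linear_combination (norm := abel_nf) hu.two + hb.two
      · rw [H]; linear_combination (norm := abel_nf) hu.two
    rw [e3, smul_add, smul_add, e4, add_right_inj, smul_add] at e1
    rw [hy n hn]
    linear_combination (norm := abel_nf) e1 - (hb.cj n).two + hb.two

end Cfsg.Agent.Chk
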