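import Mathlib
import Cfsg.Agent.Chk.TLoc

set_option autoImplicit false
set_option linter.unusedSectionVars false

namespace Cfsg.Agent.Chk

open Cfsg.Agent.Loc.Mss Subgroup

variable {G : Type*} [Group G] [Finite G] {p : ℕ} [Fact p.Prime] {D : Type*} [AddCommGroup D]
  [Finite D] [DistribMulAction G D] [FaithfulSMul G D] {S : Subgroup G} {t : G → D}

namespace TFin

variable {J Y Y₁ Y₂ : Subgroup G} {v v' v₁ v₂ : D} {b c c₁ c₂ : G}

theorem cj_zpowers (g b : G) : cj(g, zpowers b) = zpowers (g * b * g⁻¹) := MonoidHom.map_zpowers _ _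

theorem minOff_conj (h : MinOff D (zpowers b)) (g : G) : MinOff D (zpowers (g * b * g⁻¹)) :=
  cj_zpowers g b ▸ h.cj g

theorem conj_smul (g c : G) (v : D) : (g * c * g⁻¹) • g • v = g • c • v := by
  rw [mul_smul, inv_smul_smul, mul_smul]

theorem smul_of_mem_cj {g y : G} {w : D} (h : ∀ y ∈ Y, y • w = w) (hy : y ∈ cj(g, Y)) :
    y • g • w = g • w := by
  have := h _ (mem_cj.1 hy)
  rwa [mul_smul, mul_smul, inv_smul_eq_iff] at this

theorem crit_cj (h : Crit J Y v) (g : G) : Crit cj(g, J) cj(g, Y) (g • v) := by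
  refine ⟨cj_mono g h.le, by rw [jm_cj, h.cl], mt cj_eq_bot.1 h.ne, ?_, fun A hA h1 h2 => ?_, ?_⟩
  · obtain ⟨A, hA, h1, h2⟩ := h.ex
    exact ⟨_, hA.cj g, cj_mono g h1, mt cj_le_cj.1 h2⟩
  · obtain ⟨b, e, hb⟩ := h.tv _ (hA.cj g⁻¹) (le_cj_iff_inv_le.1 h1) (mt le_cj_iff_inv_le.2 h2)
    exact ⟨_, by rw [← cj_zpowers, ← e, cj_cj_inv], hb.cj g⟩
  · obtain ⟨w, h1, h2⟩ := h.ax
    refine ⟨g • w, fun y hy => smul_of_mem_cj h1 hy, fun b hb h3 h4 e => ?_⟩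
    refine h2 (g⁻¹ * b * g) (by simpa using minOff_conj hb g⁻¹) (mem_cj.1 h3) (mt mem_cj.2 h4) ?_
    rw [mul_smul, mul_smul, e, inv_smul_smul]

theorem adm_cj (h : Adm Y v c) (g : G) : Adm cj(g, Y) (g • v) (g * c * g⁻¹) := by
  obtain ⟨h1, h2, u, h3, h4⟩ := h
  refine ⟨cj_norm Y g ▸ conj_mem_cj h1, fun e => h2 (MulAction.injective g ?_), g • u, h3.cj g,
    fun y hy => smul_of_mem_cj h4 hy⟩
  rwa [conj_smul] at e

/-- A transvection generating a minimal offender of `J` outside `Y` has centre `v`. -/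
theorem eq_of_not_mem (h : Crit J Y v) (hb : Tv b v') (h1 : MinOff D (zpowers b)) (h2 : b ∈ J)
    (h3 : b ∉ Y) : v' = v := by
  obtain ⟨b', e, hb'⟩ := h.tv _ h1 (zpowers_le.2 h2) (mt zpowers_le.1 h3)
  obtain rfl := hb.eq_of_zpowers hb' e
  exact hb.unique hb'

theorem exists_tv (h : Crit J Y v) : ∃ b, Tv b v ∧ MinOff D (zpowers b) ∧ b ∈ J ∧ b ∉ Y := by
  obtain ⟨A, hA, h1, h2⟩ := h.ex
  obtain ⟨b, rfl, hb⟩ := h.tv A hA h1 h2
  exact ⟨b, hb, hA, zpowers_le.1 h1, mt zpowers_le.2 h2⟩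

theorem crit_eq (h₁ : Crit J Y₁ v₁) (h₂ : Crit J Y₂ v₂) (h : Y₁ ≤ Y₂) : v₂ = v₁ :=
  let ⟨_, hb, h1, h2, h3⟩ := exists_tv h₂
  eq_of_not_mem h₁ hb h1 h2 fun H => h3 (h H)

theorem tv_inv (h : Tv b v) : b⁻¹ = b := inv_eq_of_mul_eq_one_right h.sq

theorem pair0 (h₁ : Crit J Y₁ v₁) (h₂ : Crit J Y₂ v₂) (a₁ : Adm Y₁ v₁ c) (h : ¬ Y₁ ≤ Y₂) :
    c • v₂ = v₂ := by
  obtain ⟨A, hA, h1, h2⟩ := exists_minOff_not_le (D := D) (P := Y₁) (Y := Y₂) (h₁.cl.symm ▸ h)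
  obtain ⟨b, rfl, hb⟩ := h₂.tv A hA (h1.trans h₁.le) h2
  obtain ⟨c1, -, u, hu, hu'⟩ := a₁
  have b1 := zpowers_le.1 h1
  by_contra H
  have h3 : c * b * c⁻¹ ∈ Y₂ := by
    by_contra H'
    exact H (eq_of_not_mem h₂ (hb.cj c) (minOff_conj hA c) (h₁.le (conj_mem_of_norm c1 b1)) H')
  obtain ⟨w, w1, w2⟩ := h₂.ax
  refine w2 b hA (h₁.le b1) (mt zpowers_le.2 h2) ?_
  have h4 := w1 _ h3
  rw [mul_smul, mul_smul, ← eq_inv_smul_iff, tv_inv hu] at h4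
  rcases hu.alt w with e | e
  · rwa [e] at h4
  · rwa [e, smul_add, hu' b b1, add_left_inj] at h4

theorem pair (h₁ : Crit J Y₁ v₁) (h₂ : Crit J Y₂ v₂) (a₁ : Adm Y₁ v₁ c₁) (a₂ : Adm Y₂ v₂ c₂)
    (h : Y₁ ≠ Y₂) : c₁ • v₂ = v₂ := by
  by_cases H : Y₁ ≤ Y₂
  · obtain rfl := crit_eq h₁ h₂ H
    exact absurd (pair0 h₂ h₁ a₂ fun H' => h (le_antisymm H H')) a₂.2.1
  · exact pair0 h₁ h₂ a₁ H

theorem no_three {g : G} {k : ℕ} (hg : g ^ 2 ^ k = 1) {u v : D} (h1 : g • u = v) (h2 : g • v = u + v)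
    (h3 : g • (u + v) = u) (hv : v ≠ 0) (huv : u ≠ v) : False := by
  have e : ∀ m : ℕ, g ^ (3 * m) • u = u := fun m => by
    induction m with
    | zero => simp
    | succ m ih => rw [mul_add, pow_add, mul_smul, mul_one, pow_three, mul_smul, mul_smul, h1, h2, h3, ih]
  have h4 : (2 ^ k) % 3 ≠ 0 := fun H =>
    absurd (Nat.prime_three.dvd_of_dvd_pow (Nat.dvd_of_mod_eq_zero H)) (by decide)
  have h5 : g ^ (2 ^ k % 3) • u = u := by
    conv_rhs => rw [← one_smul G u, ← hg, ← Nat.mod_add_div (2 ^ k) 3, pow_add, mul_smul, e]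
  obtain H | H : 2 ^ k % 3 = 1 ∨ 2 ^ k % 3 = 2 := by omega
  · rw [H, pow_one, h1] at h5
    exact huv h5.symm
  · rw [H, pow_two, mul_smul, h1, h2, add_eq_left] at h5
    exact hv h5

theorem crit_top (he : ∃ k : ℕ, ∀ m : D, 2 ^ k • m = 0) (hS : IsPGroup 2 S)
    (h : Crit (Jm D (S ⊓ 𝐍[Y])) Y v) (hc : Adm Y v c) : Jm D (S ⊓ 𝐍[Y]) = Jm D S := by
  classical
  have := Fintype.ofFinite D
  have hN : ∀ A, MinOff D A → A ≤ S → A ≤ 𝐍[Y] → A ≤ Jm D (S ⊓ 𝐍[Y]) := fun A a b c =>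
    le_jm a (le_inf b c)
  have hJS : Jm D (S ⊓ 𝐍[Y]) ≤ S := (jm_le _).trans inf_le_left
  have hJJ := jm_jm (D := D) (S ⊓ 𝐍[Y])
  generalize Jm D (S ⊓ 𝐍[Y]) = J at *
  by_contra H
  obtain ⟨A, hA, h1, h2⟩ := exists_minOff_not_le (D := D) (P := S ⊓ 𝐍[J]) (Y := J) fun H' =>
    H (jm_eq_of_norm hS hJS (le_antisymm H' (hJJ.ge.trans (jm_mono (le_inf hJS le_normalizer))))).symm
  have h3 : ∀ a ∈ A, a ∉ 𝐍[Y] → c • a • v = a • v := fun a ha hn =>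
    pair h (cj_of_norm (h1 ha).2 ▸ crit_cj h a) hc (adm_cj hc a) fun e => hn (cj_eq_iff.1 e.symm)
  have h4 : ∀ a ∈ A, a ∈ 𝐍[Y] → a • v = v := fun a ha hn =>
    crit_eq h (cj_of_norm (h1 ha).2 ▸ crit_cj h a) (cj_of_norm hn).ge
  obtain ⟨a₀, ha₀, hn₀⟩ := SetLike.not_le_iff_exists.1 fun H' => h2 (hN A hA (h1.trans inf_le_left) H')
  have h5 : a₀ • v ≠ v := fun e => hc.2.1 (by simpa only [e] using h3 a₀ ha₀ hn₀)
  obtain ⟨b, hb, b1, b2, b3⟩ := exists_tv h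
  by_cases hA2 : Nat.card A = 2
  · obtain ⟨a, u, rfl, hu⟩ := hA.tv hA2
    have a1 := h1 (mem_zpowers a)
    have e1 : a • v = v + u := (hu.alt v).resolve_left fun e => h5 (TLoc.fix_zpowers e a₀ ha₀)
    have e2 : a * b * a⁻¹ ∈ Y := by
      by_contra H'
      have := eq_of_not_mem h (hb.cj a) (minOff_conj b1 a) (conj_mem_of_norm a1.2 b2) H'
      rw [e1, add_eq_left] at this
      exact hu.ne this
    obtain ⟨w, w1, w2⟩ := h.ax
    have e3 := w1 _ e2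
    have e4 := w2 b b1 b2 b3
    rw [mul_smul, mul_smul, ← eq_inv_smul_iff, tv_inv hu] at e3
    have e5 : b • u = u + v := by
      rcases hu.alt w with e | e
      · exact absurd (by rwa [e] at e3) e4
      · rw [e, smul_add, (hb.alt w).resolve_left e4] at e3
        linear_combination (norm := abel_nf) e3 - hb.two
    obtain ⟨k, hk⟩ := pg_iff.1 hS _ (mul_mem a1.1 (hJS b2))
    have g1 : (a * b) • u = v := by
      rw [mul_smul, e5, smul_add, hu.fix, e1]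
      linear_combination (norm := abel_nf) hu.two
    have g2 : (a * b) • v = u + v := by rw [mul_smul, hb.fix, e1, add_comm]
    refine no_three hk g1 g2 ?_ hb.ne fun e => ?_
    · rw [smul_add, g1, g2]
      linear_combination (norm := abel_nf) hb.two
    · rw [e, hb.fix, left_eq_add] at e5
      exact hb.ne e5
  · let O : Finset D := Finset.univ.filter fun w => ∃ a ∈ A, a • v = w
    have hO : ∀ w, w ∈ O ↔ ∃ a ∈ A, a • v = w := fun w => by simp [O]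
    have hv := (hO v).2 ⟨1, one_mem _, one_smul _ _⟩
    obtain ⟨j, hj⟩ := orbit_sum he hA (hS.to_le (h1.trans inf_le_left)) (fun H' => hA2 H'.2) O
      (fun a ha w hw => by
        obtain ⟨m, hm, rfl⟩ := (hO w).1 hw
        exact (hO _).2 ⟨_, mul_mem ha hm, mul_smul _ _ _⟩)
      (fun w hw => by
        obtain ⟨m, hm, rfl⟩ := (hO w).1 hw
        refine ⟨_, mul_mem (mul_mem hm ha₀) (inv_mem hm), fun e => h5 (MulAction.injective m ?_)⟩
        rwa [conj_smul] at e)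
      (e := 0) (fun _ _ => smul_zero _) fun w hw => by
        obtain ⟨m, hm, rfl⟩ := (hO w).1 hw
        rw [two_nsmul, (hb.cj m).two]
    have e1 : c • ∑ w ∈ O, w = ∑ w ∈ O, w := by rw [hj, smul_zero, smul_zero]
    have e2 : c • ∑ w ∈ O.erase v, w = ∑ w ∈ O.erase v, w := by
      rw [Finset.smul_sum]
      refine Finset.sum_congr rfl fun w hw => ?_
      obtain ⟨m, hm, rfl⟩ := (hO w).1 (Finset.mem_of_mem_erase hw)
      exact h3 m hm fun H' => Finset.ne_of_mem_erase hw (h4 m hm H')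
    rw [← Finset.add_sum_erase _ _ hv, smul_add, e2, add_left_inj] at e1
    exact hc.2.1 e1

theorem coc_conj (hc : Coc S t) (hJ : J ≤ S) (h0 : ∀ n ∈ 𝐍[J], t n = 0) (hY : Y ≤ J) (hl : Large D Y)
    (h : c ∈ 𝐍[Y]) {n : G} (hn : n ∈ 𝐍[J]) : t (n * c * n⁻¹) = n • t c := by
  have h1 : cj(n, Y) ≤ S := (cj_le_of_norm hY hn).trans hJ
  have h2 : Y ≤ cj(c, S) := (cj_of_norm h).ge.trans (cj_mono c (hY.trans hJ))
  have h3 : Y ≤ cj(c * n⁻¹, S) := by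
    rw [← cj_cj]
    exact (cj_of_norm h).ge.trans (cj_mono c (cj_le_iff_le_inv.1 h1))
  rw [mul_assoc, hc _ h1 (hl.cj n) n (c * n⁻¹) (cj_mono n (hY.trans hJ))
    (by rw [← cj_cj]; exact cj_mono n h3), hc _ (hY.trans hJ) hl c n⁻¹ h2 h3, h0 n hn,
    h0 _ (inv_mem hn), smul_zero, add_zero, zero_add]

theorem main (he : ∃ k : ℕ, ∀ m : D, p ^ k • m = 0) (hS : Syl p S ⊤) (hc : Coc S t)
    (h0 : ∀ n ∈ 𝐍[Jm D S], t n = 0) :
    ∃ z : D, (∀ n ∈ 𝐍[Jm D S], n • z = z) ∧ ∀ g, Large D (S ⊓ cj(g, S)) → t g = g • z - z := by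
  classical
  have := Fintype.ofFinite D
  have := Fintype.ofFinite (Subgroup G)
  let C : Finset (Subgroup G × D) :=
    Finset.univ.filter fun x => Crit (Jm D S) x.1 x.2 ∧ ∃ c, Adm x.1 x.2 c ∧ t c ≠ 0
  have hC : ∀ x, x ∈ C ↔ Crit (Jm D S) x.1 x.2 ∧ ∃ c, Adm x.1 x.2 c ∧ t c ≠ 0 := fun x => by simp [C]
  have hz : ∀ n ∈ 𝐍[Jm D S], n • ∑ x ∈ C, x.2 = ∑ x ∈ C, x.2 := fun n hn => by
    have h1 : ∀ x ∈ C, (cj(n, x.1), n • x.2) ∈ C := fun x hx => by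
      obtain ⟨a, c, b, d⟩ := (hC x).1 hx
      refine (hC _).2 ⟨cj_of_norm hn ▸ crit_cj a n, _, adm_cj b n, ?_⟩
      rw [coc_conj hc (jm_le _) h0 a.le (jm_ne_bot.1 (a.cl.symm ▸ a.ne)) b.1 hn]
      exact fun e => d (MulAction.injective n (e.trans (smul_zero n).symm))
    have h2 : ∀ x y : Subgroup G × D, (cj(n, x.1), n • x.2) = (cj(n, y.1), n • y.2) → x = y :=
      fun x y e => Prod.ext (cj_eq_cj.1 (congrArg Prod.fst e)) (MulAction.injective n (congrArg Prod.snd e))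
    rw [Finset.smul_sum]
    refine Finset.sum_bij (fun x _ => (cj(n, x.1), n • x.2)) h1 (fun a _ b _ => h2 a b)
      (fun b hb => ?_) fun _ _ => rfl
    obtain ⟨a, ha, e⟩ := Finset.surj_on_of_inj_on_of_card_le (fun x _ => (cj(n, x.1), n • x.2)) h1
      (fun a b _ _ => h2 a b) le_rfl b hb
    exact ⟨a, ha, e.symm⟩
  have hSN : S ≤ 𝐍[Jm D S] := fun s hs => cj_eq_iff.1 (by rw [← jm_cj, cj_of_mem hs])
  have h1 : ∀ n ∈ 𝐍[Jm D S], t n - (n • ∑ x ∈ C, x.2 - ∑ x ∈ C, x.2) = 0 := fun n hn => by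
    rw [h0 n hn, hz n hn, sub_self, sub_self]
  refine ⟨_, hz, fun g hg => sub_eq_zero.1 (desc hS (hc.sub _) h1 ?_ g hg)⟩
  intro Y hY hcl hne hJ hs ih n hn
  by_contra H
  obtain ⟨rfl, v, hv, ⟨c₀, hc₀⟩, e⟩ := tloc he hS.pg (hc.sub _) (fun s h => h1 s (hSN h)) hY hcl hne hJ
    hs ih ⟨n, hn, H⟩
  rw [crit_top he hS.pg hv hc₀] at hv
  have key : ∀ c, Adm Y v c → c • ∑ x ∈ C.erase (Y, v), x.2 = ∑ x ∈ C.erase (Y, v), x.2 := fun c a => by
    rw [Finset.smul_sum]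
    refine Finset.sum_congr rfl fun x hx => ?_
    obtain ⟨a', c', b', -⟩ := (hC x).1 (Finset.mem_of_mem_erase hx)
    exact pair hv a' a b' fun e' => Finset.ne_of_mem_erase hx (Prod.ext e'.symm (crit_eq hv a' e'.le))
  by_cases hm : (Y, v) ∈ C
  · obtain ⟨-, c, a, d⟩ := (hC _).1 hm
    obtain ⟨b, hb, -⟩ := exists_tv hv
    have := e c a.1
    simp only [← Finset.add_sum_erase _ _ hm, smul_add, key c a] at this
    refine d ?_
    linear_combination (norm := abel_nf) this + (hb.cj c).two - hb.two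
  · refine hm ((hC _).2 ⟨hv, c₀, hc₀, fun d => hc₀.2.1 ?_⟩)
    have := e c₀ hc₀.1
    rw [Finset.erase_eq_of_notMem hm] at key
    simp only [key c₀ hc₀, d, sub_self] at this
    exact sub_eq_zero.1 this.symm

end TFin

theorem propT (he : ∃ k : ℕ, ∀ m : D, p ^ k • m = 0) (hS : Syl p S ⊤) (hc : Coc S t)
    (h0 : ∀ s ∈ S, t s = 0) :
    ∃ z : D, (∀ s ∈ S, s • z = z) ∧ ∀ g, Large D (S ⊓ cj(g, S)) → t g = g • z - z := by
  by_cases hl : Large D S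
  swap
  · exact ⟨0, fun s _ => smul_zero s, fun g hg => absurd (hg.mono inf_le_left) hl⟩
  have hSN : S ≤ 𝐍[Jm D S] := fun s hs => cj_eq_iff.1 (by rw [← jm_cj, cj_of_mem hs])
  obtain ⟨z₀, hz₀⟩ := gas he (hS.mono hSN le_top)
    (hc.norm (jm_le S) (jm_ne_bot.1 ((jm_jm (D := D) S).symm ▸ jm_ne_bot.2 hl))) h0
  obtain ⟨z, h1, h2⟩ := TFin.main he hS (hc.sub z₀) fun n hn => sub_eq_zero.2 (hz₀ n hn)
  refine ⟨z₀ + z, fun s hs => ?_, fun g hg => ?_⟩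
  · rw [smul_add, h1 s (hSN hs), sub_eq_zero.1 ((hz₀ s (hSN hs)).symm.trans (h0 s hs))]
  · have := h2 g hg
    rw [smul_add]
    linear_combination (norm := abel_nf) this

end Cfsg.Agent.Chk
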