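import Mathlib
import Cfsg.Agent.Chk.Cx2
import Cfsg.Agent.Chk.TFin

set_option autoImplicit false

namespace Cfsg.Agent.Chk

open Cfsg.Agent.Loc.Mss Subgroup

namespace TCech

section
variable {K Γ : Type*} [Group K] [Finite K] [Group Γ] (π : K →* Γ)

theorem card_eq (A : Subgroup K) : Nat.card A = Nat.card ↥(π.ker ⊓ A) * Nat.card (A.map π) := by
  rw [← relIndex_ker, ← (π.ker.subgroupOf A).card_mul_index, ← inf_subgroupOf_right,
    Nat.card_congr (subgroupOfEquivOfLe inf_le_right).toEquiv, inf_subgroupOf_right]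
  rfl

theorem le_iff (c : Subgroup Γ → ℕ) (A : Subgroup K) :
    (∀ B ≤ A, Nat.card B * c (B.map π) ≤ Nat.card A * c (A.map π)) ↔
      ∀ B ≤ A.map π, Nat.card B * c B ≤ Nat.card (A.map π) * c (A.map π) := by
  refine ⟨fun h B hB => ?_, fun h B hB => ?_⟩
  · have e : (B.comap π ⊓ A).map π = B := le_antisymm (map_le_iff_le_comap.2 inf_le_left) fun x hx =>
      let ⟨a, ha, e⟩ := hB hx; ⟨a, ⟨mem_comap.2 (e ▸ hx), ha⟩, e⟩
    have := h _ (inf_le_right (a := B.comap π))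
    rw [card_eq π, card_eq π A, e, ← inf_assoc, inf_eq_left.2 (ker_le_comap π B), mul_assoc,
      mul_assoc] at this
    exact Nat.le_of_mul_le_mul_left this Nat.card_pos
  · rw [card_eq π, card_eq π A, mul_assoc, mul_assoc]
    exact Nat.mul_le_mul (card_le_of_le (inf_le_inf_left _ hB)) (h _ (map_mono hB))

end

section
variable {K Γ : Type*} [Group K] [Finite K] [Group Γ] [Finite Γ] {π : K →* Γ} {p : ℕ} [Fact p.Prime]
  {S Y : Subgroup K}

theorem lift (hπ : Function.Surjective π) (hS : Syl p S ⊤) {P : Subgroup K} (hP : IsPGroup p P)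
    {x : Γ} (h : P.map π ≤ cj(x, S.map π)) : ∃ g, π g = x ∧ P ≤ cj(g, S) := by
  obtain ⟨g, rfl⟩ := hπ x
  have h1 : cj(g⁻¹, P) ≤ π.ker ⊔ S := by
    rw [sup_comm, ← comap_map_eq, ← map_le_iff_le_comap, map_cj, map_inv, ← le_cj_iff_inv_le]
    exact h
  obtain ⟨k, hk, h2⟩ := (hS.mono le_sup_right le_top).le_conj (pg_cj hP _) h1
  obtain ⟨c, hc, s, hs, rfl⟩ := (mem_sup_norm (norm_normal S π.ker)).1 hk
  rw [← cj_cj, cj_of_mem hs, ← le_cj_iff_inv_le, cj_cj] at h2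
  exact ⟨g * c, by rw [map_mul, MonoidHom.mem_ker.1 hc, mul_one], h2⟩

variable {E : Type*} [AddCommGroup E] [Finite E] [DistribMulAction Γ E] [FaithfulSMul Γ E]

/-- Descent to the faithful quotient. -/
theorem quot (hπ : Function.Surjective π) (he : ∃ k : ℕ, ∀ m : E, p ^ k • m = 0) (hS : Syl p S ⊤)
    [Y.Normal] (hY : Syl p Y π.ker) {t : K → E}
    (hc : ∀ P ≤ S, Y ≤ P → Large E (P.map π) → ∀ g h, P ≤ cj(g, S) → P ≤ cj(g * h, S) →
      t (g * h) = t g + π g • t h) (h0 : ∀ s ∈ S, t s = 0) :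
    ∃ z : E, (∀ s ∈ S, π s • z = z) ∧
      ∀ g, Large E ((S ⊓ cj(g, S)).map π) → t g = π g • z - z := by
  have yS : Y ≤ S := hS.le_of_norm hY.pg le_top (norm_normal _ _)
  have sY : S ⊓ π.ker ≤ Y := hY.le_of_norm (hS.pg.to_le inf_le_left) inf_le_right
    (norm_inf (norm_of_le yS) (norm_normal _ _))
  have z0 : ∀ P ≤ S, Y ≤ P → Large E (P.map π) → ∀ c ∈ π.ker, P ≤ cj(c, S) → t c = 0 := by
    intro P h1 h2 h3 c hk h4
    have n1 : c⁻¹ ∈ 𝐍[P] := mem_norm_of_cj_le (cj_le_iff.2 fun u hu => by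
      have a : c⁻¹ * u * c⁻¹⁻¹ * u⁻¹ ∈ P := h2 (sY ⟨S.mul_mem (by simpa using mem_cj.1 (h4 hu))
        (S.inv_mem (h1 hu)), by simp [MonoidHom.mem_ker, MonoidHom.mem_ker.1 hk]⟩)
      simpa using mul_mem a hu)
    have n2 : ∀ n : ℕ, P ≤ cj(c ^ n, S) := fun n => by
      rw [le_cj_iff_inv_le, ← inv_pow, cj_of_norm (pow_mem n1 n)]; exact h1
    have n3 : ∀ n : ℕ, t (c ^ n) = n • t c := fun n => by
      induction n with
      | zero => rw [pow_zero, zero_smul, h0 1 (one_mem S)]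
      | succ n ih =>
        rw [pow_succ, hc P h1 h2 h3 _ _ (n2 n) (pow_succ c n ▸ n2 (n + 1)), ih,
          MonoidHom.mem_ker.1 (pow_mem hk n), one_smul, succ_nsmul]
    obtain ⟨k, hk'⟩ := he
    have n4 := (n3 _).symm.trans (h0 _ (yS (pow_relIndex_mem Y hk)))
    have n5 : (Y.relIndex π.ker).Coprime (p ^ k) :=
      ((Nat.Prime.coprime_iff_not_dvd Fact.out).2 hY.nd).symm.pow_right k
    exact AddMonoid.addOrderOf_eq_one_iff.1 (Nat.eq_one_of_dvd_coprimes n5 (addOrderOf_dvd_of_nsmul_eq_zero n4)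
      (addOrderOf_dvd_of_nsmul_eq_zero (hk' _)))
  have cjQ : ∀ {P g}, Y ≤ P → Large E (P.map π) → Y ≤ cj(g, P) ∧ Large E ((cj(g, P)).map π) :=
    fun {P g} a b => ⟨(cj_normal Y g).ge.trans (cj_mono g a), map_cj π P g ▸ b.cj _⟩
  have w : ∀ P ≤ S, Y ≤ P → Large E (P.map π) → ∀ g g', π g = π g' → P ≤ cj(g, S) → P ≤ cj(g', S) →
      t g' = t g := by
    intro P h1 h2 h3 g g' e h4 h5
    have := hc P h1 h2 h3 g (g⁻¹ * g') h4 (by rwa [mul_inv_cancel_left])
    rwa [mul_inv_cancel_left, z0 _ (le_cj_iff_inv_le.1 h4) (cjQ h2 h3).1 (cjQ h2 h3).2 (g⁻¹ * g')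
      (by simp [MonoidHom.mem_ker, e]) (by rw [← cj_cj]; exact cj_mono _ h5), smul_zero,
      add_zero] at this
  choose l l1 l2 using fun x : Γ => lift hπ hS (P := S ⊓ (cj(x, S.map π)).comap π) (x := x)
    (hS.pg.to_le inf_le_left) (map_le_iff_le_comap.2 inf_le_right)
  have v : ∀ P ≤ S, Y ≤ P → Large E (P.map π) → ∀ g, P ≤ cj(g, S) → t (l (π g)) = t g :=
    fun P h1 h2 h3 g h4 => w P h1 h2 h3 g _ (l1 _).symm h4 ((le_inf h1 (map_le_iff_le_comap.1
      ((map_mono h4).trans (map_cj π S g).le))).trans (l2 _))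
  by_cases hL : Large E (S.map π)
  swap
  · exact ⟨0, fun _ _ => smul_zero _, fun g h => absurd (h.mono (map_mono inf_le_left)) hL⟩
  obtain ⟨z, z1, z2⟩ := propT (S := S.map π) (t := fun x => t (l x)) he
    (map_top_of_surjective π hπ ▸ hS.map π) (fun P h1 h3 x y h4 h5 => by
      have e : (P.comap π ⊓ S).map π = P := le_antisymm (map_le_iff_le_comap.2 inf_le_left) fun x hx =>
        let ⟨a, ha, e⟩ := h1 hx; ⟨a, ⟨mem_comap.2 (e ▸ hx), ha⟩, e⟩
      have h2 : Y ≤ P.comap π ⊓ S := le_inf (hY.le.trans (ker_le_comap π P)) yS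
      rw [← e] at h3 h4 h5
      obtain ⟨g, rfl, a⟩ := lift hπ hS (hS.pg.to_le inf_le_right) h4
      obtain ⟨g', e', b⟩ := lift hπ hS (hS.pg.to_le inf_le_right) h5
      obtain rfl : π (g⁻¹ * g') = y := by rw [map_mul, e', map_inv, inv_mul_cancel_left]
      have := hc _ inf_le_right h2 h3 g (g⁻¹ * g') a (by rwa [mul_inv_cancel_left])
      beta_reduce
      rw [← e', v _ inf_le_right h2 h3 g a, v _ inf_le_right h2 h3 g' b,
        v _ (le_cj_iff_inv_le.1 a) (cjQ h2 h3).1 (cjQ h2 h3).2 _ (by rw [← cj_cj]; exact cj_mono _ b),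
        ← this, mul_inv_cancel_left])
    (by
      rintro _ ⟨s, hs, rfl⟩
      exact (v S le_rfl yS hL s (cj_of_mem hs).ge).trans (h0 s hs))
  refine ⟨z, fun s hs => z1 _ (mem_map_of_mem π hs), fun g h => ?_⟩
  rw [← v _ inf_le_left (le_inf yS ((cj_normal Y g).ge.trans (cj_mono g yS))) h g inf_le_right]
  exact z2 _ (h.mono (le_inf (map_mono inf_le_left) ((map_mono inf_le_right).trans (map_cj π S g).le)))

end

variable {G : Type*} [Group G] [Finite G] {𝕄 : Type*} [AddCommGroup 𝕄] [DistribMulAction G 𝕄]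
  {p : ℕ} [Fact p.Prime] {H : Subgroup G} {D : AddSubgroup 𝕄} {Γ : Type*} [Group Γ]
  [DistribMulAction Γ D] {π : H →* Γ} (hs : ∀ (k : H) (e : D), ((π k • e : D) : 𝕄) = (k : G) • (e : 𝕄))
include hs

theorem off_iff (A : Subgroup H) :
    Off D (A.map H.subtype) ↔ Off (⊤ : AddSubgroup D) (A.map π) := by
  have e : ∀ B : Subgroup H, Nat.card ↥(D ⊓ fixS 𝕄 (B.map H.subtype)) =
      Nat.card ↥((⊤ : AddSubgroup D) ⊓ fixS D (B.map π)) := fun B => Nat.card_congr
    { toFun := fun m => ⟨⟨m, m.2.1⟩, trivial, by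
        rintro _ ⟨b, hb, rfl⟩
        exact Subtype.ext ((hs _ _).trans (m.2.2 _ (mem_map_of_mem _ hb)))⟩
      invFun := fun m => ⟨m.1, m.1.2, by
        rintro _ ⟨b, hb, rfl⟩
        exact (hs _ _).symm.trans (congrArg Subtype.val (m.2.2 _ (mem_map_of_mem _ hb)))⟩
      left_inv := fun _ => rfl
      right_inv := fun _ => rfl }
  refine (le_iff H.subtype (fun B => Nat.card ↥(D ⊓ fixS 𝕄 B)) A).symm.trans
    (Iff.trans ?_ (le_iff π (fun B => Nat.card ↥((⊤ : AddSubgroup D) ⊓ fixS D B)) A))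
  simp only [e]

theorem ker_iff [FaithfulSMul Γ D] {k : H} : k ∈ π.ker ↔ (k : G) ∈ cenS G D :=
  ⟨fun h m hm => by rw [← hs k ⟨m, hm⟩, MonoidHom.mem_ker.1 h, one_smul],
    fun h => eq_of_smul_eq_smul fun e : D => Subtype.ext (by rw [hs, one_smul, h _ e.2])⟩

theorem large_iff [FaithfulSMul Γ D] {Y P : Subgroup G} (hY : Syl p Y (H ⊓ cenS G D)) (h1 : Y ≤ P)
    (h2 : P ≤ H) (hP : IsPGroup p P) : Jall D P ≠ Y ↔ Large D ((P.subgroupOf H).map π) := by
  have yJ : Y ≤ Jall D P := le_jall (off_of_cen (hY.le.trans inf_le_right)) h1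
  refine ⟨fun h => ?_, fun ⟨B, a, b, c⟩ h => b ?_⟩
  · by_contra n
    refine h (le_antisymm (sSup_le fun A hA => ?_) yJ)
    have e := map_subgroupOf_eq_of_le (hA.1.trans h2)
    have : (A.subgroupOf H).map π = ⊥ := by_contra fun l =>
      n ⟨_, map_mono (comap_mono hA.1), l, (off_iff hs _).1 (e.symm ▸ hA.2)⟩
    refine le_trans (le_inf hA.1 (le_inf (hA.1.trans h2) fun x hx => ?_))
      (hY.ge_of_le (P := P ⊓ (H ⊓ cenS G D)) (hP.to_le inf_le_left) (le_inf h1 hY.le) inf_le_right)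
    exact (ker_iff hs (k := ⟨x, h2 (hA.1 hx)⟩)).1 ((Subgroup.map_eq_bot_iff _).1 this hx)
  · have e : (B.comap π ⊓ P.subgroupOf H).map π = B :=
      le_antisymm (map_le_iff_le_comap.2 inf_le_left) fun x hx =>
        let ⟨a, ha, e⟩ := a hx; ⟨a, ⟨mem_comap.2 (e ▸ hx), ha⟩, e⟩
    have := le_jall ((off_iff hs _).2 (e.symm ▸ c)) (map_le_iff_le_comap.2 inf_le_right)
    rw [← e, Subgroup.map_eq_bot_iff]
    exact fun x hx => (ker_iff hs).2 (hY.le (h.le (this (mem_map_of_mem _ hx)))).2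

end TCech

open TCech

variable {G : Type*} [Group G] [Finite G] {X : Type*} [MulAction G X] {𝕄 : Type*}
  [AddCommGroup 𝕄] [DistribMulAction G 𝕄] {p : ℕ} [Fact p.Prime] {H : Subgroup G}

/-- The action on an invariant submodule. -/
def TCech.act {D : AddSubgroup 𝕄} (hD : Mod p H D) : H →* (D ≃ₗ[ℤ] D) where
  toFun k :=
    { toFun := fun e => ⟨(k : G) • e, hD.inv _ k.2 _ e.2⟩
      invFun := fun e => ⟨(k : G)⁻¹ • e, hD.inv _ (inv_mem k.2) _ e.2⟩
      left_inv := fun e => Subtype.ext (inv_smul_smul _ _)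
      right_inv := fun e => Subtype.ext (smul_inv_smul _ _)
      map_add' := fun a b => Subtype.ext (smul_add _ _ _)
      map_smul' := fun n a => Subtype.ext (smul_comm _ n _) }
  map_one' := LinearEquiv.ext fun e => Subtype.ext (one_smul _ _)
  map_mul' a b := LinearEquiv.ext fun e => Subtype.ext (mul_smul _ _ _)

theorem propT' (hX : Good p G X) {D : AddSubgroup 𝕄} [Finite D] (hD : Mod p H D)
    {Y : Subgroup G} (hn : H ≤ 𝐍[Y]) (hs : Syl p Y (H ⊓ cenS G D)) :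
    Ac X (modS G D) H {P | Y ≤ P ∧ Jall D P ≠ Y} 1 := by
  intro f hf hd
  set Q : Set (Subgroup G) := {P | Y ≤ P ∧ Jall D P ≠ Y} with hQ
  have up : ∀ P ∈ Q, ∀ P', P ≤ P' → P' ∈ Q := fun P a P' b => ⟨a.1.trans b, fun e => a.2
    (le_antisymm ((jall_mono D b).trans e.le) (le_jall (off_of_cen (hs.le.trans inf_le_right)) a.1))⟩
  have inv : ∀ h ∈ H, ∀ P ∈ Q, cj(h, P) ∈ Q := fun h hh P a =>
    ⟨(cj_of_norm (hn hh)).ge.trans (cj_mono h a.1), fun e => a.2 (by
      rwa [jall_cj hD.inv hh, ← cj_of_norm (hn hh), cj_eq_cj] at e)⟩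
  have co : ∀ P ∈ Q, P ≤ H → ∀ x y z : X, (∀ g ∈ P, g • x = x) → (∀ g ∈ P, g • y = y) →
      (∀ g ∈ P, g • z = z) → f ![x, z] = f ![x, y] + f ![y, z] := fun P a b x y z hx hy hz => by
    have := hd ![x, y, z]
    rw [dd_pos (up P a _ fun g hg => mem_st_three.2 ⟨b hg, hx g hg, hy g hg, hz g hg⟩), modS_ρ,
      bd_two] at this
    rw [← sub_eq_zero, ← neg_eq_zero, ← this]; abel
  have eqv : ∀ h ∈ H, ∀ x y : X, f ![h • x, h • y] = h • f ![x, y] := fun h hh x y => by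
    rw [← hf.smul h hh]; congr 1; funext i; fin_cases i <;> rfl
  obtain ⟨S, hS⟩ := Syl.exists p H
  obtain ⟨o, ho⟩ := hX.of_syl hS
  have mS : ∀ {g}, g ∈ S ↔ g ∈ H ∧ g • o = o := fun {g} => by rw [← ho, mem_st_one]
  have mC : ∀ {g h}, h ∈ H → (g ∈ cj(h, S) ↔ g ∈ H ∧ g • h • o = h • o) := fun {g h} hh => by
    rw [← ho, ← st_smul hh, mem_st]; simp
  have hπ : ∀ (k : H) (e : D), (((act hD).rangeRestrict k • e : D) : 𝕄) = (k : G) • (e : 𝕄) :=
    fun _ _ => rfl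
  have yH := hs.le.trans inf_le_left
  have : (Y.subgroupOf H).Normal := (normal_subgroupOf_iff_le_normalizer yH).2 hn
  have : Finite (act hD).range := Finite.of_surjective _ (act hD).rangeRestrict_surjective
  obtain ⟨z, z1, z2⟩ := quot (S := S.subgroupOf H) (Y := Y.subgroupOf H) (E := D)
    (t := fun k => ⟨f ![o, (k : G) • o], (hf.mem' _).1⟩) (act hD).rangeRestrict_surjective
    (let ⟨k, hk⟩ := hD.exp; ⟨k, fun m => Subtype.ext (hk m m.2)⟩)
    (subgroupOf_self H ▸ hS.subgroupOf le_rfl)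
    (by
      convert hs.subgroupOf inf_le_left using 1
      ext k
      rw [ker_iff hπ]
      exact (and_iff_right k.2).symm)
    (fun P a b c g h d e => Subtype.ext (by
      have pS : P.map H.subtype ≤ S := map_le_iff_le_comap.2 a
      have b' : Y ≤ P.map H.subtype := (subgroupOf_le_iff yH).1 b
      have k : ∀ {g : H}, P ≤ cj(g, S.subgroupOf H) → ∀ u ∈ P.map H.subtype,
          u • (g : G) • o = (g : G) • o := fun {g} l u hu =>
        ((mC g.2).1 (map_le_iff_le_comap.2 (l.trans (cj_subgroupOf S H g).le) hu)).2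
      have := co _ ⟨b', (large_iff hπ hs b' (map_subtype_le P) (hS.pg.to_le pS)).2
        (by rwa [subgroupOf, comap_map_eq_self_of_injective H.subtype_injective])⟩ (map_subtype_le P)
        o _ _ (fun u hu => (mS.1 (pS hu)).2) (k d) (k e)
      rw [AddSubgroup.coe_add, hπ, ← eqv _ g.2, ← mul_smul]
      exact this))
    fun s hs' => Subtype.ext (by
      change f ![o, (s : G) • o] = 0
      rw [(mS (g := s) |>.1 hs').2]
      by_cases a : S ∈ Q
      · have b := fun u hu => ((mS (g := u)).1 hu).2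
        exact left_eq_add.1 (co S a hS.le o o o b b b)
      · exact hf.zero _ fun l => a (up _ l _ fun g hg =>
          mS.2 ⟨(mem_st_two.1 hg).1, (mem_st_two.1 hg).2.1⟩))
  have z3 : ∀ P ∈ Q, P ≤ H → IsPGroup p P → ∀ h ∈ H, ∀ h' ∈ H, (∀ g ∈ P, g • h • o = h • o) →
      (∀ g ∈ P, g • h' • o = h' • o) → f ![h • o, h' • o] = h' • (z : 𝕄) - h • (z : 𝕄) := by
    intro P a b c h hh h' hh' d e
    have a' := inv _ (inv_mem hh) _ a
    have m := mul_mem (inv_mem hh) hh'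
    have := congrArg Subtype.val (z2 ⟨_, m⟩ (((large_iff hπ hs a'.1 (cj_le_of_mem b (inv_mem hh))
      (pg_cj c _)).1 a'.2).mono (map_mono ?_)))
    · rw [AddSubgroup.coe_sub, hπ] at this
      have e := eqv h hh o ((h⁻¹ * h') • o)
      rw [← mul_smul, mul_inv_cancel_left] at e
      rw [e, show f ![o, (h⁻¹ * h') • o] = _ from this, smul_sub, ← mul_smul, mul_inv_cancel_left]
    · rw [cj_subgroupOf]
      refine le_inf (comap_mono (le_cj_iff_inv_le.1 fun g hg => (mC hh).2 ⟨b hg, d g hg⟩))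
        (comap_mono ?_)
      rw [← cj_cj]
      exact cj_mono _ fun g hg => (mC hh').2 ⟨b hg, e g hg⟩
  obtain ⟨u, hu, r⟩ := exists_co (X := X) (n := 1) hD.ok inv (fun σ m => ∃ h ∈ H,
      (∀ g ∈ st H σ, g • h • o = h • o) ∧ m = h • (z : 𝕄) - f ![σ 0, h • o])
    (by
      rintro k hk σ _ - - ⟨h, hh, a, rfl⟩
      refine ⟨k * h, mul_mem hk hh, fun g hg => ?_, ?_⟩
      · rw [st_smul hk] at hg
        have := a _ (mem_cj.1 hg)
        rwa [mul_smul, mul_smul, inv_smul_eq_iff, ← mul_smul k h] at this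
      · rw [smul_sub, mul_smul, mul_smul, ← eqv k hk]; rfl)
    fun σ _ => by
      obtain ⟨h, hh, a⟩ := hS.le_conj (st_pg hX H σ) (st_le H σ)
      refine ⟨_, ⟨D.sub_mem (hD.inv h hh _ z.2) (hf.mem' _).1, fun g hg => ?_⟩, h, hh,
        fun g hg => ((mC hh).1 (a hg)).2, rfl⟩
      have b := mem_cj.1 (a hg)
      have c := congrArg Subtype.val (z1 ⟨_, hS.le b⟩ b)
      rw [hπ, mul_smul, mul_smul, inv_smul_eq_iff] at c
      rw [smul_sub, c, ← eqv g (st_le H σ hg), (mem_st.1 hg).2 0, ((mC hh).1 (a hg)).2]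
  refine ⟨u, hu, fun σ => ?_⟩
  by_cases a : st H σ ∈ Q
  swap
  · rw [dd_neg a, hf.zero σ a]
  rw [eq_two_tuple σ] at a ⊢
  generalize σ 0 = x, σ 1 = y at a
  have lx : st H ![x, y] ≤ st H ![x] := fun g hg =>
    mem_st_one.2 ⟨(mem_st_two.1 hg).1, (mem_st_two.1 hg).2.1⟩
  have ly : st H ![x, y] ≤ st H ![y] := fun g hg =>
    mem_st_one.2 ⟨(mem_st_two.1 hg).1, (mem_st_two.1 hg).2.2⟩
  obtain ⟨h, hh, b, e⟩ := r _ (up _ a _ lx)
  obtain ⟨h', hh', b', e'⟩ := r _ (up _ a _ ly)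
  have c := fun g hg => b g (lx hg)
  have c' := fun g hg => b' g (ly hg)
  have cx := fun g hg => (mem_st_one.1 (lx (x := g) hg)).2
  have e1 := co _ a (st_le _ _) x _ _ cx c c'
  have e2 := co _ a (st_le _ _) x y _ cx (fun g hg => (mem_st_one.1 (ly hg)).2) c'
  rw [z3 _ a (st_le _ _) (st_pg hX H _) h hh h' hh' c c', e2] at e1
  rw [dd_pos a, modS_ρ, bd_one, e, e', eq_sub_of_add_eq e1]
  change _ - f ![y, _] - (_ - f ![x, _]) = _
  abel

end Cfsg.Agent.Chk
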