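import Mathlib
import Cfsg.Agent.Chk.Lam
import Cfsg.Agent.Chk.TCech

/-! Vanishing of the higher cohomology of a module on families closed under `Jall`. -/

set_option autoImplicit false

namespace Cfsg.Agent.Chk

open Cfsg.Agent.Loc.Mss Subgroup

variable {G : Type*} [Group G] [Finite G] {X : Type*} [MulAction G X] {𝕄 : Type*}
  [AddCommGroup 𝕄] [DistribMulAction G 𝕄] {p : ℕ} [Fact p.Prime]

namespace PropL

variable {H Y : Subgroup G} {D : AddSubgroup 𝕄} {R : Set (Subgroup G)}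

theorem jall_jall (D : AddSubgroup 𝕄) (P : Subgroup G) : Jall D (Jall D P) = Jall D P :=
  jall_eq_of_le le_rfl (jall_le D P)

omit [Fact p.Prime] in
theorem fam_eq (hD : Mod p H D) (Y : Subgroup G) : Fam (H ⊓ 𝐍[Y]) {P | Jall D P = Y} where
  inv h hh P hP := by
    rw [Set.mem_ofPred_eq, jall_cj hD.inv hh.1, show Jall D P = Y from hP, cj_of_norm hh.2]
  conv P hP T hT Q h1 h2 := le_antisymm ((jall_mono D h2).trans hT.le) (hP.ge.trans (jall_mono D h1))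

/-- Reduction to the families with a fixed value of `Jall`. -/
theorem red (hX : Good p G X) (hD : Mod p H D) (hR : Fam H R)
    (hJ : ∀ P ≤ H, IsPGroup p P → (P ∈ R ↔ Jall D P ∈ R)) {n : ℕ}
    (h : ∀ Y ∈ R, Y ≤ H → IsPGroup p Y → Jall D Y = Y →
      Ac X (modS G D) (H ⊓ 𝐍[Y]) {P | Jall D P = Y} (n + 1)) : Ac X (modS G D) H R (n + 1) := by
  have hi : ∀ g ∈ H, ∀ P ∈ R, Nat.card (Jall D cj(g, P)) = Nat.card (Jall D P) := fun g hg P _ => by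
    rw [jall_cj hD.inv hg, card_cj]
  have hm : ∀ P ∈ R, ∀ Q ∈ R, P ≤ Q → Nat.card (Jall D P) ≤ Nat.card (Jall D Q) := fun P _ Q _ e =>
    card_le_of_le (jall_mono D e)
  refine filt hD.ok hR (fun P => Nat.card (Jall D P)) hi hm fun k => ?_
  refine v2 hX hD.ok (hR.level _ hi hm k).inv (Jall D) (fun g hg P _ _ => jall_cj hD.inv hg P)
    (fun P hP Q hQ e _ _ => eq_of_le_of_card_ge (jall_mono D e) (hQ.2.trans hP.2.symm).le) fun Y => ?_
  by_cases he : ∃ P ≤ H ⊓ 𝐍[Y], IsPGroup p P ∧ (P ∈ R ∧ Nat.card (Jall D P) = k) ∧ Jall D P = Y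
  · obtain ⟨P, h1, h2, ⟨h3, h4⟩, rfl⟩ := he
    have h5 := (hJ P (h1.trans inf_le_left) h2).1 h3
    refine Ac.congr hX (fun Q q1 q2 => ⟨fun e => ⟨⟨?_, ?_⟩, e⟩, fun e => e.2⟩)
      (h _ h5 ((jall_le D P).trans (h1.trans inf_le_left)) (h2.to_le (jall_le D P)) (jall_jall D P))
    · exact (hJ Q (q1.trans inf_le_left) q2).2 (by rw [show Jall D Q = _ from e]; exact h5)
    · rw [← h4, show Jall D Q = _ from e]
  · exact ac_of_empty hX fun P h1 h2 h3 => he ⟨P, h1, h2, h3⟩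

/-- The statement for all smaller pairs. -/
def IH (p : ℕ) (X : Type*) [MulAction G X] (H : Subgroup G) (D : AddSubgroup 𝕄) : Prop :=
  ∀ (H' : Subgroup G) (D' : AddSubgroup 𝕄), Finite D' → Nat.card H' + Nat.card D' < Nat.card H + Nat.card D →
    Mod p H' D' → ∀ R', Fam H' R' → (∀ P ≤ H', IsPGroup p P → (P ∈ R' ↔ Jall D' P ∈ R')) →
    ∀ n, Ac X (modS G D') H' R' (n + 2)

omit [Fact p.Prime] in
theorem nonterminal [Finite D] (ih : IH p X H D) (hD : Mod p H D) (h : ¬(H ≤ 𝐍[Y] ∧ Y ≤ cenS G D)) (n : ℕ) :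
    Ac X (modS G D) (H ⊓ 𝐍[Y]) {P | Jall D P = Y} (n + 2) := by
  have fin : Finite ↥(D ⊓ fixS 𝕄 Y) := Finite.of_injective _ (AddSubgroup.inclusion_injective inf_le_left)
  have c1 : Nat.card ↥(H ⊓ 𝐍[Y]) ≤ Nat.card H := card_le_of_le inf_le_left
  have c2 : Nat.card ↥(D ⊓ fixS 𝕄 Y) ≤ Nat.card D := AddSubgroup.card_le_of_le inf_le_left
  have lt : Nat.card ↥(H ⊓ 𝐍[Y]) + Nat.card ↥(D ⊓ fixS 𝕄 Y) < Nat.card H + Nat.card D := by
    by_contra c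
    have e1 := eq_of_le_of_card_ge (inf_le_left (a := H) (b := 𝐍[Y])) (by omega)
    have e2 := AddSubgroup.eq_of_le_of_card_ge (inf_le_left (a := D) (b := fixS 𝕄 Y)) (by omega)
    exact h ⟨inf_eq_left.1 e1, fun y hy m hm => inf_eq_left.1 e2 hm y hy⟩
  have hD' : Mod p (H ⊓ 𝐍[Y]) (D ⊓ fixS 𝕄 Y) :=
    ⟨fun g hg m hm => ⟨hD.inv g hg.1 m hm.1, cj_of_norm hg.2 ▸ smul_mem_fixS g hm.2⟩,
      let ⟨k, hk⟩ := hD.exp; ⟨k, fun m hm => hk m hm.1⟩⟩
  refine Ac.of_iso (Θ₂ := modS G (D ⊓ fixS 𝕄 Y)) (κ := fun _ => AddMonoidHom.id 𝕄) ⟨fun P hP _ m hm => ?_, fun _ _ _ _ _ _ _ => rfl,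
    fun _ _ _ _ _ _ _ _ => rfl⟩ (hD.mono inf_le_left).ok (fam_eq hD Y).inv (fun _ _ _ _ _ e => e)
    (fun P _ _ m hm => ⟨m, ⟨hm.1.1, hm.2⟩, rfl⟩) (ih _ _ fin lt hD' _ (fam_eq hD Y) (fun P _ _ => ?_) n)
  · exact ⟨⟨hm.1, fun y hy => hm.2 y (jall_le D P (hP.ge hy))⟩, hm.2⟩
  · rw [Set.mem_ofPred_eq, Set.mem_ofPred_eq, jall_eq_of_le (jall_restrict inf_le_left P) (jall_le _ P)]

theorem terminal [Finite D] (hX : Good p G X) (ih : IH p X H D) (hD : Mod p H D) (hle : Y ≤ H) (hY : IsPGroup p Y)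
    (hn : H ≤ 𝐍[Y]) (hc : Y ≤ cenS G D) (n : ℕ) : Ac X (modS G D) H {P | Jall D P = Y} (n + 2) := by
  have hF := fam_eq hD Y
  rw [inf_eq_left.2 hn] at hF
  by_cases hs : Syl p Y (H ⊓ cenS G D)
  swap
  · refine v1 hX hD hF (C := H ⊓ cenS G D) inf_le_left (norm_inf le_normalizer (norm_of_forall_cj_le fun g hg =>
      cj_le_iff.2 fun c hc m hm => ?_)) (fun c hc => ⟨0, fun m hm => by rw [pow_zero, pow_one, hc.2 m hm]⟩)
      (fun P hP h1 _ => ?_) _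
    · rw [mul_smul, mul_smul, hc _ (hD.inv _ (inv_mem hg) m hm), smul_inv_smul]
    · rwa [show P ⊓ (H ⊓ cenS G D) = Y from le_antisymm ((le_jall (off_of_cen (inf_le_right.trans inf_le_right))
        inf_le_left).trans hP.le) (le_inf (hP.ge.trans (jall_le D P)) (le_inf hle hc))]
  have k : ∀ P, Y ≤ P → Y ≤ Jall D P := fun P e => le_jall (off_of_cen hc) e
  have h0 : Fam H {P | Y ≤ P} :=
    ⟨fun g hg P hP => (cj_of_norm (hn hg)).ge.trans (cj_mono g hP), fun P hP _ _ Q e _ => hP.trans e⟩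
  have hU : Up H {P | Y ≤ P} {P | Y ≤ P ∧ Jall D P ≠ Y} :=
    ⟨fun P hP => hP.1, fun g hg P hP => ⟨h0.inv g hg P hP.1, fun e => hP.2 (by
      rwa [jall_cj hD.inv hg, ← cj_of_norm (hn hg), cj_eq_cj] at e)⟩,
      fun P hP Q hQ e => ⟨hQ, fun e' => hP.2 (le_antisymm ((jall_mono D e).trans e'.le) (k P hP.1))⟩⟩
  have e : {P | Jall D P = Y} = {P | Y ≤ P} \ {P | Y ≤ P ∧ Jall D P ≠ Y} := Set.ext fun P =>
    ⟨fun e => ⟨e.ge.trans (jall_le D P), fun c => c.2 e⟩, fun e => by_contra fun c => e.2 ⟨e.1, c⟩⟩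
  rw [e]
  refine les2 hD.ok h0 hU (v3 hX hD hY hle hn _) ?_
  rcases n with _ | n
  · exact propT' hX hD hn hs
  refine red hX hD (hU.fam h0) (fun P _ _ => ?_) fun Z hZ z1 z2 z3 => nonterminal ih hD (fun c => ?_) n
  · simp only [Set.mem_ofPred_eq, jall_jall]
    exact and_congr_left' ⟨k P, fun e => e.trans (jall_le D P)⟩
  · exact hZ.2 (z3.trans (hs.eq_of_le z2 hZ.1 (le_inf z1 c.2)))

end PropL

theorem propL (hX : Good p G X) {H : Subgroup G} {D : AddSubgroup 𝕄} [Finite D] (hD : Mod p H D)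
    {R : Set (Subgroup G)} (hR : Fam H R)
    (hJ : ∀ P ≤ H, IsPGroup p P → (P ∈ R ↔ Jall D P ∈ R)) (n : ℕ) :
    Ac X (modS G D) H R (n + 2) := by
  suffices k : ∀ (m : ℕ) (H : Subgroup G) (D : AddSubgroup 𝕄), Finite D → Nat.card H + Nat.card D < m →
      Mod p H D → ∀ R, Fam H R → (∀ P ≤ H, IsPGroup p P → (P ∈ R ↔ Jall D P ∈ R)) →
      ∀ n, Ac X (modS G D) H R (n + 2) from k _ H D ‹_› (Nat.lt_succ_self _) hD R hR hJ n
  intro m
  induction m with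
  | zero => exact fun _ _ _ h => absurd h (Nat.not_lt_zero _)
  | succ m ih =>
    intro H D _ hm hD R hR hJ n
    have ih' : PropL.IH p X H D := fun H' D' f e => ih H' D' f (by omega)
    refine PropL.red hX hD hR hJ fun Y _ h1 h2 _ => ?_
    by_cases h : H ≤ 𝐍[Y] ∧ Y ≤ cenS G D
    · rw [inf_eq_left.2 h.1]
      exact PropL.terminal hX ih' hD h1 h2 h.1 h.2 n
    · exact PropL.nonterminal ih' hD h n

end Cfsg.Agent.Chk
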