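import Mathlib
import Cfsg.Agent.Chk.ZDef
import Cfsg.Agent.Chk.PropL

set_option autoImplicit false

namespace Cfsg.Agent.Chk

open Cfsg.Agent.Loc.Mss Subgroup

variable {G : Type*} [Group G] [Finite G] {X : Type*} [MulAction G X] {p : ℕ} [Fact p.Prime]

namespace ZAc

variable {A B P Q Y : Subgroup G}

/-- The largest order of an abelian subgroup. -/
noncomputable def dm (P : Subgroup G) : ℕ :=
  sSup {n | ∃ A ≤ P, A ≤ 𝐂[A] ∧ Nat.card A = n}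

/-- The subgroup generated by the abelian subgroups of largest order. -/
noncomputable def jo (P : Subgroup G) : Subgroup G :=
  sSup {A | A ≤ P ∧ A ≤ 𝐂[A] ∧ Nat.card A = dm P}

theorem bdd (P : Subgroup G) : BddAbove {n | ∃ A ≤ P, A ≤ 𝐂[A] ∧ Nat.card A = n} :=
  ⟨Nat.card G, fun _ ⟨A, _, _, e⟩ => e ▸ card_le_card_group A⟩

theorem le_dm (h : A ≤ P) (hA : A ≤ 𝐂[A]) : Nat.card A ≤ dm P := le_csSup (bdd P) ⟨A, h, hA, rfl⟩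

theorem ex_dm (P : Subgroup G) : ∃ A ≤ P, A ≤ 𝐂[A] ∧ Nat.card A = dm P :=
  Nat.sSup_mem (s := {n | ∃ A ≤ P, A ≤ 𝐂[A] ∧ Nat.card A = n}) ⟨_, ⊥, bot_le, bot_le, rfl⟩ (bdd P)

theorem dm_mono (h : P ≤ Q) : dm P ≤ dm Q :=
  let ⟨_, h1, h2, h3⟩ := ex_dm P; h3 ▸ le_dm (h1.trans h) h2

omit [Finite G] in
theorem ab_cj (hA : A ≤ 𝐂[A]) (g : G) : cj(g, A) ≤ 𝐂[cj(g, A)] := cj_cent A g ▸ cj_mono g hA

theorem dm_cj_le (g : G) (P : Subgroup G) : dm P ≤ dm cj(g, P) :=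
  let ⟨A, h1, h2, h3⟩ := ex_dm P
  h3 ▸ card_cj A g ▸ le_dm (cj_mono g h1) (ab_cj h2 g)

theorem dm_cj (g : G) (P : Subgroup G) : dm cj(g, P) = dm P :=
  le_antisymm (by simpa only [cj_inv_cj] using dm_cj_le g⁻¹ cj(g, P)) (dm_cj_le g P)

omit [Finite G] in
theorem jo_le (P : Subgroup G) : jo P ≤ P := sSup_le fun _ h => h.1

omit [Finite G] in
theorem jo_mono (h : P ≤ Q) (e : dm P = dm Q) : jo P ≤ jo Q :=
  sSup_le_sSup fun _ hA => ⟨hA.1.trans h, hA.2.1, hA.2.2.trans e⟩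

theorem jo_cj_le (g : G) (P : Subgroup G) : cj(g, jo P) ≤ jo cj(g, P) :=
  cj_le_iff_le_inv.2 (sSup_le fun A hA => cj_le_iff_le_inv.1 (le_sSup
    ⟨cj_mono g hA.1, ab_cj hA.2.1 g, by rw [card_cj, dm_cj]; exact hA.2.2⟩))

theorem jo_cj (g : G) (P : Subgroup G) : jo cj(g, P) = cj(g, jo P) :=
  le_antisymm (le_cj_iff_inv_le.2 (by simpa only [cj_inv_cj] using jo_cj_le g⁻¹ cj(g, P)))
    (jo_cj_le g P)

theorem jo_eq (h1 : jo P ≤ Q) (h2 : Q ≤ P) : dm Q = dm P ∧ jo Q = jo P := by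
  have e : dm Q = dm P := le_antisymm (dm_mono h2) (by
    obtain ⟨A, a1, a2, a3⟩ := ex_dm P
    exact a3 ▸ le_dm ((le_sSup (s := {A | A ≤ P ∧ A ≤ 𝐂[A] ∧ Nat.card A = dm P})
      ⟨a1, a2, a3⟩).trans h1) a2)
  exact ⟨e, le_antisymm (jo_mono h2 e) (sSup_le fun A hA => le_sSup
    ⟨(le_sSup hA).trans h1, hA.2.1, hA.2.2.trans e.symm⟩)⟩

omit [Finite G] in
theorem ab_sup (hA : A ≤ 𝐂[A]) (hB : B ≤ 𝐂[B]) (h : A ≤ 𝐂[B]) : A ⊔ B ≤ 𝐂[A ⊔ B] := by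
  rw [cent_sup]
  exact sup_le (le_inf hA h) (le_inf (cent_comm h) hB)

theorem cent_jo (P : Subgroup G) : P ⊓ 𝐂[jo P] ≤ jo P := fun x hx => by
  obtain ⟨A, a1, a2, a3⟩ := ex_dm P
  have a4 : A ≤ jo P := le_sSup ⟨a1, a2, a3⟩
  have a5 : zpowers x ≤ 𝐂[zpowers x] := le_centralizer_iff_isMulCommutative.2 inferInstance
  have a6 := GT.PG.eq_of_le_of_card_le (le_sup_left : A ≤ A ⊔ zpowers x) (a3 ▸ le_dm
    (sup_le a1 (zpowers_le.2 hx.1)) (ab_sup a2 a5 (cent_comm (zpowers_le.2 (cent_anti a4 hx.2)))))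
  exact a4 (a6.ge (le_sup_right (a := A) (mem_zpowers x)))

omit [Finite G] [Fact p.Prime] in
theorem val_smul {g : G} (hg : g ∈ 𝐍[Y]) (m : MZ p G) :
    (g • m).val Y = g * m.val Y * g⁻¹ := by
  conv_lhs => rw [← cj_of_norm hg]
  exact MZ.smul_val_cj g m Y

theorem smul_mem {g : G} (hg : g ∈ 𝐍[Y]) {m : MZ p G} (hm : m ∈ (zS p G).M Y) :
    g • m ∈ (zS p G).M Y := by
  have := (zS_ok (p := p) ⊤).M_smul g (mem_top g) Y m hm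
  rwa [cj_of_norm hg] at this

theorem fix_iff {m : MZ p G} (hm : m ∈ (zS p G).M Y) (hB : B ≤ 𝐍[Y]) :
    (∀ g ∈ B, g • m = m) ↔ m.val Y ∈ 𝐂[B] := by
  refine ⟨fun h => mem_cent.2 fun g hg => ?_, fun h g hg => zS_ext (smul_mem (hB hg) hm) hm ?_⟩
  · have := val_smul (hB hg) m
    rw [h g hg] at this
    exact (eq_mul_inv_iff_mul_eq.1 this).symm
  · rw [val_smul (hB hg), mem_cent.1 h g hg, mul_inv_cancel_right]

theorem card_fix (hY : Y ∈ Cen p G) (hB : B ≤ 𝐍[Y]) :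
    Nat.card ↥((zS p G).M Y ⊓ fixS (MZ p G) B) = Nat.card ↥(Y ⊓ 𝐂[Y] ⊓ 𝐂[B]) := by
  refine Nat.card_eq_of_bijective (fun m => ⟨m.1.val Y, zc_le Y (m.1.mem Y),
    (fix_iff m.2.1 hB).1 m.2.2⟩) ⟨fun a b e => Subtype.ext (zS_ext a.2.1 b.2.1
      (congrArg Subtype.val e)), fun z => ?_⟩
  have h1 := pg_iff.1 hY.1 z z.2.1.1
  have h2 := el_mem hY h1 z.2.1.2
  have h3 := el_val_pos (h1 := h1) (h2 := z.2.1.2) le_rfl hY
  exact ⟨⟨_, h2, (fix_iff h2 hB).2 (h3.symm ▸ z.2.2)⟩, Subtype.ext h3⟩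

theorem jo_le_jall (hY : Y ∈ Cen p G) (h1 : Y ≤ P) (h2 : P ≤ 𝐍[Y]) :
    jo P ≤ Jall ((zS p G).M Y) P := sSup_le fun A hA => le_jall (fun B hB => by
  have b1 : B ≤ 𝐂[A] := hB.trans hA.2.1
  have b2 : B ≤ 𝐂[Y ⊓ 𝐂[Y] ⊓ 𝐂[B]] := cent_comm inf_le_right
  rw [cw, cw, card_fix hY (hB.trans (hA.1.trans h2)), card_fix hY (hA.1.trans h2),
    ← GT.PG.card_sup_mul_card_inf (b2.trans (centralizer_le_normalizer _))]
  refine Nat.mul_le_mul (hA.2.2 ▸ le_dm (sup_le (hB.trans hA.1) ((inf_le_left.trans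
    inf_le_left).trans h1)) (ab_sup (b1.trans (cent_anti hB)) ?_ b2)) (card_le_of_le
      (le_inf (inf_le_right.trans inf_le_left) (inf_le_left.trans b1)))
  exact (inf_le_left.trans inf_le_right).trans (cent_anti (inf_le_left.trans inf_le_left))) hA.1

omit [Fact p.Prime] in
theorem fam (d j : ℕ) (Y : Subgroup G) : Fam (⊤ ⊓ 𝐍[Y])
    {P | P ∈ {P | P ∈ {P | P ∈ Cen p G ∧ dm P = d} ∧ Nat.card (jo P) = j} ∧ jo P = Y} := by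
  refine ⟨fun h hh P ⟨⟨⟨a, b⟩, c⟩, e⟩ => ⟨⟨⟨Cen.cj a h, (dm_cj h P).trans b⟩, ?_⟩, ?_⟩,
    fun P ⟨⟨⟨a, _⟩, _⟩, e⟩ T ⟨⟨⟨a', b'⟩, c'⟩, e'⟩ Q h1 h2 => ?_⟩
  · rw [jo_cj, card_cj, c]
  · rw [jo_cj, e, cj_of_norm hh.2]
  · obtain ⟨f1, f2⟩ := jo_eq ((e'.trans e.symm).le.trans ((jo_le P).trans h1)) h2
    exact ⟨⟨⟨Cen.of_le a h1 (a'.1.to_le h2), f1.trans b'⟩, f2 ▸ c'⟩, f2.trans e'⟩

theorem level (hX : Good p G X) (n d j : ℕ) (Y : Subgroup G) : Ac X (zS p G) (⊤ ⊓ 𝐍[Y])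
    {P | P ∈ {P | P ∈ {P | P ∈ Cen p G ∧ dm P = d} ∧ Nat.card (jo P) = j} ∧ jo P = Y} (n + 2) := by
  have hF := fam (p := p) d j Y
  have ok := zS_ok (p := p) (⊤ ⊓ 𝐍[Y])
  by_cases hY : Y ∈ Cen p G
  · have : Finite ((zS p G).M Y) := Finite.of_injective (fun m => m.1.val Y)
      fun a b e => Subtype.ext (zS_ext a.2 b.2 e)
    have hD : Mod p (⊤ ⊓ 𝐍[Y]) ((zS p G).M Y) :=
      ⟨fun h hh m hm => smul_mem hh.2 hm, ok.exp.imp fun _ h => h Y⟩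
    have hs : ∀ h ∈ ⊤ ⊓ 𝐍[Y], ∀ m, (zS p G).ρ Y (h • m) = h • (zS p G).ρ Y m := fun h hh m => by
      rw [← ok.ρ_smul h hh, cj_of_norm hh.2]
    refine Ac.of_iso (κ := fun _ => (zS p G).ρ Y) (Θ₂ := modS G ((zS p G).M Y))
      ⟨fun P hP h m hm => ⟨ok.ρ_mem _ _ (hP.2.ge.trans (jo_le P)) m hm, fun g hg => by
          rw [← hs g (h hg), ok.fix P g hg m hm]⟩,
        fun h hh _ _ _ m _ => hs h hh m,
        fun P hP _ _ _ _ m _ => ok.ρ_ρ _ _ (hP.2.ge.trans (jo_le P)) m⟩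
      ok hF.inv (fun P hP _ m hm e => zS_ext hm (zero_mem _) ?_) (fun P hP h m hm => ?_)
      (propL hX hD hF (fun P h hp => ⟨fun hP => ?_, fun hP => ?_⟩) n)
    · rw [← hm.1 Y (hP.2.ge.trans (jo_le P)) hY, ← zS_ρ_pos m le_rfl, e]
      rfl
    · have l := hP.2.ge.trans (jo_le P)
      have h2 := (fix_iff hm.1 (h.trans inf_le_right)).1 hm.2
      have h3 := el_mem hP.1.1.1 (zc_pow (m.mem Y)) h2
      refine ⟨_, h3, zS_ext (ok.ρ_mem _ _ l _ h3) hm.1 ?_⟩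
      rw [zS_ρ_pos _ le_rfl, el_val_pos l hY]
    · have l := jo_le_jall hY (hP.2.ge.trans (jo_le P)) (h.trans inf_le_right)
      obtain ⟨f1, f2⟩ := jo_eq l (jall_le _ P)
      exact ⟨⟨⟨Cen.of_le hY (hP.2.ge.trans l) (hp.to_le (jall_le _ P)), f1.trans hP.1.1.2⟩,
        f2 ▸ hP.1.2⟩, f2.trans hP.2⟩
    · have l := (hP.2.ge.trans (jo_le _)).trans (jall_le _ P)
      obtain ⟨f1, f2⟩ := jo_eq (jo_le_jall hY l (h.trans inf_le_right)) (jall_le _ P)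
      exact ⟨⟨⟨Cen.of_le hY l hp, f1.symm.trans hP.1.1.2⟩, f2 ▸ hP.1.2⟩, f2.symm.trans hP.2⟩
  · refine ar hX ok hF (fun P hP h hp => ⟨𝐂[Y] ⊓ 𝐍[P], inf_le_inf_right _
      (le_inf le_top (centralizer_le_normalizer _)), norm_inf (norm_cent (inf_le_left.trans
        inf_le_right)) (inf_le_right.trans le_normalizer), fun c hc => ⟨0, fun m hm => ?_⟩,
      not_syl_local hp (norm_cent (h.trans inf_le_right)) fun hS => hY ⟨hp.to_le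
        (hP.2.ge.trans (jo_le P)), fun x ⟨k, hk⟩ hx => ?_⟩⟩) (n + 1)
    · have a1 : m.val P ∈ Y := hP.2.le (cent_jo P ⟨(zc_le P (m.mem P)).1,
        cent_anti (jo_le P) (zc_le P (m.mem P)).2⟩)
      rw [pow_zero, pow_one]
      refine zS_ext (smul_mem hc.2 hm) hm ?_
      rw [val_smul hc.2, ← mem_cent.1 hc.1 _ a1, mul_inv_cancel_right]
    · have a1 : P ⊓ 𝐂[Y] ≤ Y := hP.2 ▸ cent_jo P
      refine a1 (hS.le_of_norm' (P := zpowers x) (pg_iff.2 fun y ⟨z, hz⟩ => ⟨k, ?_⟩)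
        (zpowers_le.2 hx) (((zpowers_le.2 hx).trans (cent_anti a1)).trans
          (centralizer_le_normalizer _)) (mem_zpowers x))
      rw [← hz, ← zpow_natCast, ← zpow_mul, mul_comm, zpow_mul, zpow_natCast, hk, one_zpow]

end ZAc

open ZAc in
theorem zac (hX : Good p G X) (n : ℕ) : Ac X (zS p G) ⊤ (Cen p G) (n + 2) := by
  have hi : ∀ h ∈ (⊤ : Subgroup G), ∀ P ∈ Cen p G, dm cj(h, P) = dm P := fun h _ P _ => dm_cj h P
  have hm : ∀ P ∈ Cen p G, ∀ Q ∈ Cen p G, P ≤ Q → dm P ≤ dm Q := fun _ _ _ _ => dm_mono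
  refine filt (zS_ok ⊤) (cen_fam ⊤) dm hi hm fun d => ?_
  have hF := (cen_fam (p := p) ⊤).level dm hi hm d
  have hi' : ∀ h ∈ (⊤ : Subgroup G), ∀ P ∈ {P | P ∈ Cen p G ∧ dm P = d},
      Nat.card (jo cj(h, P)) = Nat.card (jo P) := fun h _ P _ => by rw [jo_cj, card_cj]
  have hm' : ∀ P ∈ {P | P ∈ Cen p G ∧ dm P = d}, ∀ Q ∈ {P | P ∈ Cen p G ∧ dm P = d}, P ≤ Q →
      Nat.card (jo P) ≤ Nat.card (jo Q) := fun P hP Q hQ h =>
    card_le_of_le (jo_mono h (hP.2.trans hQ.2.symm))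
  refine filt (zS_ok ⊤) hF (fun P => Nat.card (jo P)) hi' hm' fun j => ?_
  exact v2 hX (zS_ok ⊤) (hF.level _ hi' hm' j).inv jo (fun h _ P _ _ => jo_cj h P)
    (fun P hP Q hQ h _ _ => GT.PG.eq_of_le_of_card_le (jo_mono h (hP.1.2.trans hQ.1.2.symm))
      (hQ.2.trans hP.2.symm).le) (level hX n d j)

end Cfsg.Agent.Chk
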