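import Mathlib
import Cfsg.Agent.Chk.ZAc
import Cfsg.Agent.Chk.PhiAc

set_option autoImplicit false

namespace Cfsg.Agent.Chk

open Cfsg.Agent.Loc.Mss Subgroup

namespace KeyA

variable {G Γ : Type*} [Group G] [Group Γ] {p : ℕ} {π : G →* Γ} {𝔸 : Type*} [AddCommGroup 𝔸]
  {ι : 𝔸 → G}

theorem iota_zero (hπ : CExt p π ι) : ι 0 = 1 := by
  have h := hπ.add 0 0
  rw [add_zero] at h
  exact mul_left_cancel (a := ι 0) (by rw [← h, mul_one])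

theorem iota_nsmul (hπ : CExt p π ι) (n : ℕ) (a : 𝔸) : ι (n • a) = ι a ^ n := by
  induction n with
  | zero => rw [zero_nsmul, pow_zero, iota_zero hπ]
  | succ n ih => rw [succ_nsmul, hπ.add, ih, pow_succ]

theorem ker_exp [Finite G] [Fact p.Prime] (hp : IsPGroup p π.ker) :
    ∃ k : ℕ, ∀ a ∈ π.ker, a ^ p ^ k = 1 := by
  obtain ⟨k, hk⟩ := IsPGroup.iff_card.1 hp
  refine ⟨k, fun a ha => ?_⟩
  have h : (⟨a, ha⟩ : π.ker) ^ Nat.card π.ker = 1 := pow_card_eq_one'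
  rw [hk] at h
  exact congrArg Subtype.val h

theorem pg_of_map (hp : IsPGroup p π.ker) {P : Subgroup G} (h : IsPGroup p (P.map π)) :
    IsPGroup p P :=
  (h.comap_of_ker_isPGroup π hp).to_le (le_comap_map π P)

/-- The preimage of the centralizer of the image. -/
def KK (π : G →* Γ) (P : Subgroup G) : Subgroup G := (𝐂[P.map π]).comap π

theorem kk_le {P : Subgroup G} (hk : π.ker ≤ P) : KK π P ≤ 𝐍[P] := by
  have h := comap_norm_le π (cent_le_norm (P.map π))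
  rwa [comap_map_eq_self hk] at h

theorem norm_kk (P : Subgroup G) : 𝐍[P] ≤ 𝐍[KK π P] :=
  (le_comap_map π _).trans (comap_norm_le π (norm_cent (map_norm_le π le_rfl)))

theorem kk_comm {P : Subgroup G} {c u : G} (hc : c ∈ KK π P) (hu : u ∈ P) :
    u⁻¹ * (c * u * c⁻¹) ∈ π.ker := by
  have h := mem_cent.1 (mem_comap.1 hc) (π u) (mem_map_of_mem π hu)
  rw [MonoidHom.mem_ker, map_mul, map_mul, map_mul, map_inv, map_inv, ← h]
  group

theorem not_syl [Finite G] [Fact p.Prime] (hs : Function.Surjective π) (hp : IsPGroup p π.ker)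
    {P : Subgroup G} (hP : IsPGroup p P) (hk : π.ker ≤ P) (h : P ∉ CC p π) :
    ¬ Syl p (P ⊓ KK π P) (KK π P) := by
  intro hS
  apply h
  refine ⟨hk, hP.map π, fun y ⟨k, hy⟩ hc => ?_⟩
  obtain ⟨x, rfl⟩ := hs y
  have hz : IsPGroup p (zpowers (π x)) := pg_iff.2 fun w hw => by
    obtain ⟨j, rfl⟩ := mem_zpowers_iff.1 hw
    exact ⟨k, by rw [← zpow_natCast, ← zpow_mul, mul_comm, zpow_mul, zpow_natCast, hy, one_zpow]⟩
  have h1 : IsPGroup p ↥((P.map π ⊓ 𝐂[P.map π]) ⊔ zpowers (π x)) :=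
    pg_sup' ((hP.map π).to_le inf_le_left) hz
      (norm_of_cent ((zpowers_le.2 hc).trans (cent_anti inf_le_left)))
  have h2 := hS.ge_of_le (h1.comap_of_ker_isPGroup π hp)
    (fun w hw => mem_comap.2 (mem_sup_left ⟨mem_map_of_mem π hw.1, hw.2⟩))
    (comap_mono (sup_le inf_le_right (zpowers_le.2 hc)))
  exact mem_map_of_mem π (h2 (mem_comap.2 (mem_sup_right (mem_zpowers _)))).1

theorem cc_cen (hp : IsPGroup p π.ker) {P : Subgroup G} (h : P ∈ CC p π) : P ∈ Cen p G := by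
  refine ⟨pg_of_map hp h.2.1, fun x ⟨k, hx⟩ hc => ?_⟩
  have h1 : π x ∈ P.map π := h.2.2 (π x) ⟨k, by rw [← map_pow, hx, map_one]⟩
    (map_cent_le π (X := zpowers x) (zpowers_le.2 hc) (mem_map_of_mem π (mem_zpowers x)))
  rw [← comap_map_eq_self h.1]
  exact h1

theorem cc_inv (h : G) {P : Subgroup G} (hP : P ∈ CC p π) : cj(h, P) ∈ CC p π := by
  refine ⟨?_, ?_⟩
  · rw [← cj_normal π.ker h]; exact cj_mono h hP.1
  · rw [map_cj]; exact Cen.cj hP.2 _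

theorem cc_up {P Q : Subgroup G} (hP : P ∈ CC p π) (hPQ : P ≤ Q) (hQ : IsPGroup p Q) :
    Q ∈ CC p π :=
  ⟨hP.1.trans hPQ, Cen.of_le hP.2 (map_mono hPQ) (hQ.map π)⟩

/-- The `p`-subgroups containing the kernel. -/
def RR (p : ℕ) (π : G →* Γ) : Set (Subgroup G) := {P | π.ker ≤ P ∧ IsPGroup p P}

theorem rr_fam : Fam ⊤ (RR p π) := by
  refine ⟨fun h _ P hP => ⟨?_, pg_cj hP.2 h⟩, fun P hP T hT Q h1 h2 =>
    ⟨hP.1.trans h1, hT.2.to_le h2⟩⟩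
  rw [← cj_normal π.ker h]; exact cj_mono h hP.1

theorem rr_up (hp : IsPGroup p π.ker) : Up ⊤ (RR p π) (CC p π) :=
  ⟨fun _ hP => ⟨hP.1, pg_of_map hp hP.2.1⟩, fun h _ _ hP => cc_inv h hP,
    fun _ hP _ hQ h => cc_up hP h hQ.2⟩

theorem cen_up (hp : IsPGroup p π.ker) : Up ⊤ (Cen p G) (CC p π) :=
  ⟨fun _ hP => cc_cen hp hP, fun h _ _ hP => cc_inv h hP, fun _ hP _ hQ h => cc_up hP h hQ.1⟩

theorem ker_le_of_cen (hc : π.ker ≤ center G) (hp : IsPGroup p π.ker) {P : Subgroup G}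
    (h : P ∈ Cen p G) : π.ker ≤ P := fun a ha =>
  h.2 a (pg_iff.1 hp a ha) (mem_cent.2 fun u _ => mem_center_iff.1 (hc ha) u)

/-- The common reduction. -/
theorem red [Finite G] [Fact p.Prime] {X : Type*} [MulAction G X] {𝕄 : Type*} [AddCommGroup 𝕄]
    [DistribMulAction G 𝕄] {Θ : Sys G 𝕄} (hs : Function.Surjective π) (hp : IsPGroup p π.ker)
    (hX : Good p G X) (hΘ : Θ.Ok p ⊤) {R : Set (Subgroup G)} (hR : Fam ⊤ R)
    (hU : Up ⊤ R (CC p π)) (hk : ∀ P ∈ R, π.ker ≤ P)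
    (ha : ∀ P ∈ R, PAct p (KK π P) (Θ.M P)) {n : ℕ} (h : Ac X Θ ⊤ R n) :
    Ac X Θ ⊤ (CC p π) n := by
  refine les3 hΘ hR hU h (ar hX hΘ (Up.fam_diff hR hU) (fun P hP _ hpP => ?_) n)
  exact ⟨KK π P, le_inf le_top (kk_le (hk P hP.1)), inf_le_right.trans (norm_kk P), ha P hP.1,
    not_syl hs hp hpP (hk P hP.1) hP.2⟩

theorem conj_pow_eq {c z a : G} (ha : a ∈ center G) (h : c * z * c⁻¹ = z * a) (n : ℕ) :
    c ^ n * z * (c ^ n)⁻¹ = z * a ^ n := by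
  induction n with
  | zero => simp
  | succ n ih =>
    have h1 : c * a ^ n = a ^ n * c := mem_center_iff.1 (pow_mem ha n) c
    calc c ^ (n + 1) * z * (c ^ (n + 1))⁻¹ = c * (c ^ n * z * (c ^ n)⁻¹) * c⁻¹ := by
          rw [pow_succ']; group
      _ = c * z * c⁻¹ * (c * a ^ n) * c⁻¹ := by rw [ih]; group
      _ = z * a ^ (n + 1) := by rw [h, h1, pow_succ']; group

theorem pact_z [Finite G] [Fact p.Prime] (hc : π.ker ≤ center G) (hp : IsPGroup p π.ker)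
    {P : Subgroup G} (hk : π.ker ≤ P) : PAct p (KK π P) ((zS p G).M P) := by
  intro c hcK
  obtain ⟨k, hk'⟩ := ker_exp hp
  refine ⟨k, fun m hm => ?_⟩
  have hn : c ^ p ^ k ∈ 𝐍[P] := pow_mem (kk_le hk hcK) _
  have h1 := (zS_ok (p := p) (⊤ : Subgroup G)).M_smul (c ^ p ^ k) (mem_top _) P m hm
  rw [cj_of_norm hn] at h1
  refine zS_ext h1 hm ?_
  have h2 := MZ.smul_val_cj (c ^ p ^ k) m P
  rw [cj_of_norm hn] at h2
  have h3 := kk_comm hcK (zc_le P (m.mem P)).1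
  rw [h2, conj_pow_eq (hc h3) (by group), hk' _ h3, mul_one]

theorem pact_phi {P : Subgroup G} (hk : π.ker ≤ P) :
    PAct p (KK π P) ((phiS 𝔸 π.ker).M P) := by
  intro c hcK
  refine ⟨0, fun F hF => Phi.ext' fun u => ?_⟩
  rw [pow_zero, pow_one, Phi.ev_smul]
  by_cases hu : u ∈ P
  · have h3 := kk_comm (inv_mem hcK) hu
    rw [inv_inv] at h3
    have h4 : c⁻¹ * u * c = u * (u⁻¹ * (c⁻¹ * u * c)) := by group
    rw [h4, hF.1 u hu _ (hk h3), hF.2.1 _ h3, add_zero]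
  · rw [hF.2.2 u hu, hF.2.2 _ fun h' => hu ?_]
    have := conj_mem_of_norm (kk_le hk hcK) h'
    simpa [mul_assoc] using this

end KeyA

variable {G Γ : Type*} [Group G] [Finite G] [Group Γ] {X : Type*} [MulAction G X]
  [MulAction Γ X] {p : ℕ} [Fact p.Prime] {π : G →* Γ} {𝔸 : Type*} [AddCommGroup 𝔸] {ι : 𝔸 → G}

theorem CExt.exp (hπ : CExt p π ι) : ∃ k : ℕ, ∀ a : 𝔸, p ^ k • a = 0 := by
  obtain ⟨k, hk⟩ := KeyA.ker_exp hπ.pg
  exact ⟨k, fun a => hπ.inj (by rw [KeyA.iota_nsmul hπ, hk _ (hπ.mem a), KeyA.iota_zero hπ])⟩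

omit [Finite G] [Fact p.Prime] in
theorem cc_fam (π : G →* Γ) : Fam ⊤ (CC p π) :=
  ⟨fun h _ _ hP => KeyA.cc_inv h hP, fun _ hP _ hT _ h1 h2 =>
    ⟨hP.1.trans h1, Cen.of_le hP.2 (map_mono h1) (hT.2.1.to_le (map_mono h2))⟩⟩

omit [Finite G] [Fact p.Prime] in
theorem good_pull (hp : IsPGroup p π.ker) (hX : Good p Γ X)
    (hXa : ∀ (g : G) (x : X), g • x = π g • x) : Good p G X := by
  refine ⟨fun x => ((hX.pg x).comap_of_ker_isPGroup π hp).to_le fun g hg => ?_, fun P hP => ?_⟩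
  · rw [mem_comap, MulAction.mem_stabilizer_iff, ← hXa]
    exact hg
  · obtain ⟨x, hx⟩ := hX.fix (P.map π) (hP.map π)
    exact ⟨x, fun g hg => by rw [hXa]; exact hx _ (mem_map_of_mem π hg)⟩

theorem acA [DistribMulAction G 𝔸] (h𝔸 : ∀ (g : G) (a : 𝔸), g • a = a) (hπ : CExt p π ι)
    (hX : Good p G X) : Ac X (modS G (⊤ : AddSubgroup 𝔸)) ⊤ (CC p π) 4 := by
  have hD : Mod p (⊤ : Subgroup G) (⊤ : AddSubgroup 𝔸) :=
    ⟨fun _ _ _ _ => AddSubgroup.mem_top _, let ⟨k, hk⟩ := hπ.exp; ⟨k, fun a _ => hk a⟩⟩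
  refine KeyA.red hπ.surj hπ.pg hX hD.ok KeyA.rr_fam (KeyA.rr_up hπ.pg) (fun _ hP => hP.1)
    (fun P _ c _ => ⟨0, fun m _ => h𝔸 _ m⟩) ?_
  exact Ac.congr hX (fun P _ hP => ⟨fun h => ⟨h, hP⟩, fun h => h.1⟩)
    (v3 hX hD hπ.pg le_top (norm_normal _ _) 4)

theorem acZ (hπ : CExt p π ι) (hX : Good p G X) : Ac X (zS p G) ⊤ (CC p π) 3 :=
  KeyA.red hπ.surj hπ.pg hX (zS_ok ⊤) (cen_fam ⊤) (KeyA.cen_up hπ.pg)
    (fun _ hP => KeyA.ker_le_of_cen hπ.cen hπ.pg hP)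
    (fun _ hP => KeyA.pact_z hπ.cen hπ.pg (KeyA.ker_le_of_cen hπ.cen hπ.pg hP)) (zac hX 1)

theorem acZb [DistribMulAction G (MZ p Γ)] (hM : ∀ (g : G) (m : MZ p Γ), g • m = π g • m)
    (hπ : CExt p π ι) (hX : Good p Γ X) (hXa : ∀ (g : G) (x : X), g • x = π g • x) :
    Ac X (pull π (zS p Γ)) ⊤ (CC p π) 2 := by
  haveI : Finite Γ := Finite.of_surjective π hπ.surj
  exact Ac.pull hπ.surj hXa hM (zac hX 0)

theorem acPhi (hπ : CExt p π ι) (hX : Good p G X) : Ac X (phiS 𝔸 π.ker) ⊤ (CC p π) 1 := by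
  refine KeyA.red hπ.surj hπ.pg hX (phiS_ok hπ.cen hπ.exp ⊤) KeyA.rr_fam (KeyA.rr_up hπ.pg)
    (fun _ hP => hP.1) (fun P hP => KeyA.pact_phi hP.1) ?_
  exact Ac.congr hX (fun P _ hP => ⟨fun h => ⟨h, hP⟩, fun h => h.1⟩)
    (phi_ac hX hπ.cen hπ.pg hπ.exp)

end Cfsg.Agent.Chk
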