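import Mathlib
import Cfsg.Agent.Chk.KeyA

set_option autoImplicit false
set_option linter.unusedSectionVars false

namespace Cfsg.Agent.Chk

open Cfsg.Agent.Loc.Mss Subgroup

variable {G Γ : Type*} [Group G] [Finite G] [Group Γ] {X : Type*} [MulAction G X]
  [MulAction Γ X] {p : ℕ} [Fact p.Prime] {π : G →* Γ} {𝔸 : Type*} [AddCommGroup 𝔸] {ι : 𝔸 → G}

namespace KeyB

theorem iota_zero (hπ : CExt p π ι) : ι 0 = 1 := by
  have := hπ.add 0 0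
  rw [add_zero] at this
  exact left_eq_mul.1 this

theorem ker_comm (hπ : CExt p π ι) {a : G} (ha : a ∈ π.ker) (g : G) : g * a = a * g :=
  mem_center_iff.1 (hπ.cen ha) g

theorem cc_pg (hπ : CExt p π ι) {P : Subgroup G} (h : P ∈ CC p π) : IsPGroup p P :=
  (h.2.1.comap_of_ker_isPGroup π hπ.pg).to_le (le_comap_map π P)

theorem map_cen {P : Subgroup G} {z : G} (h : z ∈ 𝐂[P]) : π z ∈ 𝐂[P.map π] :=
  map_cent_le π le_rfl (mem_map_of_mem π h)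

theorem map_pow' {z : G} (h : ∃ k : ℕ, z ^ p ^ k = 1) : ∃ k : ℕ, π z ^ p ^ k = 1 :=
  let ⟨k, hk⟩ := h; ⟨k, by rw [← map_pow, hk, map_one]⟩

theorem cc_cen (hπ : CExt p π ι) {P : Subgroup G} (h : P ∈ CC p π) : P ∈ Cen p G :=
  ⟨cc_pg hπ h, fun x hx hc => by
    have : x ∈ (P.map π).comap π := h.2.2 _ (map_pow' hx) (map_cen hc)
    rwa [comap_map_eq, sup_eq_left.2 h.1] at this⟩

theorem el_mul {H : Type*} [Group H] (Q : Subgroup H) {z z' : H} {h1 h2 h1' h2' h1'' h2''} :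
    (el Q (z * z') h1 h2 : MZ p H) = el Q z h1' h2' + el Q z' h1'' h2'' :=
  MZ.ext (funext fun T => by
    rw [MZ.add_val]
    by_cases h : T ≤ Q ∧ T ∈ Cen p H
    · rw [el_val_pos h.1 h.2, el_val_pos h.1 h.2, el_val_pos h.1 h.2]
    · rw [el_val_neg h, el_val_neg h, el_val_neg h, mul_one])

theorem el_congr {H : Type*} [Group H] (Q : Subgroup H) {z z' : H} (e : z = z') {h1 h2 h1' h2'} :
    (el Q z h1 h2 : MZ p H) = el Q z' h1' h2' := by subst e; rfl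

theorem iota_cen (hπ : CExt p π ι) (a : 𝔸) (P : Subgroup G) : ι a ∈ 𝐂[P] :=
  mem_cent.2 fun g _ => ker_comm hπ (hπ.mem a) g

/-- The inclusion of the kernel into the centres. -/
noncomputable def k1 (hπ : CExt p π ι) (P : Subgroup G) : 𝔸 →+ MZ p G :=
  AddMonoidHom.mk' (fun a => el P (ι a) (pg_iff.1 hπ.pg _ (hπ.mem a)) (iota_cen hπ a P)) fun a b =>
    (el_congr P (hπ.add a b)).trans (el_mul P
      (h1 := hπ.add a b ▸ pg_iff.1 hπ.pg _ (hπ.mem _)) (h2 := hπ.add a b ▸ iota_cen hπ _ P))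

theorem k1_val (hπ : CExt p π ι) {P Q : Subgroup G} (h : P ≤ Q) (hP : P ∈ Cen p G) (a : 𝔸) :
    (k1 hπ Q a).val P = ι a :=
  el_val_pos (h1 := pg_iff.1 hπ.pg _ (hπ.mem a)) (h2 := iota_cen hπ a Q) h hP

theorem k1_mem (hπ : CExt p π ι) {P : Subgroup G} (hP : P ∈ CC p π) (a : 𝔸) :
    k1 hπ P a ∈ (zS p G).M P :=
  el_mem (cc_cen hπ hP) (pg_iff.1 hπ.pg _ (hπ.mem a)) (iota_cen hπ a P)

/-- The projection of the centres. -/
noncomputable def k2 (p : ℕ) [Fact p.Prime] (π : G →* Γ) (P : Subgroup G) : MZ p G →+ MZ p Γ :=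
  AddMonoidHom.mk' (fun m => el (P.map π) (π (m.val P)) (map_pow' (zc_pow (m.mem P)))
    (map_cen (zc_le P (m.mem P)).2)) fun a b =>
    (el_congr _ (map_mul π _ _)).trans (el_mul _
      (h1 := map_mul π _ _ ▸ map_pow' (zc_pow ((a + b).mem P)))
      (h2 := map_mul π _ _ ▸ map_cen (zc_le P ((a + b).mem P)).2))

theorem k2_val {P : Subgroup Γ} {Q : Subgroup G} (h : P ≤ Q.map π) (hP : P ∈ Cen p Γ) (m : MZ p G) :
    (k2 p π Q m).val P = π (m.val Q) :=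
  el_val_pos (h1 := map_pow' (zc_pow (m.mem Q))) (h2 := map_cen (zc_le Q (m.mem Q)).2) h hP

theorem k2_mem {P : Subgroup G} (hP : P ∈ CC p π) (m : MZ p G) :
    k2 p π P m ∈ (zS p Γ).M (P.map π) :=
  el_mem hP.2 (map_pow' (zc_pow (m.mem P))) (map_cen (zc_le P (m.mem P)).2)

/-- The commutator of a lift of `w` with `u`. -/
noncomputable def cm (hπ : CExt p π ι) (w : Γ) (u : G) : 𝔸 :=
  Function.invFun ι (Function.surjInv hπ.surj w * u * (Function.surjInv hπ.surj w)⁻¹ * u⁻¹)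

theorem comm_mem {P : Subgroup G} {z u : G} (hz : π z ∈ 𝐂[P.map π]) (hu : u ∈ P) :
    z * u * z⁻¹ * u⁻¹ ∈ π.ker := by
  rw [MonoidHom.mem_ker, map_mul, map_mul, map_mul, ← mem_cent.1 hz _ (mem_map_of_mem π hu)]
  simp

theorem iota_cm (hπ : CExt p π ι) {P : Subgroup G} {w : Γ} {z u : G} (e : π z = w)
    (hw : w ∈ 𝐂[P.map π]) (hu : u ∈ P) : ι (cm hπ w u) = z * u * z⁻¹ * u⁻¹ := by
  have h0 := Function.surjInv_eq hπ.surj w
  rw [cm]
  generalize Function.surjInv hπ.surj w = s at h0 ⊢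
  rw [Function.invFun_eq (hπ.ex _ (comm_mem (h0 ▸ hw) hu))]
  have h1 : z⁻¹ * s ∈ π.ker := by rw [MonoidHom.mem_ker, map_mul, map_inv, e, h0, inv_mul_cancel]
  calc s * u * s⁻¹ * u⁻¹ = z * (z⁻¹ * s * u) * s⁻¹ * u⁻¹ := by group
    _ = _ := by rw [← ker_comm hπ h1]; group

theorem val_cen (m : MZ p Γ) (P : Subgroup Γ) : m.val P ∈ 𝐂[P] := (zc_le P (m.mem P)).2

open Classical in
/-- The commutator map. -/
noncomputable def k3 (hπ : CExt p π ι) (P : Subgroup G) : MZ p Γ →+ Phi G 𝔸 :=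
  AddMonoidHom.mk' (fun m => Phi.mk fun u => if u ∈ P then cm hπ (m.val (P.map π)) u else 0)
    fun a b => Phi.ext' fun u => by
      simp only [Phi.ev_mk, map_add]
      split_ifs with hu
      · obtain ⟨z, hz⟩ := hπ.surj (a.val (P.map π))
        obtain ⟨z', hz'⟩ := hπ.surj (b.val (P.map π))
        refine hπ.inj ?_
        rw [hπ.add, iota_cm hπ hz (val_cen a _) hu, iota_cm hπ hz' (val_cen b _) hu,
          iota_cm hπ (z := z * z') (by rw [map_mul, hz, hz', MZ.add_val]) (val_cen (a + b) _) hu,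
          ker_comm hπ (comm_mem (hz' ▸ val_cen b _) hu)]
        calc _ = z * (z' * u * z'⁻¹ * u⁻¹) * (u * z⁻¹ * u⁻¹) := by group
          _ = _ := by rw [ker_comm hπ (comm_mem (hz' ▸ val_cen b _) hu) z]; group
      · simp

theorem k3_pos (hπ : CExt p π ι) {P : Subgroup G} {m : MZ p Γ} {z u : G}
    (e : π z = m.val (P.map π)) (hu : u ∈ P) : ι (Phi.ev u (k3 hπ P m)) = z * u * z⁻¹ * u⁻¹ := by
  rw [← iota_cm hπ e (val_cen m _) hu]
  exact congrArg ι (if_pos hu)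

theorem k3_neg (hπ : CExt p π ι) {P : Subgroup G} (m : MZ p Γ) {u : G} (hu : u ∉ P) :
    Phi.ev u (k3 hπ P m) = 0 := if_neg hu

theorem hom1 [DistribMulAction G 𝔸] (h𝔸 : ∀ (g : G) (a : 𝔸), g • a = a) (hπ : CExt p π ι) :
    Hom ⊤ (CC p π) (modS G (⊤ : AddSubgroup 𝔸)) (zS p G) (k1 hπ) where
  mem _ hP _ a _ := k1_mem hπ hP a
  smul h hh P hP _ a _ := by
    have hP' := (cc_fam π).inv h hh P hP
    refine zS_ext (k1_mem hπ hP' _) ((zS_ok ⊤).M_smul h hh P _ (k1_mem hπ hP a)) ?_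
    rw [k1_val hπ le_rfl (cc_cen hπ hP'), MZ.smul_val_cj, k1_val hπ le_rfl (cc_cen hπ hP), h𝔸,
      ker_comm hπ (hπ.mem a), mul_inv_cancel_right]
  rho P hP Q hQ hPQ _ a _ := by
    refine zS_ext (k1_mem hπ hP _) ((zS_ok ⊤).ρ_mem P Q hPQ _ (k1_mem hπ hQ a)) ?_
    rw [k1_val hπ le_rfl (cc_cen hπ hP), zS_ρ_pos _ le_rfl, k1_val hπ hPQ (cc_cen hπ hP), modS_ρ]

theorem hom2 [Finite Γ] [DistribMulAction G (MZ p Γ)] (hM : ∀ (g : G) (m : MZ p Γ), g • m = π g • m)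
    (hπ : CExt p π ι) : Hom ⊤ (CC p π) (zS p G) (pull π (zS p Γ)) (k2 p π) where
  mem _ hP _ m _ := k2_mem hP m
  smul h hh P hP _ m _ := by
    have hP' := (cc_fam π).inv h hh P hP
    refine zS_ext (k2_mem hP' _) ((pull_ok hM (zS_ok ⊤)).M_smul h hh P _ (k2_mem hP m)) ?_
    rw [k2_val le_rfl hP'.2, MZ.smul_val_cj, hM, map_cj, MZ.smul_val_cj, k2_val le_rfl hP.2, map_mul,
      map_mul, map_inv]
  rho P hP Q hQ hPQ _ m hm := by
    refine zS_ext (k2_mem hP _) ((zS_ok ⊤).ρ_mem _ _ (map_mono hPQ) _ (k2_mem hQ m)) ?_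
    rw [k2_val le_rfl hP.2, zS_ρ_pos _ le_rfl, hm.1 P hPQ (cc_cen hπ hP)]
    exact ((zS_ρ_pos _ le_rfl).trans (k2_val (map_mono hPQ) hP.2 m)).symm

theorem hom3 [DistribMulAction G (MZ p Γ)] (hM : ∀ (g : G) (m : MZ p Γ), g • m = π g • m)
    (hπ : CExt p π ι) : Hom ⊤ (CC p π) (pull π (zS p Γ)) (phiS 𝔸 π.ker) (k3 hπ) where
  mem P hP _ m _ := by
    obtain ⟨z, hz⟩ := hπ.surj (m.val (P.map π))
    refine ⟨fun u hu v hv => hπ.inj ?_, fun a ha => hπ.inj ?_, fun u hu => k3_neg hπ m hu⟩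
    · rw [hπ.add, k3_pos hπ hz hu, k3_pos hπ hz hv, k3_pos hπ hz (mul_mem hu hv)]
      calc _ = z * u * z⁻¹ * ((z * v * z⁻¹ * v⁻¹) * u⁻¹) := by group
        _ = _ := by rw [← ker_comm hπ (comm_mem (hz ▸ val_cen m _) hv)]; group
    · rw [k3_pos hπ hz (hP.1 ha), iota_zero hπ, ker_comm hπ ha]; group
  smul h _ P _ _ m _ := Phi.ext' fun u => by
    rw [Phi.ev_smul]
    by_cases hu : u ∈ cj(h, P)
    · obtain ⟨z, hz⟩ := hπ.surj (m.val (P.map π))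
      refine hπ.inj ?_
      rw [k3_pos hπ hz (mem_cj.1 hu), k3_pos hπ (z := h * z * h⁻¹) (by
        rw [hM, map_cj, MZ.smul_val_cj, map_mul, map_mul, map_inv, hz]) hu]
      calc _ = h * (z * (h⁻¹ * u * h) * z⁻¹ * (h⁻¹ * u * h)⁻¹) * h⁻¹ := by group
        _ = _ := by
          rw [ker_comm hπ (comm_mem (hz ▸ val_cen m _) (mem_cj.1 hu)), mul_inv_cancel_right]
    · rw [k3_neg hπ _ hu, k3_neg hπ _ fun h' => hu (mem_cj.2 h')]
  rho P hP Q _ hPQ _ m hm := Phi.ext' fun u => by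
    by_cases hu : u ∈ P
    · obtain ⟨z, hz⟩ := hπ.surj (m.val (Q.map π))
      refine hπ.inj ?_
      rw [phiS_ρ_pos _ hu, k3_pos hπ hz (hPQ hu), k3_pos hπ (z := z) ?_ hu]
      exact hz.trans ((zS_ρ_pos _ le_rfl).trans (hm.1 _ (map_mono hPQ) hP.2)).symm
    · rw [k3_neg hπ _ hu, phiS_ρ_neg _ hu]

theorem ex2 (hπ : CExt p π ι) {P : Subgroup G} (hP : P ∈ CC p π) {m : MZ p G}
    (hm : m ∈ (zS p G).M P) : k2 p π P m = 0 ↔ ∃ a, k1 hπ P a = m := by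
  constructor
  · intro h
    have := k2_val le_rfl hP.2 m
    rw [h, MZ.zero_val] at this
    obtain ⟨a, ha⟩ := hπ.ex _ this.symm
    exact ⟨a, zS_ext (k1_mem hπ hP a) hm ((k1_val hπ le_rfl (cc_cen hπ hP) a).trans ha)⟩
  · rintro ⟨a, rfl⟩
    refine zS_ext (k2_mem hP _) (zero_mem _) ?_
    rw [k2_val le_rfl hP.2, k1_val hπ le_rfl (cc_cen hπ hP)]
    exact hπ.mem a

theorem ex3 (hπ : CExt p π ι) {P : Subgroup G} (hP : P ∈ CC p π) {m : MZ p Γ}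
    (hm : m ∈ (zS p Γ).M (P.map π)) : k3 hπ P m = 0 ↔ ∃ m' ∈ (zS p G).M P, k2 p π P m' = m := by
  constructor
  · intro h
    obtain ⟨z, hz, e⟩ := (zc_le _ (m.mem (P.map π))).1
    have hc : z ∈ 𝐂[P] := mem_cent.2 fun u hu => by
      have := k3_pos hπ e hu
      rw [h, map_zero, iota_zero hπ] at this
      calc u * z = 1 * (u * z) := (one_mul _).symm
        _ = _ := by rw [this]; group
    refine ⟨el P z (pg_iff.1 (cc_pg hπ hP) z hz) hc, el_mem (cc_cen hπ hP) _ _,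
      zS_ext (k2_mem hP _) hm ?_⟩
    rw [k2_val le_rfl hP.2, el_val_pos le_rfl (cc_cen hπ hP), e]
  · rintro ⟨m', -, rfl⟩
    refine Phi.ext' fun u => ?_
    by_cases hu : u ∈ P
    · refine hπ.inj ?_
      rw [k3_pos hπ (k2_val le_rfl hP.2 m').symm hu, map_zero, iota_zero hπ,
        ← mem_cent.1 (zc_le P (m'.mem P)).2 u hu]
      group
    · rw [k3_neg hπ _ hu, map_zero]

end KeyB

open KeyB in
theorem key (hπ : CExt p π ι) (hX : Good p Γ X) (hXa : ∀ (g : G) (x : X), g • x = π g • x)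
    {f : (Fin 2 → X) → Phi G 𝔸} (hf : IsCo (phiS 𝔸 π.ker) ⊤ (CC p π) f)
    (hk : ∀ σ : Fin 3 → X, st ⊤ σ ∈ CC p π → ∃ z ∈ st (⊤ : Subgroup G) σ,
      ∀ u ∈ st (⊤ : Subgroup G) σ, ι (Phi.ev u (bd f σ)) = z * u * z⁻¹ * u⁻¹) :
    ∃ χ : (Fin 1 → X) → Phi G 𝔸, IsCo (phiS 𝔸 π.ker) ⊤ (CC p π) χ ∧
      ∀ σ : Fin 2 → X, st ⊤ σ ∈ CC p π → ∃ z ∈ st (⊤ : Subgroup G) σ,
        ∀ u ∈ st (⊤ : Subgroup G) σ,
          ι (Phi.ev u (f σ)) = ι (Phi.ev u (bd χ σ)) * (z * u * z⁻¹ * u⁻¹) := by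
  haveI : Finite Γ := Finite.of_surjective π hπ.surj
  letI : DistribMulAction G 𝔸 :=
    { smul := fun _ a => a
      one_smul := fun _ => rfl
      mul_smul := fun _ _ _ => rfl
      smul_zero := fun _ => rfl
      smul_add := fun _ _ _ => rfl }
  letI : DistribMulAction G (MZ p Γ) := DistribMulAction.compHom _ π
  have h𝔸 : ∀ (g : G) (a : 𝔸), g • a = a := fun _ _ => rfl
  have hM : ∀ (g : G) (m : MZ p Γ), g • m = π g • m := fun _ _ => rfl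
  have hX' := good_pull hπ.pg hX hXa
  obtain ⟨χ, b, hχ, hb, e⟩ := chase (cc_fam π)
    (Mod.ok (D := ⊤) ⟨fun _ _ _ _ => trivial, let ⟨k, hk⟩ := hπ.exp; ⟨k, fun a _ => hk a⟩⟩) (zS_ok ⊤)
    (pull_ok hM (zS_ok ⊤)) (phiS_ok hπ.cen hπ.exp ⊤) (hom1 h𝔸 hπ) (hom2 hM hπ) (hom3 hM hπ)
    (fun P hP _ a _ h => hπ.inj (by
      rw [← k1_val hπ le_rfl (cc_cen hπ hP), h, MZ.zero_val, iota_zero hπ]))
    (fun P hP _ m hm => (ex2 hπ hP hm).trans
      ⟨fun ⟨a, ha⟩ => ⟨a, ⟨trivial, fun g _ => h𝔸 g a⟩, ha⟩, fun ⟨a, _, ha⟩ => ⟨a, ha⟩⟩)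
    (fun P hP _ m hm => ex3 hπ hP hm) (acA h𝔸 hπ hX') (acZ hπ hX') (acZb hM hπ hX hXa)
    (acPhi hπ hX') hf (fun σ hσ => by
      obtain ⟨z, hz, hzu⟩ := hk σ hσ
      have hc : π z ∈ 𝐂[(st ⊤ σ).map π] := mem_cent.2 (by
        rintro _ ⟨u, hu, rfl⟩
        have : π (z * u * z⁻¹ * u⁻¹) = 1 := hzu u hu ▸ hπ.mem _
        calc π u * π z = 1 * (π u * π z) := (one_mul _).symm
          _ = _ := by rw [← this]; simp)
      refine ⟨el _ (π z) (map_pow' (pg_iff.1 (cc_pg hπ hσ) z hz)) hc, el_mem hσ.2 _ _,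
        Phi.ext' fun u => ?_⟩
      rw [dd_pos hσ]
      by_cases hu : u ∈ st (⊤ : Subgroup G) σ
      · refine hπ.inj ?_
        rw [k3_pos hπ (el_val_pos le_rfl hσ.2).symm hu, phiS_ρ_pos _ hu, hzu u hu]
      · rw [k3_neg hπ _ hu, phiS_ρ_neg _ hu])
  refine ⟨χ, hχ, fun σ hσ => ?_⟩
  obtain ⟨z, hz, ez⟩ := (zc_le _ ((b σ).mem ((st ⊤ σ).map π))).1
  refine ⟨z, hz, fun u hu => ?_⟩
  rw [e σ, map_add, hπ.add, dd_pos hσ, phiS_ρ_pos _ hu, push, k3_pos hπ ez hu]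

end Cfsg.Agent.Chk
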