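import Mathlib
import Cfsg.Agent.Chk.KeyB
import Cfsg.Agent.Chk.FusA

set_option autoImplicit false
set_option linter.unusedSectionVars false

namespace Cfsg.Agent.Chk

open Cfsg.Agent.Loc.Mss Subgroup

variable {G Γ : Type*} [Group G] [Finite G] [Group Γ] {p : ℕ} [Fact p.Prime] {π : G →* Γ}
  {S : Subgroup G} {F : FusionSystem S}

namespace Core

/-- `ψ` is a morphism on `P`, read in the charts `r'` and `r`. -/
def TM (F : FusionSystem S) (r r' : G) (P : Subgroup G) (ψ : G → G) : Prop :=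
  F.Mor cj(r'⁻¹, P) fun v => r⁻¹ * ψ (r' * v * r'⁻¹) * r

variable {r r' r'' : G} {P Q : Subgroup G} {ψ ψ' : G → G}

theorem mem_inv {v : G} : v ∈ cj(r⁻¹, P) ↔ r * v * r⁻¹ ∈ P := by rw [mem_cj, inv_inv]

theorem inv_mem' {u : G} (hu : u ∈ P) : r⁻¹ * u * r ∈ cj(r⁻¹, P) := mem_inv.2 (by simpa [mul_assoc] using hu)

theorem TM.congr (h : TM F r r' P ψ) (e : ∀ u ∈ P, ψ u = ψ' u) : TM F r r' P ψ' :=
  FusionSystem.Mor.congr h fun v hv => by beta_reduce; rw [e _ (mem_inv.1 hv)]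

theorem TM.mono (h : TM F r r' P ψ) (hQ : Q ≤ P) : TM F r r' Q ψ := FusionSystem.Mor.mono h (cj_mono _ hQ)

theorem TM.chg (h : TM F r r' P ψ) {t t' : G} (hs : t⁻¹ * r ∈ S) (hs' : r'⁻¹ * t' ∈ S) : TM F t t' P ψ := by
  have h1 : ∀ v ∈ cj(t'⁻¹, P), r'⁻¹ * t' * v * (r'⁻¹ * t')⁻¹ ∈ cj(r'⁻¹, P) := fun v hv =>
    mem_inv.2 (by simpa [mul_assoc] using mem_inv.1 hv)
  refine ((FusionSystem.Mor.comp h (F.mor_conj (fun v hv => ?_) hs') h1).conj_comp hs).congr fun v _ => ?_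
  · simpa [mul_assoc] using mul_mem (mul_mem (inv_mem hs') (FusionSystem.Mor.le h (h1 v hv))) hs'
  · simp [mul_assoc]

theorem TM.comp (h : TM F r r' P ψ) (h' : TM F r' r'' P ψ') (m : ∀ u ∈ P, ψ' u ∈ P) :
    TM F r r'' P fun u => ψ (ψ' u) :=
  (FusionSystem.Mor.comp h h' fun v hv => inv_mem' (m _ (mem_inv.1 hv))).congr fun v _ => by simp [mul_assoc]

theorem TM.conj (h : TM F r r' P ψ) (g : G) :
    TM F (g * r) (g * r') cj(g, P) fun u => g * ψ (g⁻¹ * u * g) * g⁻¹ := by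
  unfold TM
  rw [cj_cj, mul_inv_rev, inv_mul_cancel_right]
  exact FusionSystem.Mor.congr h fun v _ => by simp [mul_assoc]

theorem TM.mul (h : TM F r r' P ψ) {u v : G} (hu : u ∈ P) (hv : v ∈ P) : ψ (u * v) = ψ u * ψ v := by
  have := FusionSystem.Mor.map_mul h (inv_mem' hu) (inv_mem' hv)
  simp only [mul_assoc, mul_inv_cancel_left, mul_inv_cancel, mul_one, mul_right_inj] at this
  rwa [← mul_assoc, mul_left_inj] at this

theorem TM.fix (h : Over p F π) (t : TM F r r' P ψ) {a : G} (ha : a ∈ π.ker) (hP : a ∈ P) : ψ a = a := by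
  have c := mem_center_iff.1 (h.cen ha)
  have e : r' * a * r'⁻¹ = a := by rw [c, mul_inv_cancel_right]
  have := h.fix _ _ t a ha (mem_inv.2 (e.symm ▸ hP))
  rwa [e, mul_assoc, inv_mul_eq_iff_eq_mul, c, mul_left_inj] at this

theorem TM.uniq (h : Over p F π) (hP : P ∈ CC p π) (t : TM F r r' P ψ) (t' : TM F r r' P ψ')
    (e : ∀ u ∈ P, π (ψ u) = π (ψ' u)) : ∃ z ∈ P, ∀ u ∈ P, ψ' u = ψ (z * u * z⁻¹) := by
  obtain ⟨z, hz, e'⟩ := h.uniq ((cc_fam π).inv r'⁻¹ trivial P hP) t t' fun v hv => by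
    simp only [map_mul, e _ (mem_inv.1 hv)]
  exact ⟨_, mem_inv.1 hz, fun u hu => by simpa [mul_assoc] using e' _ (inv_mem' hu)⟩

theorem exists_tm (h : Over p F π) (hP : π.ker ≤ P) (h1 : cj(r⁻¹, P) ≤ S) (h2 : cj(r'⁻¹, P) ≤ S) :
    ∃ ψ, TM F r r' P ψ ∧ ∀ u ∈ P, π (ψ u) = π u := by
  obtain ⟨f, hf, e⟩ := h.up (r⁻¹ * r') _ (cj_normal π.ker r'⁻¹ ▸ cj_mono r'⁻¹ hP) h2 fun v hv =>
    h1 (by simpa [mul_assoc] using inv_mem' (r := r) (mem_inv.1 hv))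
  exact ⟨fun u => r * f (r'⁻¹ * u * r') * r⁻¹, hf.congr fun v _ => by simp [mul_assoc], fun u hu => by
    rw [map_mul, map_mul, e _ (inv_mem' hu)]; simp [mul_assoc]⟩

variable {𝔸 : Type*} [AddCommGroup 𝔸] {ι : 𝔸 → G}

theorem zero (hπ : CExt p π ι) : ι 0 = 1 := by simpa using hπ.add 0 0

theorem sub (hπ : CExt p π ι) (a b : 𝔸) : ι (a - b) = ι a * (ι b)⁻¹ := by
  rw [eq_mul_inv_iff_mul_eq, ← hπ.add, sub_add_cancel]

theorem comm (hπ : CExt p π ι) (a : 𝔸) (g : G) : g * ι a = ι a * g := mem_center_iff.1 (hπ.cen (hπ.mem a)) g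

theorem exists_phi (h : Over p F π) (hπ : CExt p π ι) (hP : π.ker ≤ P) (t : TM F r r' P ψ)
    (e : ∀ u ∈ P, π (ψ u) = π u) : ∃ δ ∈ (phiS 𝔸 π.ker).M P, ∀ u ∈ P, ψ u = ι (Phi.ev u δ) * u := by
  classical
  choose! d hd using fun u (hu : u ∈ P) => hπ.ex (ψ u * u⁻¹) (by
    rw [MonoidHom.mem_ker, map_mul, map_inv, e u hu, mul_inv_cancel])
  refine ⟨Phi.mk fun u => if u ∈ P then d u else 0, ⟨fun u hu v hv => hπ.inj ?_, fun a ha => hπ.inj ?_,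
    fun u hu => if_neg hu⟩, fun u hu => ?_⟩
  · simp only [Phi.ev_mk, if_pos hu, if_pos hv, if_pos (mul_mem hu hv)]
    rw [hπ.add, hd u hu, mul_assoc, comm hπ, hd v hv, hd _ (mul_mem hu hv), t.mul hu hv]
    group
  · rw [Phi.ev_mk, if_pos (hP ha), hd a (hP ha), t.fix h ha (hP ha), mul_inv_cancel, zero hπ]
  · rw [Phi.ev_mk, if_pos hu, hd u hu, inv_mul_cancel_right]

theorem ev_conj {δ : Phi G 𝔸} (hδ : δ ∈ (phiS 𝔸 π.ker).M P) {z u : G} (hz : z ∈ P) (hu : u ∈ P) :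
    Phi.ev (z * u * z⁻¹) δ = Phi.ev u δ := by
  rw [hδ.1 _ (mul_mem hz hu) _ (inv_mem hz), hδ.1 _ hz _ hu, phiS_inv hδ hz]; abel

theorem cc_up (hP : P ∈ CC p π) (le : P ≤ Q) (hQ : IsPGroup p Q) : Q ∈ CC p π :=
  ⟨hP.1.trans le, Cen.of_le hP.2 (map_mono le) (hQ.map π)⟩

theorem fin (hπ : CExt p π ι) (a b : 𝔸) (g x z : G) : z⁻¹ * (1⁻¹ * (ι (a - b) * (z * (g * x * g⁻¹) * z⁻¹ *
    (g * x * g⁻¹)⁻¹) * (g * x * g⁻¹)) * 1) * z⁻¹⁻¹ = g * (x * ι a) * g⁻¹ * (ι b)⁻¹ :=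
  calc _ = z⁻¹ * ι (a - b) * z * (g * x * g⁻¹) := by group
    _ = ι a * ((ι b)⁻¹ * (g * x * g⁻¹)) := by rw [comm hπ, sub hπ]; group
    _ = ι a * g * x * g⁻¹ * (ι b)⁻¹ := by rw [(Commute.inv_right (comm hπ b _)).symm.eq]; group
    _ = _ := by rw [← comm hπ a g, mul_assoc g, ← comm hπ a x]

theorem main {X : Type*} [MulAction G X] [MulAction Γ X] (h : Over p F π) (hπ : CExt p π ι) (hX : Good p Γ X)
    (hXa : ∀ (g : G) (x : X), g • x = π g • x) {x₀ : X} (hs : ∀ g : G, g • x₀ = x₀ ↔ g ∈ S)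
    (ht : ∀ x, ∃ r : G, r • x₀ = x) : ∃ χ : G → G, Fus.MulOn S χ ∧ (∀ x ∈ S, χ x ∈ π.ker) ∧
    (∀ a ∈ π.ker, χ a = 1) ∧ ∀ P ∈ CC p π, P ≤ S → ∀ g : G, (∀ x ∈ P, g * x * g⁻¹ ∈ S) →
      F.Mor P fun x => g * (x * χ x) * g⁻¹ * (χ (g * x * g⁻¹))⁻¹ := by
  have hG := good_pull hπ.pg hX hXa
  have le : ∀ (σ : Fin 2 → X) (i) (r : G), r • x₀ = σ i → cj(r⁻¹, st ⊤ σ) ≤ S := fun σ i r e v hv => (hs v).1 (by
    have := (mem_st.1 (mem_inv.1 hv)).2 i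
    rwa [← e, ← mul_smul, inv_mul_cancel_right, mul_smul, smul_left_cancel_iff] at this)
  have ch : ∀ r t : G, r • x₀ = t • x₀ → t⁻¹ * r ∈ S := fun r t e => (hs _).1 (by rw [mul_smul, e, inv_smul_smul])
  obtain ⟨f, hf, rel⟩ := exists_co (X := X) (n := 2) (phiS_ok h.cen hπ.exp ⊤) (cc_fam (p := p) π).inv
    (fun σ m => ∀ r r' : G, r • x₀ = σ 0 → r' • x₀ = σ 1 → TM F r r' (st ⊤ σ) fun u => ι (Phi.ev u m) * u)
    (fun g hg σ m _ _ t r r' e e' => by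
      have := (t (g⁻¹ * r) (g⁻¹ * r') (by rw [mul_smul, e, Pi.smul_apply, inv_smul_smul])
        (by rw [mul_smul, e', Pi.smul_apply, inv_smul_smul])).conj g
      rw [mul_inv_cancel_left, mul_inv_cancel_left, ← st_smul hg] at this
      refine this.congr fun u _ => ?_
      rw [Phi.ev_smul, ← mul_assoc, comm hπ]; group)
    fun σ hσ => by
      obtain ⟨r, e⟩ := ht (σ 0)
      obtain ⟨r', e'⟩ := ht (σ 1)
      obtain ⟨ψ, t, m⟩ := exists_tm h hσ.1 (le σ 0 r e) (le σ 1 r' e')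
      obtain ⟨δ, hδ, d⟩ := exists_phi h hπ hσ.1 t m
      exact ⟨δ, hδ, fun s s' a a' => (t.congr d).chg (ch _ _ (e.trans a.symm)) (ch _ _ (a'.trans e'.symm))⟩
  obtain ⟨c, hc, k⟩ := key hπ hX hXa hf fun σ hσ => by
    obtain ⟨x, y, z, rfl⟩ : ∃ x y z, σ = ![x, y, z] := ⟨_, _, _, eq_three_tuple σ⟩
    obtain ⟨rx, ex⟩ := ht x
    obtain ⟨ry, ey⟩ := ht y
    obtain ⟨rz, ez⟩ := ht z
    have l1 : st (⊤ : Subgroup G) ![x, y, z] ≤ st ⊤ ![x, y] := fun g hg =>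
      mem_st_two.2 ⟨trivial, (mem_st_three.1 hg).2.1, (mem_st_three.1 hg).2.2.1⟩
    have l2 : st (⊤ : Subgroup G) ![x, y, z] ≤ st ⊤ ![y, z] := fun g hg =>
      mem_st_two.2 ⟨trivial, (mem_st_three.1 hg).2.2⟩
    have l3 : st (⊤ : Subgroup G) ![x, y, z] ≤ st ⊤ ![x, z] := fun g hg =>
      mem_st_two.2 ⟨trivial, (mem_st_three.1 hg).2.1, (mem_st_three.1 hg).2.2.2⟩
    obtain ⟨w, hw, e⟩ := ((rel _ (cc_up hσ l3 (st_pg hG _ _)) rx rz ex ez).mono l3).uniq h hσ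
      (((rel _ (cc_up hσ l1 (st_pg hG _ _)) rx ry ex ey).mono l1).comp
        ((rel _ (cc_up hσ l2 (st_pg hG _ _)) ry rz ey ez).mono l2) fun u hu => mul_mem (hσ.1 (hπ.mem _)) hu)
      fun u _ => by simp only [map_mul, MonoidHom.mem_ker.1 (hπ.mem _), one_mul]
    refine ⟨w, hw, fun u hu => ?_⟩
    have e1 := e u hu
    rw [(hf.mem' _).1 _ (l1 (hσ.1 (hπ.mem _))) _ (l1 hu), (hf.mem' _).2.1 _ (hπ.mem _), zero_add,
      ev_conj (hf.mem' _) (l3 hw) (l3 hu)] at e1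
    rw [bd_two, map_add, map_sub, hπ.add, sub hπ, mul_assoc, ← comm hπ, mul_assoc, inv_mul_eq_iff_eq_mul,
      ← mul_assoc (ι _) (w * u * w⁻¹), ← e1]
    group
  have s0 : st (⊤ : Subgroup G) ![x₀] = S := Subgroup.ext fun g => mem_st_one.trans ((and_iff_right trivial).trans (hs g))
  have m0 := s0 ▸ hc.mem' ![x₀]
  refine ⟨fun u => ι (Phi.ev u (c ![x₀])), fun u hu v hv => by beta_reduce; rw [m0.1 u hu v hv, hπ.add], fun _ _ => hπ.mem _,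
    fun a ha => by beta_reduce; rw [m0.2.1 a ha, zero hπ], fun P hP hS g hg => ?_⟩
  have l : cj(g, P) ≤ st ⊤ ![x₀, g • x₀] := cj_le_iff.2 fun x hx => mem_st_two.2 ⟨trivial, (hs _).2 (hg x hx), by
    rw [← mul_smul, inv_mul_cancel_right, mul_smul, (hs x).2 (hS hx)]⟩
  have hQ := cc_up ((cc_fam π).inv g trivial P hP) l (st_pg hG _ _)
  obtain ⟨z, hz, e⟩ := k _ hQ
  have t : F.Mor _ _ := (rel _ hQ 1 g (one_smul _ _) rfl).mono l
  rw [cj_inv_cj] at t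
  refine (t.conj_comp (inv_mem ((hs z).1 (mem_st_two.1 hz).2.1))).congr fun x hx => ?_
  beta_reduce
  rw [e _ (l (conj_mem_cj hx)), bd_one, show ![g • x₀] = g • ![x₀] by simp, hc.smul g trivial, map_sub, Phi.ev_smul,
    show g⁻¹ * (g * x * g⁻¹) * g = x by group, fin hπ]

end Core

theorem core (h : Over p F π) : ∃ χ : G → G, Fus.MulOn S χ ∧ (∀ x ∈ S, χ x ∈ π.ker) ∧
    (∀ a ∈ π.ker, χ a = 1) ∧ ∀ P ∈ CC p π, P ≤ S → ∀ g : G, (∀ x ∈ P, g * x * g⁻¹ ∈ S) →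
      F.Mor P fun x => g * (x * χ x) * g⁻¹ * (χ (g * x * g⁻¹))⁻¹ := by
  have := Finite.of_surjective π h.surj
  letI : CommGroup π.ker := { (inferInstance : Group π.ker) with
    mul_comm := fun a b => Subtype.ext (mem_center_iff.1 (h.cen b.2) a) }
  letI := MulAction.compHom (Γ ⧸ S.map π) π
  refine Core.main (X := Γ ⧸ S.map π) (𝔸 := Additive π.ker) (ι := fun a => (a.toMul : G)) h
    ⟨h.surj, h.cen, h.syl.pg.to_le h.ker, fun _ _ => rfl, fun _ _ e => Additive.toMul.injective (Subtype.ext e),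
      fun a => a.toMul.2, fun g hg => ⟨Additive.ofMul ⟨g, hg⟩, rfl⟩⟩
    (good_quotient (map_top_of_surjective π h.surj ▸ h.syl.map π)) (fun _ _ => rfl) (x₀ := ((1 : Γ) : Γ ⧸ S.map π))
    (fun g => ?_) fun x => ?_
  · change π g • ((1 : Γ) : Γ ⧸ S.map π) = _ ↔ _
    rw [MulAction.Quotient.smul_mk, QuotientGroup.eq, smul_eq_mul, mul_one, mul_one, inv_mem_iff, ← mem_comap,
      comap_map_eq_self h.ker]
  · obtain ⟨y, rfl⟩ := QuotientGroup.mk_surjective x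
    obtain ⟨g, rfl⟩ := h.surj y
    exact ⟨g, congrArg QuotientGroup.mk (mul_one (π g))⟩

end Cfsg.Agent.Chk
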