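import Mathlib

/-!
# A central extension of a Sylow subgroup that is stable under fusion extends to the whole group
-/

set_option autoImplicit false

namespace Cfsg.Agent.Chk

open Subgroup MulAction
open scoped IsMulCommutative

universe u

variable {S G : Type u} [Group S] [Group G]

/-- `φ` lifts conjugation by `g⁻¹` and fixes the kernel. -/
structure Lifts (π : S →* G) (g : G) (φ : S → S) : Prop where
  mul : ∀ x y, g⁻¹ * π x * g ∈ π.range → g⁻¹ * π y * g ∈ π.range → φ (x * y) = φ x * φ y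
  ker : ∀ a, π a = 1 → φ a = a
  ovr : ∀ x, g⁻¹ * π x * g ∈ π.range → π (φ x) = g⁻¹ * π x * g

namespace Ext

variable (π : S →* G)

/-- The wreath product. -/
abbrev Wr := (G ⧸ π.range → S) ⋊[mulAutArrow] G

theorem wr_left (a b : Wr π) (y : G ⧸ π.range) : (a * b).left y = a.left y * b.left (a.right⁻¹ • y) := rfl

theorem wr_inv (a : Wr π) (y : G ⧸ π.range) : a⁻¹.left y = (a.left (a.right • y))⁻¹ := by
  show (a.left (a.right⁻¹⁻¹ • y))⁻¹ = _
  rw [inv_inv]

/-- The lifts of the monomial representation. -/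
def W (r : G ⧸ π.range → G) : Subgroup (Wr π) where
  carrier := {w | ∀ y, π (w.left y) = (r y)⁻¹ * w.right * r (w.right⁻¹ • y)}
  one_mem' := fun y => by simp
  mul_mem' := fun {a b} ha hb y => by
    rw [wr_left, map_mul, ha, hb, SemidirectProduct.mul_right, mul_inv_rev, mul_smul]
    group
  inv_mem' := fun {a} ha y => by
    rw [wr_inv, map_inv, ha, SemidirectProduct.inv_right, inv_inv, inv_smul_smul]
    group

variable {π} {r : G ⧸ π.range → G}

/-- The projection. -/
def pr : W π r →* G := SemidirectProduct.rightHom.comp (W π r).subtype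

theorem pr_apply (w : W π r) : pr w = w.1.right := rfl

theorem left_ker {w : W π r} (h : pr w = 1) (y : G ⧸ π.range) : π (w.1.left y) = 1 := by
  rw [w.2 y, ← pr_apply, h]
  simp

theorem pr_surj (hr : ∀ y, (r y : G ⧸ π.range) = y) : Function.Surjective (pr : W π r →* G) := fun g => by
  have h : ∀ y : G ⧸ π.range, ∃ s, π s = (r y)⁻¹ * g * r (g⁻¹ • y) := fun y => by
    have h1 : ((r y : G) : G ⧸ π.range) = ((g * r (g⁻¹ • y) : G) : G ⧸ π.range) := by
      rw [hr, ← smul_eq_mul, ← MulAction.Quotient.smul_coe, hr, smul_inv_smul]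
    rw [QuotientGroup.eq, ← mul_assoc] at h1
    exact h1
  choose f hf using h
  exact ⟨⟨⟨f, g⟩, hf⟩, rfl⟩

open Classical in
/-- The central part of an element. -/
noncomputable def cp (s : S) : center S := if h : s ∈ center S then ⟨s, h⟩ else 1

theorem cp_coe {s : S} (h : s ∈ center S) : (cp s : S) = s := by rw [cp, dif_pos h]

theorem cp_mul {s t : S} (hs : s ∈ center S) (ht : t ∈ center S) : cp (s * t) = cp s * cp t :=
  Subtype.ext (by rw [cp_coe (mul_mem hs ht), coe_mul, cp_coe hs, cp_coe ht])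

variable [Fintype (G ⧸ π.range)] (hA : π.ker ≤ center S)

/-- The product of the coordinates. -/
noncomputable def mu (w : W π r) : center S := ∏ y, cp (w.1.left y)

include hA

theorem mu_mul {a b : W π r} (ha : pr a = 1) (hb : pr b = 1) : mu (a * b) = mu a * mu b := by
  rw [mu, mu, mu, ← Finset.prod_mul_distrib]
  refine Finset.prod_congr rfl fun y _ => ?_
  rw [coe_mul, wr_left, ← pr_apply, ha, inv_one, one_smul, cp_mul (hA (left_ker ha y)) (hA (left_ker hb y))]

theorem mu_conj {a : W π r} (ha : pr a = 1) (w : W π r) : mu (w * a * w⁻¹) = mu a := by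
  rw [mu, mu, ← Equiv.prod_comp (MulAction.toPerm w.1.right⁻¹) fun y => cp (a.1.left y)]
  refine Finset.prod_congr rfl fun y _ => ?_
  have h1 : a.1.right = 1 := ha
  have h2 := mem_center_iff.1 (hA (left_ker ha (w.1.right⁻¹ • y))) (w.1.left y)
  rw [coe_mul, coe_mul, coe_inv, wr_left, wr_left, wr_inv, SemidirectProduct.mul_right, h1, mul_one, smul_inv_smul, h2,
    mul_inv_cancel_right]
  rfl

omit hA in
theorem mu_one : mu (1 : W π r) = 1 := by
  rw [mu]
  exact Finset.prod_eq_one fun y _ => Subtype.ext (cp_coe (s := 1) (one_mem _))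

theorem mu_inv {a : W π r} (ha : pr a = 1) : mu a⁻¹ = (mu a)⁻¹ := by
  rw [eq_inv_iff_mul_eq_one, ← mu_mul hA (by rw [map_inv, ha, inv_one]) ha, inv_mul_cancel, mu_one]

theorem mu_ker {a : W π r} (ha : pr a = 1) : π (mu a : S) = 1 := by
  rw [mu]
  refine Finset.prod_induction _ (fun z : center S => π (z : S) = 1) (fun x y hx hy => ?_) (map_one π) fun y _ => ?_
  · rw [coe_mul, map_mul, hx, hy, one_mul]
  · rw [cp_coe (hA (left_ker ha y)), left_ker ha]

/-- The kernel of the product map. -/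
def K : Subgroup (W π r) where
  carrier := {w | pr w = 1 ∧ mu w = 1}
  one_mem' := ⟨map_one _, mu_one⟩
  mul_mem' := fun {a b} ha hb => ⟨by rw [map_mul, ha.1, hb.1, one_mul], by rw [mu_mul hA ha.1 hb.1, ha.2, hb.2, one_mul]⟩
  inv_mem' := fun {a} ha => ⟨by rw [map_inv, ha.1, inv_one], by rw [mu_inv hA ha.1, ha.2, inv_one]⟩

instance K_normal : (K (r := r) hA).Normal :=
  ⟨fun a ha w => ⟨by rw [map_mul, map_mul, ha.1, mul_one, map_inv, mul_inv_cancel], (mu_conj hA ha.1 w).trans ha.2⟩⟩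

omit hA [Fintype (G ⧸ π.range)] in
theorem exists_hat (hφ : ∀ g, ∃ φ, Lifts π g φ) : ∃ r : G ⧸ π.range → G, (∀ y, (r y : G ⧸ π.range) = y) ∧
    ∃ j : S →* W π r, (∀ s, pr (j s) = π s) ∧ ∀ a, π a = 1 → (∀ s, s * a = a * s) → ∀ y, (j a).1.left y = a := by
  choose φ hφ using hφ
  let R : Setoid (G ⧸ π.range) := orbitRel π.range (G ⧸ π.range)
  let o : G ⧸ π.range → G ⧸ π.range := fun y => (Quotient.mk R y).out
  have ho : ∀ s y, o (π s • y) = o y := fun s y =>
    congrArg Quotient.out (Quotient.sound (s := R) (⟨⟨π s, s, rfl⟩, rfl⟩ : π s • y ∈ orbit π.range y))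
  have ho' : ∀ s y, o ((π s)⁻¹ • y) = o y := fun s y => by rw [← map_inv, ho]
  have ht : ∀ y, ∃ t : S, π t • o y = y := fun y => by
    obtain ⟨⟨_, t, rfl⟩, h⟩ : y ∈ orbit π.range (o y) := R.symm (Quotient.mk_out (s := R) y)
    exact ⟨t, h⟩
  choose t ht using ht
  have hs : ∀ s y, (o y).out⁻¹ * π ((t y)⁻¹ * s * t ((π s)⁻¹ • y)) * (o y).out ∈ π.range := fun s y => by
    rw [mul_assoc, ← QuotientGroup.eq, ← smul_eq_mul, ← MulAction.Quotient.smul_coe, QuotientGroup.out_eq', map_mul,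
      map_mul, mul_smul, mul_smul]
    nth_rewrite 2 [← ho' s y]
    rw [ht, smul_inv_smul, map_inv, eq_inv_smul_iff, ht]
  refine ⟨fun y => π (t y) * (o y).out, fun y => ?_, MonoidHom.mk' (fun s => ⟨⟨fun y => φ (o y).out
    ((t y)⁻¹ * s * t ((π s)⁻¹ • y)), π s⟩, fun y => ?_⟩) fun s s' => ?_, fun _ => rfl, fun a ha hc y => ?_⟩
  · show ((π (t y) * (o y).out : G) : G ⧸ π.range) = y
    rw [← smul_eq_mul, ← MulAction.Quotient.smul_coe, QuotientGroup.out_eq', ht]
  · show π (φ _ _) = (π (t y) * (o y).out)⁻¹ * π s * (π (t ((π s)⁻¹ • y)) * (o ((π s)⁻¹ • y)).out)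
    rw [(hφ _).ovr _ (hs s y), ho', map_mul, map_mul, map_inv]
    group
  · refine Subtype.ext (SemidirectProduct.ext (funext fun y => ?_) (map_mul _ _ _))
    have h1 := hs s' ((π s)⁻¹ • y)
    rw [ho'] at h1
    show φ _ _ = φ _ _ * φ (o ((π s)⁻¹ • y)).out _
    rw [ho', ← (hφ _).mul _ _ (hs s y) h1, map_mul, mul_inv_rev, mul_smul]
    congr 1
    group
  · show φ _ _ = a
    rw [ha, inv_one, one_smul, hc, inv_mul_cancel_right, (hφ _).ker a ha]

end Ext

open Ext in
/-- Extension of a stable central extension. -/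
theorem exists_ext [Finite S] [Finite G] {p : ℕ} [Fact p.Prime] (hS : IsPGroup p S) (π : S →* G)
    (hT : ¬ p ∣ π.range.index) (hA : π.ker ≤ center S) (hφ : ∀ g, ∃ φ, Lifts π g φ) :
    ∃ (H : Type u) (_ : Group H) (_ : Finite H) (ρ : H →* G) (ι : S →* H), Function.Surjective ρ ∧
      Function.Injective ι ∧ (∀ s, ρ (ι s) = π s) ∧ ρ.ker = π.ker.map ι ∧ ρ.ker ≤ center H := by
  have := Fintype.ofFinite (G ⧸ π.range)
  obtain ⟨r, hr, j, hj, hja⟩ := exists_hat hφ
  have hfin : Finite (Wr π) := Finite.of_equiv _ SemidirectProduct.equivProd.symm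
  have hn : Fintype.card (G ⧸ π.range) = π.range.index := by rw [index, Nat.card_eq_fintype_card]
  have hmu : ∀ a, π a = 1 → (mu (j a) : S) = a ^ π.range.index := fun a ha => by
    rw [mu, Finset.prod_congr rfl fun y _ => congrArg cp (hja a ha (mem_center_iff.1 (hA ha)) y), Finset.prod_const,
      Finset.card_univ, hn, Subgroup.coe_pow, cp_coe (hA ha)]
  have hco : (Nat.card S).Coprime π.range.index := by
    obtain ⟨k, hk⟩ := IsPGroup.iff_card.1 hS
    rw [hk]
    exact Nat.Coprime.pow_left k ((Nat.Prime.coprime_iff_not_dvd Fact.out).2 hT)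
  let ρ : W π r ⧸ K hA →* G := QuotientGroup.lift _ pr fun _ h => h.1
  refine ⟨W π r ⧸ K hA, inferInstance, inferInstance, ρ, (QuotientGroup.mk' _).comp j, fun g => ?_, ?_, hj, ?_, ?_⟩
  · obtain ⟨w, hw⟩ := pr_surj hr g
    exact ⟨w, hw⟩
  · refine (injective_iff_map_eq_one _).2 fun a ha => ?_
    have h1 : j a ∈ K hA := (QuotientGroup.eq_one_iff _).1 ha
    have h2 := hmu a ((hj a).symm.trans h1.1)
    rw [h1.2] at h2
    exact (powCoprime hco).injective (by rw [powCoprime_apply, powCoprime_apply, one_pow]; exact h2.symm)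
  · refine le_antisymm (fun x hx => ?_) ?_
    · obtain ⟨w, rfl⟩ := QuotientGroup.mk_surjective x
      have h1 : pr w = 1 := hx
      have hco' : (Nat.card π.ker).Coprime π.range.index := hco.coprime_dvd_left (card_subgroup_dvd_card _)
      obtain ⟨a, ha⟩ := (powCoprime hco').surjective ⟨mu w, mu_ker hA h1⟩
      have h2 : (a : S) ^ π.range.index = mu w := congrArg Subtype.val ha
      have h3 : pr (j a) = 1 := (hj a).trans a.2
      refine ⟨a, a.2, QuotientGroup.eq.2 ⟨by rw [map_mul, map_inv, h1, h3, inv_one, one_mul], ?_⟩⟩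
      rw [mu_mul hA (by rw [map_inv, h3, inv_one]) h1, mu_inv hA h3, inv_mul_eq_one]
      exact Subtype.ext ((hmu a a.2).trans h2)
    · rintro _ ⟨a, ha, rfl⟩
      exact (hj a).trans ha
  · intro x hx
    obtain ⟨a, rfl⟩ := QuotientGroup.mk_surjective x
    have h1 : pr a = 1 := hx
    refine mem_center_iff.2 fun y => ?_
    obtain ⟨w, rfl⟩ := QuotientGroup.mk_surjective y
    have h2 : pr (w * a * w⁻¹) = 1 := by rw [map_mul, map_mul, h1, mul_one, map_inv, mul_inv_cancel]
    have h3 : ((w * a * w⁻¹ : W π r) : W π r ⧸ K hA) = a := QuotientGroup.eq.2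
      ⟨by rw [map_mul, map_inv, h1, h2, inv_one, one_mul], by
        rw [mu_mul hA (by rw [map_inv, h2, inv_one]) h1, mu_inv hA h2, mu_conj hA h1, inv_mul_cancel]⟩
    rw [QuotientGroup.mk_mul, QuotientGroup.mk_mul, QuotientGroup.mk_inv, mul_inv_eq_iff_eq_mul] at h3
    exact h3

end Cfsg.Agent.Chk
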