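import Mathlib
import Cfsg.Agent.Fus.Free
import Cfsg.Agent.Chk.Ext

/-!
# Central factor systems: the easy direction, and passage to a central extension of groups
-/

set_option autoImplicit false

namespace Cfsg.Agent.Chk

open Subgroup Cfsg.FusionSystem Cfsg.Agent.Fus

universe u v w

variable {Ω : Type u} [Group Ω] {S : Subgroup Ω} {F : FusionSystem S} {p : ℕ} [Fact p.Prime]
  {Ω' : Type v} [Group Ω'] {S' : Subgroup Ω'} {E : FusionSystem S'} {A : Subgroup Ω}

/-- The realizing group can be taken in any universe. -/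
theorem exists_shrink (hS : IsPGroup p S) {G : Type*} [Group G] [Finite G] {j : Ω → G}
    (h : F.Realizes j ⊤) (e : ¬ p ∣ (img j S).index) :
    ∃ (G' : Type w) (_ : Group G') (_ : Finite G') (j' : Ω → G'),
      F.Realizes j' ⊤ ∧ ¬ p ∣ (img j' S).index := by
  let π : G ≃* Shrink.{w} G := Shrink.mulEquiv.symm
  have := Finite.of_equiv _ π.toEquiv
  exact ⟨Shrink.{w} G, inferInstance, inferInstance, _,
    h.quot hS e π.toMonoidHom π.surjective (by
      rw [π.toMonoidHom.ker_eq_bot_iff.2 π.injective, inf_bot_eq]),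
    by rwa [h.img_comp_hom, index_map_of_bijective π.bijective]⟩

theorem isRealizable_of_top (hS : IsPGroup p S) {G : Type*} [Group G] [Finite G] {j : Ω → G}
    (h : F.Realizes j ⊤) (e : ¬ p ∣ (img j S).index) : F.IsRealizable p := by
  obtain ⟨G', _, _, j', h', e'⟩ := exists_shrink.{u, u} hS h e
  exact ⟨G', inferInstance, inferInstance, _, h'.isRealizedBy, h'.exists_sylow hS e'⟩

theorem isRealizable_of_realizes (hS : IsPGroup p S) {G : Type*} [Group G] [Finite G] {j : Ω → G}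
    {H : Subgroup G} (h : F.Realizes j H) (e : ¬ p ∣ (img j S).relIndex H) : F.IsRealizable p :=
  isRealizable_of_top hS h.toSub (by rwa [h.img_toSub])

theorem exists_realizes (hS : IsPGroup p S) (h : F.IsRealizable p) :
    ∃ (G : Type w) (_ : Group G) (_ : Finite G) (j : Ω → G),
      F.Realizes j ⊤ ∧ ¬ p ∣ (img j S).index := by
  obtain ⟨G, _, _, ι, hι, T, hT⟩ := h
  exact exists_shrink hS hι.realizes (IsRealizedBy.not_dvd_index hT)

omit [Fact p.Prime] in
theorem central_comm (hA : F.IsCentral A) {a s : Ω} (ha : a ∈ A) (hs : s ∈ S) : s * a = a * s :=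
  mul_inv_eq_iff_eq_mul.1 (hA.fix (F.mor_conj hA.le hs) ha ha)

/-- The centralizer of a central subgroup still realizes the system. -/
theorem realizes_centralizer {G : Type*} [Group G] {j : Ω → G} (h : F.Realizes j ⊤)
    (hA : F.IsCentral A) : F.Realizes j (centralizer (img j A : Set G)) := by
  refine ⟨h.mulOn, h.inj, fun x hx => (h.mem_centralizer_img_iff hA.le hx).2
    fun a ha => (central_comm hA ha hx).symm, fun {P f} => ⟨fun hf => ⟨hf.le, fun _ => hf.mem, ?_⟩, ?_⟩⟩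
  · obtain ⟨k, hk, e1, e2⟩ := hA.extend hf
    obtain ⟨g, -, hg⟩ := h.exists_conj hk
    refine ⟨g, fun y hy => ?_, fun x hx => by rw [← e1 x hx, hg x (mem_sup_left hx)]⟩
    obtain ⟨a, ha, rfl⟩ := (h.mulOn.mem_img_of_le hA.le).1 hy
    have := hg a (mem_sup_right ha)
    rwa [e2 a ha, eq_mul_inv_iff_mul_eq] at this
  · rintro ⟨h1, h2, g, -, hg⟩
    exact h.mor_iff.2 ⟨h1, h2, g, trivial, hg⟩

/-- A central factor system of a realizable system is realizable. -/
theorem easy (hS : IsPGroup p S) (hA : F.IsCentral A) {θ : S →* Ω'} (hE : F.IsFactorSystem A θ E)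
    (h : F.IsRealizable p) : E.IsRealizable p := by
  obtain ⟨G, _, _, j₀, h₀, e₀⟩ := exists_realizes.{u, u} hS h
  have h₁ := realizes_centralizer h₀ hA
  have hj := h₁.toSub
  have hi : ¬ p ∣ (img (fun x => toSub (centralizer (img j₀ A : Set G)) (j₀ x)) S).index := by
    rw [h₁.img_toSub]
    exact fun H => e₀ (H.trans (relIndex_dvd_index_of_le h₁.img_le))
  have hv : ∀ x ∈ S, (toSub (centralizer (img j₀ A : Set G)) (j₀ x) : G) = j₀ x := fun x hx => by
    rw [toSub_apply (h₁.mem x hx)]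
  obtain ⟨j, hj, hi, hv⟩ : ∃ j : Ω → centralizer (img j₀ A : Set G), F.Realizes j ⊤ ∧
      ¬ p ∣ (img j S).index ∧ ∀ x ∈ S, (j x : G) = j₀ x := ⟨_, hj, hi, hv⟩
  have hn : (img j A).Normal := ⟨fun n hn g => by
    obtain ⟨a, ha, rfl⟩ := (hj.mulOn.mem_img_of_le hA.le).1 hn
    have h1 := g.2 _ (mem_img_of_mem (f := j₀) ha)
    have : g * j a * g⁻¹ = j a := Subtype.ext (by
      rw [coe_mul, coe_mul, hv a (hA.le ha), ← h1, coe_inv, mul_inv_cancel_right])
    rwa [this]⟩
  obtain ⟨j', hj', e⟩ := hE.isFac.realizes hj hS hi (QuotientGroup.mk' (img j A))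
    (QuotientGroup.mk'_surjective _) fun x hx => by
      rw [QuotientGroup.mk'_apply, QuotientGroup.eq_one_iff, hj.apply_mem_img_iff hA.le hx,
        ← hE.ker_eq, hE.isFac.mulOn.mem_pre_bot, and_iff_right hx]
  refine isRealizable_of_top (hE.isFac.isPGroup hS) hj' ?_
  rw [← hE.isFac.img_eq, ← hE.isFac.mulOn.img_comp, img_congr e, hj.img_comp_hom]
  exact fun H => hi (H.trans (index_map_dvd _ (QuotientGroup.mk'_surjective _)))

/-- If the factor system is realizable, the Sylow subgroup embeds in a central extension of the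
realizing group. -/
theorem exists_cext [Finite S] (hS : IsPGroup p S) (hA : F.IsCentral A) {θ : S →* Ω'}
    (hE : F.IsFactorSystem A θ E) (h : E.IsRealizable p) :
    ∃ (H G : Type u) (_ : Group H) (_ : Group G) (_ : Finite H) (_ : Finite G) (ρ : H →* G)
      (ι : S →* H) (j : Ω' → G), Function.Surjective ρ ∧ Function.Injective ι ∧ E.Realizes j ⊤ ∧
      (∀ s, ρ (ι s) = j (θ s)) ∧ ¬ p ∣ ι.range.index ∧ ρ.ker = (A.subgroupOf S).map ι ∧
      ρ.ker ≤ center H := by
  classical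
  have hF := hE.isFac
  obtain ⟨G, _, _, j, hj, hi⟩ := exists_realizes.{v, u} (hF.isPGroup hS) h
  have hθ : ∀ s : S, θ s ∈ S' := fun s => hE.2.2.1 ▸ ⟨s, rfl⟩
  let π : S →* G := hj.mulOn.hom.comp (θ.codRestrict S' hθ)
  have hπ : ∀ s, π s = j (θ s) := fun _ => rfl
  have hr : π.range = img j S' := by
    ext y
    rw [hj.mulOn.mem_img]
    constructor
    · rintro ⟨s, rfl⟩
      exact ⟨_, hθ s, rfl⟩
    · rintro ⟨x, hx, rfl⟩
      obtain ⟨s, rfl⟩ : x ∈ θ.range := hE.2.2.1.symm ▸ hx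
      exact ⟨s, rfl⟩
  have hk : ∀ s, π s = 1 ↔ (s : Ω) ∈ A := fun s => by
    rw [← hE.2.1, hπ, ← hj.mulOn.map_one]
    exact ⟨hj.inj _ (hθ s) _ (one_mem _), fun h => by rw [h]⟩
  have hk' : π.ker = A.subgroupOf S := Subgroup.ext hk
  obtain ⟨H, _, _, ρ, ι, h1, h2, h3, h4, h5⟩ := exists_ext hS π (hr ▸ hi)
    (fun a ha => mem_center_iff.2 fun s => Subtype.ext (central_comm hA ((hk a).1 ha) s.2)) fun g => by
      let P' : Subgroup Ω' := pre j S' ((img j S').map (MulAut.conj g).toMonoidHom)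
      have hP' : ∀ y, y ∈ P' ↔ y ∈ S' ∧ g⁻¹ * j y * g ∈ img j S' := fun y => by
        rw [hj.mulOn.mem_pre, mem_map_equiv]
        simp
      obtain ⟨f', hf', e'⟩ := hj.exists_mor (P := P') (pre_le _ _ _) (g := g⁻¹) trivial fun y hy => by
        simpa using ((hP' y).1 hy).2
      obtain ⟨f, hf, e⟩ := hF.lift hf'
      have hP : ∀ x : S, g⁻¹ * π x * g ∈ π.range → (x : Ω) ∈ pre (tot θ) S P' := fun x hx =>
        mem_pre_of x.2 (by rw [tot_coe]; exact (hP' _).2 ⟨hθ x, hr ▸ hx⟩)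
      have hv : ∀ x : S, g⁻¹ * π x * g ∈ π.range → (toSub S (f x) : Ω) = f x := fun x hx => by
        rw [toSub_apply (hf.mem (hP x hx))]
      refine ⟨fun x => toSub S (f x), fun x y hx hy => Subtype.ext ?_, fun a ha => Subtype.ext ?_,
        fun x hx => ?_⟩
      · have hxy : g⁻¹ * π (x * y) * g ∈ π.range := by
          have := mul_mem hx hy
          rwa [show g⁻¹ * π x * g * (g⁻¹ * π y * g) = g⁻¹ * π (x * y) * g by
            rw [map_mul]; group] at this
        rw [hv _ hxy, coe_mul, coe_mul, hv x hx, hv y hy, hf.map_mul (hP x hx) (hP y hy)]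
      · have ha' : g⁻¹ * π a * g ∈ π.range := by
          rw [ha]; simp
        rw [hv a ha', hA.fix hf (hP a ha') ((hk a).1 ha)]
      · have h1 := e x (hP x hx)
        have h2 := e' (θ x) ((hP' _).2 ⟨hθ x, hr ▸ hx⟩)
        rw [tot_coe, ← hv x hx, tot_coe] at h1
        rw [hπ, ← h1, h2, inv_inv, hπ]
  refine ⟨H, G, inferInstance, inferInstance, inferInstance, inferInstance, ρ, ι, j, h1, h2, hj, h3,
    ?_, hk' ▸ h4, h5⟩
  have h6 : ι.range = π.range.comap ρ := by
    refine le_antisymm ?_ fun x ⟨s, hs⟩ => ?_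
    · rintro _ ⟨s, rfl⟩
      exact ⟨s, (h3 s).symm⟩
    · have : (ι s)⁻¹ * x ∈ ρ.ker := by
        rw [MonoidHom.mem_ker, map_mul, map_inv, h3, hs, inv_mul_cancel]
      rw [h4] at this
      obtain ⟨a, -, ha⟩ := this
      exact ⟨s * a, by rw [map_mul, ha, mul_inv_cancel_left]⟩
  rwa [h6, index_comap_of_surjective _ h1, hr]

/-- The internal form: the system lives on a Sylow subgroup of a central extension. -/
theorem exists_internal [Finite S] (hS : IsPGroup p S) (hF : F.IsSaturated p) (hA : F.IsCentral A)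
    {θ : S →* Ω'} (hE : F.IsFactorSystem A θ E) (h : E.IsRealizable p) :
    ∃ (H G : Type u) (_ : Group H) (_ : Group G) (_ : Finite H) (_ : Finite G) (ρ : H →* G)
      (T : Subgroup H) (D : FusionSystem T), Function.Surjective ρ ∧ ρ.ker ≤ center H ∧
      ρ.ker ≤ T ∧ IsPGroup p T ∧ ¬ p ∣ T.index ∧ D.IsSaturated p ∧ D.IsCentral ρ.ker ∧
      D.IsQuot ρ (groupFusionSystem (T.map ρ)) ∧ (D.IsRealizable p → F.IsRealizable p) := by
  classical
  obtain ⟨H, G, _, _, _, _, ρ, ι, j, h1, h2, hj, h3, h4, h5, h6⟩ := exists_cext hS hA hE h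
  obtain ⟨η, hη⟩ : ∃ η : H → Ω, ∀ x ∈ S, η (tot ι x) = x :=
    ⟨fun y => ((Function.invFun ι y : S) : Ω), fun x hx => by
      simp only [tot_apply ι hx, Function.leftInverse_invFun h2 _]⟩
  obtain ⟨D, hD⟩ := F.exists_isIsoVia (mulOn_tot ι) (range_eq_img_tot ι).symm hη
  have hk : ρ.ker = img (tot ι) A := by
    rw [h5, ← imageAlong_eq_img ι hA.le]; rfl
  have hT := hD.isPGroup hS
  have hD' := hD.isSaturated hF hS
  have hc : D.IsCentral ρ.ker := hk ▸ hD.isCentral hA
  refine ⟨H, G, inferInstance, inferInstance, inferInstance, inferInstance, ρ, ι.range, D, h1, h6,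
    hc.le, hT, h4, hD', hc, ?_, hD.symm.isRealizable⟩
  have hm : MulOn ι.range ρ := fun _ _ _ _ => map_mul _ _ _
  have hb : pre ρ ι.range ⊥ = ρ.ker := by
    ext x
    rw [hm.mem_pre_bot]
    exact ⟨fun h => h.2, fun h => ⟨hc.le h, h⟩⟩
  obtain ⟨E₂, hE₂⟩ := hD'.exists_isQuot hT hm (img_eq_map ρ _) (hb ▸ hc.isNormal.stronglyClosed)
  have hQ := hE.isQuot hF hS hA.isNormal.stronglyClosed
  have h7 : ∀ x ∈ S, ρ (tot ι x) = j (tot θ x) := fun x hx => by
    rw [tot_apply ι hx, tot_apply θ hx, h3]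
  convert hE₂ using 1
  refine le_antisymm' (le_iff_mor.2 fun P f hf => ?_) (le_iff_mor.2 fun P f hf => ?_)
  · obtain ⟨hP, hfT, g, hg⟩ := mor_group_iff.1 hf
    have hmj : MulOn S fun x => ρ (tot ι x) := fun x hx y hy => by
      simp only [(mulOn_tot ι).map_mul hx hy, map_mul]
    have hS' : ∀ y, y ∈ ι.range.map ρ ↔ y ∈ img j S' := fun y => by
      rw [← hQ.img_eq, ← hQ.mulOn.img_comp, ← img_congr h7, (mulOn_tot ι).img_comp,
        ← range_eq_img_tot, img_eq_map]
    obtain ⟨f', hf', e'⟩ := hj.exists_mor (P := pre j S' P) (pre_le _ _ _) (g := g) trivial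
      fun y hy => by
        have := hj.mulOn.apply_mem_of_pre hy
        rw [← hg _ this, ← hS']
        exact hfT _ this
    obtain ⟨f₁, hf₁, e₁⟩ := hQ.toIsFac.lift hf'
    have h8 := hD.push hf₁
    have h9 : img ρ (img (tot ι) (pre (tot θ) S (pre j S' P))) = P := by
      rw [← ((mulOn_tot ι).mono (pre_le _ _ _)).img_comp,
        img_congr fun x hx => h7 x (pre_le _ _ _ hx), (hQ.mulOn.mono (pre_le _ _ _)).img_comp,
        hQ.toIsFac.img_pre (pre_le _ _ _), hj.mulOn.img_pre fun y hy => (hS' y).1 (hP hy)]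
    rw [← h9]
    refine hE₂.mor_of_compat h8 fun y hy => ?_
    obtain ⟨x, hx, rfl⟩ := ((mulOn_tot ι).mem_img_of_le (pre_le _ _ _)).1 hy
    have hx1 := hQ.mulOn.apply_mem_of_pre hx
    rw [hη x (hf₁.le hx), h7 _ (hf₁.mem hx), ← e₁ x hx, e' _ hx1, h7 x (hf₁.le hx),
      hg _ (hj.mulOn.apply_mem_of_pre hx1)]
  · obtain ⟨f₁, hf₁, e₁⟩ := hE₂.toIsFac.lift hf
    obtain ⟨f', hf', e'⟩ := hQ.push (hD.pull hf₁)
    obtain ⟨g, -, hg⟩ := hj.exists_conj hf'
    refine mor_group_iff.2 ⟨hf.le, fun _ => hf.mem, g, fun y hy => ?_⟩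
    obtain ⟨x, hx, rfl⟩ := hE₂.toIsFac.exists_pre hf.le hy
    have hx1 := mem_img_of_mem (f := η) hx
    have hx2 := hD.right x (hf₁.le hx)
    have h8 := hg _ (mem_img_of_mem (f := tot θ) hx1)
    rw [e' _ hx1, hx2, ← h7 _ (hD.maps' _ (hf₁.mem hx)), ← h7 _ (hD.maps' _ (hf₁.le hx)), hx2,
      hD.right _ (hf₁.mem hx)] at h8
    rw [e₁ x hx, h8]

/-- The statement follows from its hard direction. -/
theorem exotic_iff [Finite S] (hS : IsPGroup p S) (hF : F.IsSaturated p) (hA : F.IsCentral A)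
    {θ : S →* Ω'} (hE : F.IsFactorSystem A θ E) (h : E.IsRealizable p → F.IsRealizable p) :
    F.IsExotic p ↔ E.IsExotic p :=
  ⟨fun H => ⟨(hE.isQuot hF hS hA.isNormal.stronglyClosed).isSaturated hF hS, mt h H.2⟩,
    fun H => ⟨hF, mt (easy hS hA hE) H.2⟩⟩

end Cfsg.Agent.Chk
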