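import Mathlib
import Cfsg.Agent.Chk.Core

/-! A saturated system lying over a central quotient is realized by the group itself. -/

set_option autoImplicit false

namespace Cfsg.Agent.Chk

open Cfsg.Agent.Loc.Mss Subgroup

variable {G Γ : Type*} [Group G] [Finite G] [Group Γ] {p : ℕ} [Fact p.Prime] {π : G →* Γ}
  {S : Subgroup G} {F : FusionSystem S}

namespace Fin1

open Cfsg.Agent.Fus Cfsg.FusionSystem

/-- the system pulled back along an injective map -/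
theorem exists_real {Ω H : Type*} [Group Ω] [Group H] {T : Subgroup Ω} {j : Ω → H}
    (hj : MulOn T j) (hi : ∀ x ∈ T, ∀ y ∈ T, j x = j y → x = y) :
    ∃ E : FusionSystem T, E.Realizes j ⊤ := by
  have hm : ∀ {P : Subgroup Ω} {f : Ω → Ω}, (P ≤ T ∧ (∀ x ∈ P, f x ∈ T) ∧
      ∃ g ∈ (⊤ : Subgroup H), ∀ x ∈ P, j (f x) = g * j x * g⁻¹) → MulOn P f := by
    rintro P f ⟨h1, h2, g, -, e⟩ x hx y hy
    refine hi _ (h2 _ (mul_mem hx hy)) _ (mul_mem (h2 x hx) (h2 y hy)) ?_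
    rw [e _ (mul_mem hx hy), hj _ (h2 x hx) _ (h2 y hy), e x hx, e y hy, hj x (h1 hx) y (h1 hy)]
    group
  have hin : ∀ {P : Subgroup Ω} {f : Ω → Ω}, (P ≤ T ∧ (∀ x ∈ P, f x ∈ T) ∧
      ∃ g ∈ (⊤ : Subgroup H), ∀ x ∈ P, j (f x) = g * j x * g⁻¹) →
      ∀ x ∈ P, ∀ y ∈ P, f x = f y → x = y := by
    rintro P f ⟨h1, -, g, -, e⟩ x hx y hy l
    refine hi x (h1 hx) y (h1 hy) ?_
    have := (e x hx).symm.trans (l ▸ e y hy)
    simpa using this
  refine ⟨ofMor (M := fun P f => P ≤ T ∧ (∀ x ∈ P, f x ∈ T) ∧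
    ∃ g ∈ (⊤ : Subgroup H), ∀ x ∈ P, j (f x) = g * j x * g⁻¹)
    ⟨?_, hm, fun h => h.1, fun h => h.2.1, hin, ?_, ?_, ?_⟩, hj, hi, fun _ _ => mem_top _,
    mor_ofMor _⟩
  · rintro P f f' ⟨h1, h2, g, hg, e⟩ e'
    exact ⟨h1, fun x hx => e' x hx ▸ h2 x hx, g, hg, fun x hx => e' x hx ▸ e x hx⟩
  · intro P s hP hs
    exact ⟨hP, fun x hx => mul_mem (mul_mem hs (hP hx)) (inv_mem hs), j s, mem_top _,
      fun x hx => hj.map_conj hs (hP hx)⟩
  · rintro P Q f f' ⟨h1, -, g, -, e⟩ ⟨-, h2, g', -, e'⟩ hm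
    refine ⟨h1, fun x hx => h2 _ (hm x hx), g' * g, mem_top _, fun x hx => ?_⟩
    rw [e' _ (hm x hx), e x hx]
    group
  · intro P f hf
    choose! k hk ek using fun y (hy : y ∈ img f P) => (hm hf).mem_img.1 hy
    obtain ⟨h1, h2, g, -, e⟩ := id hf
    refine ⟨k, ⟨img_le_iff.2 h2, fun y hy => h1 (hk y hy), g⁻¹, mem_top _, fun y hy => ?_⟩,
      fun x hx => hin hf _ (hk _ (mem_img_of_mem hx)) x hx (ek _ (mem_img_of_mem hx))⟩
    have := e _ (hk y hy)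
    rw [ek y hy] at this
    rw [this]
    group

/-- the twisting character -/
structure Tw (π : G →* Γ) (S : Subgroup G) (χ : G → G) : Prop where
  cen : π.ker ≤ center G
  ker : π.ker ≤ S
  mul : MulOn S χ
  mem : ∀ x ∈ S, χ x ∈ π.ker
  one : ∀ a ∈ π.ker, χ a = 1

namespace Tw

variable {χ : G → G} (t : Tw π S χ)
include t

theorem comm {x : G} (hx : x ∈ S) (g : G) : g * χ x = χ x * g :=
  mem_center_iff.1 (t.cen (t.mem x hx)) g

theorem chi_mul {x a : G} (hx : x ∈ S) (ha : a ∈ π.ker) : χ (x * a) = χ x := by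
  rw [t.mul x hx a (t.ker ha), t.one a ha, mul_one]

theorem conj {x : G} (hx : x ∈ S) (g : G) : g * (x * χ x) * g⁻¹ = g * x * g⁻¹ * χ x := by
  rw [mul_assoc (g * x), t.comm hx g⁻¹]
  group

theorem mulOn : MulOn S fun x => x * χ x := fun x hx y hy => by
  dsimp only
  rw [t.mul x hx y hy, mul_assoc x y, ← mul_assoc y, t.comm hx y]
  group

theorem inj : ∀ x ∈ S, ∀ y ∈ S, x * χ x = y * χ y → x = y := fun x hx y hy e => by
  have := congrArg χ e
  rw [t.chi_mul hx (t.mem x hx), t.chi_mul hy (t.mem y hy)] at this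
  rw [this] at e
  exact mul_right_cancel e

theorem img_eq : img (fun x => x * χ x) S = S := by
  refine le_antisymm (img_le_iff.2 fun x hx => mul_mem hx (t.ker (t.mem x hx))) fun s hs => ?_
  have a := inv_mem (t.mem s hs)
  refine t.mulOn.mem_img.2 ⟨s * (χ s)⁻¹, mul_mem hs (t.ker a), ?_⟩
  rw [t.chi_mul hs a, inv_mul_cancel_right]

theorem pi {x : G} (hx : x ∈ S) (g : G) : π (g * (x * χ x) * g⁻¹) = π (g * x * g⁻¹) := by
  rw [t.conj hx, map_mul, (MonoidHom.mem_ker.1 (t.mem x hx) : π (χ x) = 1), mul_one]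

theorem pi' {x : G} (hx : x ∈ S) : π (x * χ x) = π x := by simpa using t.pi hx 1

theorem key {x g : G} (hx : x ∈ S) (hg : g * x * g⁻¹ ∈ S) :
    g * (x * χ x) * g⁻¹ * (χ (g * x * g⁻¹))⁻¹ *
      χ (g * (x * χ x) * g⁻¹ * (χ (g * x * g⁻¹))⁻¹) = g * (x * χ x) * g⁻¹ := by
  rw [t.conj hx, mul_assoc (g * x * g⁻¹) (χ x),
    t.chi_mul hg (mul_mem (t.mem x hx) (inv_mem (t.mem _ hg)))]
  group

theorem ovr (h : Over p F π) {E : FusionSystem S} (r : E.Realizes (fun x => x * χ x) ⊤) :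
    Over p E π := by
  refine ⟨h.surj, h.cen, h.syl, h.ker, r.isSaturated h.syl.pg (t.img_eq.symm ▸ h.syl.nd),
    fun P f hf a ha aP => ?_, fun P f hf => ?_, fun g P _ hP hg => ?_⟩
  · obtain ⟨g, -, e⟩ := r.exists_conj hf
    refine t.inj _ (hf.mem aP) a (t.ker ha) ((e a aP).trans ?_)
    rw [t.one a ha, mul_one, mem_center_iff.1 (t.cen ha) g, mul_inv_cancel_right]
  · obtain ⟨g, -, e⟩ := r.exists_conj hf
    exact ⟨g, fun x hx => (t.pi' (hf.mem hx)).symm.trans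
      ((congrArg π (e x hx)).trans (t.pi (hf.le hx) g))⟩
  · obtain ⟨f, hf, e⟩ := r.exists_mor hP (mem_top g) fun x hx => by
      rw [t.img_eq, t.conj (hP hx)]
      exact mul_mem (hg x hx) (t.ker (t.mem x (hP hx)))
    exact ⟨f, hf, fun x hx => (t.pi' (hf.mem hx)).symm.trans
      ((congrArg π (e x hx)).trans (t.pi (hP hx) g))⟩

end Tw

end Fin1

theorem main_in (h : Over p F π) : ∃ j : G → G, F.Realizes j ⊤ ∧ Fus.img j S = S := by
  obtain ⟨χ, h1, h2, h3, hc⟩ := core h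
  have t : Fin1.Tw π S χ := ⟨h.cen, h.ker, h1, h2, h3⟩
  obtain ⟨E, r⟩ := Fin1.exists_real t.mulOn t.inj
  have h' := t.ovr h r
  have hS : ∀ {x y : G}, x ∈ S → π x = π y → y ∈ S := fun {x y} hx e => by
    have := mul_mem hx (h.ker (show π (x⁻¹ * y) = 1 by rw [map_mul, map_inv, e, inv_mul_cancel]))
    simpa using this
  refine ⟨_, ⟨t.mulOn, t.inj, r.mem, fun {P f} => Iff.trans ⟨fun hf => ?_, fun hf => ?_⟩ r.mor_iff⟩,
    t.img_eq⟩
  · refine h.sat.mor_of_alperin h.syl.pg (fun R φ hR hφ => ?_) hf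
    have rS := hφ.mor.le
    obtain ⟨g, e⟩ := h.down R φ hφ.mor
    have gS : ∀ x ∈ R, g * x * g⁻¹ ∈ S := fun x hx => hS (hφ.mor.mem hx) (e x hx)
    obtain ⟨z, hz, l⟩ := h.uniq (h.mem_cc hR) (hc R (h.mem_cc hR) rS g gS) hφ.mor fun x hx => by
      rw [map_mul, t.pi (rS hx), map_inv, (MonoidHom.mem_ker.1 (h2 _ (gS x hx)) : π _ = 1),
        inv_one, mul_one, e x hx]
    refine r.mor_iff.2 ⟨rS, fun x hx => hφ.mor.mem hx, g * (z * χ z), mem_top _, fun x hx => ?_⟩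
    have m := mul_mem (mul_mem hz hx) (inv_mem hz)
    have := t.mulOn.map_conj (rS hz) (rS hx)
    rw [l x hx, t.key (rS m) (gS _ m), this]
    group
  · refine h'.sat.mor_of_alperin h.syl.pg (fun R φ hR hφ => ?_) hf
    have rS := hφ.mor.le
    obtain ⟨g, -, e⟩ := r.exists_conj hφ.mor
    have gS : ∀ x ∈ R, g * x * g⁻¹ ∈ S := fun x hx => hS (hφ.mor.mem hx)
      ((t.pi' (hφ.mor.mem hx)).symm.trans ((congrArg π (e x hx)).trans (t.pi (rS hx) g)))
    have m := hc R (h'.mem_cc hR) rS g gS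
    exact m.congr fun x hx => t.inj _ (m.mem hx) _ (hφ.mor.mem hx)
      ((t.key (rS hx) (gS x hx)).trans (e x hx).symm)

end Cfsg.Agent.Chk
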